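import Groth.Agent.AffSpecLib.Geo
import Groth.Agent.MonoFibre.AffineKernel
import Groth.Agent.MonoFibre.AntiAffine
import Groth.Agent.MonoFibre.KerAntiAffine

/-!
# A group with enough functions with finite spans of translates is affine
-/

set_option autoImplicit false
set_option backward.isDefEq.respectTransparency false
set_option backward.isDefEq.respectTransparency.types false
set_option linter.style.haveILetI false
set_option linter.unusedSectionVars false

universe u

open CategoryTheory CategoryTheory.Limits MonoidalCategory CartesianMonoidalCategory MonObj AlgebraicGeometry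
open Topology IsLocalRing

attribute [-instance] CategoryTheory.CommGrpObj.toIsCommMonObj CategoryTheory.CommGrpObj.toGrpObj CategoryTheory.Hom.commGroup

noncomputable section

namespace Groth.Agent.AffSpecLib

variable {k : Type u} [Field k]

theorem stMap_germ {X Y : Scheme.{u}} (f : X ⟶ Y) (x : X) (y : Y) (h : f x ⤳ y) (U : Y.Opens) (hy : y ∈ U)
    (s : Γ(Y, U)) :
    stMap f x y h (Y.presheaf.germ U y hy s) = X.presheaf.germ (f ⁻¹ᵁ U) x (h.mem_open U.2 hy) (f.app U s) := by
  rw [stMap, CommRingCat.comp_apply, TopCat.Presheaf.germ_stalkSpecializes_apply Y.presheaf (U := U) hy,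
    Scheme.Hom.germ_stalkMap_apply]

theorem stMap_surjective {X Y : Scheme.{u}} (f : X ⟶ Y) [IsPreimmersion f] (x : X) (y : Y) (hxy : f x = y) :
    Function.Surjective (stMap f x y (specializes_of_eq hxy)) := by
  subst hxy
  intro z
  obtain ⟨w, rfl⟩ := f.stalkMap_surjective x z
  exact ⟨w, by simp [stMap, TopCat.Presheaf.stalkSpecializes_refl]⟩

theorem mem_range_of_root [IsAlgClosed k] {A : Type u} [CommRing A] [IsDomain A] (φ : k →+* A) (g : A)
    (p : Polynomial k) (hp : p ≠ 0) (h : p.eval₂ φ g = 0) : ∃ c, φ c = g := by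
  letI := φ.toAlgebra
  have hi : IsIntegral k g := IsAlgebraic.isIntegral ⟨p, hp, h⟩
  exact minpoly.mem_range_of_degree_eq_one k g (IsAlgClosed.degree_eq_one_of_irreducible k (minpoly.irreducible hi))

variable (Γ' : Over (Spec (CommRingCat.of k))) [GrpObj Γ'] [IsIntegral Γ'.left] [LocallyOfFiniteType Γ'.hom]

/-- The global functions inside the function field. -/
def glob : Γ(Γ'.left, ⊤) →+* Γ'.left.functionField := (Γ'.left.presheaf.germ ⊤ (genericPoint Γ'.left) trivial).hom

theorem glob_injective : Function.Injective (glob Γ') :=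
  germ_injective_of_isIntegral Γ'.left (U := ⊤) (genericPoint Γ'.left) trivial

set_option maxHeartbeats 1600000 in
/-- Functions with finite dimensional spans of translates by a dense set of points are global. -/
theorem mem_glob [IsAlgClosed k] (S : Set (𝟙_ (Over (Spec (CommRingCat.of k))) ⟶ Γ'))
    (hS : Dense ((fun c => c.left GenSubLib.base₀) '' S)) (nil : Prop) (q : Γ'.left.functionField)
    (hq : q ∈ transSet Γ' S nil) : q ∈ (glob Γ').range := by
  classical
  letI algF : Algebra k Γ'.left.functionField := ffAlg Γ'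
  obtain ⟨⟨Q, hQ, hqQ, hQs⟩, -⟩ := hq
  haveI := hQ
  let X := Γ'.left
  let γ₀ := genericPoint X
  have hsec : ∀ z : X.functionField, ∃ (U : X.Opens) (hU : γ₀ ∈ U), ∃ s, X.presheaf.germ U γ₀ hU s = z := fun z =>
    X.presheaf.exists_germ_eq z
  choose Uf hUf sf hsf using hsec
  obtain ⟨gs, hgs⟩ := Module.Finite.iff_fg.1 hQ
  let W : X.Opens := gs.inf Uf
  have hγW : γ₀ ∈ W := by
    show γ₀ ∈ gs.inf Uf
    clear hgs
    induction gs using Finset.induction_on with
    | empty => simp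
    | insert a s _ ih => rw [Finset.inf_insert]; exact ⟨hUf a, ih⟩
  have hQW : ∀ z ∈ Q, ∃ s, X.presheaf.germ W γ₀ hγW s = z := by
    intro z hz
    rw [← hgs] at hz
    induction hz using Submodule.span_induction with
    | mem x hx =>
      refine ⟨X.presheaf.map (homOfLE (Finset.inf_le hx : W ≤ Uf x)).op (sf x), ?_⟩
      rw [TopCat.Presheaf.germ_res_apply, hsf]
    | zero => exact ⟨0, map_zero _⟩
    | add x y _ _ hx hy =>
      obtain ⟨a, rfl⟩ := hx
      obtain ⟨b, rfl⟩ := hy
      exact ⟨a + b, map_add _ _ _⟩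
    | smul c x _ hx =>
      obtain ⟨a, rfl⟩ := hx
      refine ⟨X.presheaf.map (homOfLE (le_top : W ≤ ⊤)).op
        (Γ'.hom.appTop ((Scheme.ΓSpecIso (CommRingCat.of k)).inv c)) * a, ?_⟩
      rw [map_mul, TopCat.Presheaf.germ_res_apply, Algebra.smul_def]
      rfl
  haveI : JacobsonSpace X := LocallyOfFiniteType.jacobsonSpace Γ'.hom
  -- near every closed point
  have hnear : ∀ x : X, IsClosed ({x} : Set X) → ∃ (U : X.Opens) (hU : γ₀ ∈ U), x ∈ U ∧
      ∃ s, X.presheaf.germ U γ₀ hU s = q := by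
    intro x hx
    obtain ⟨xp, hxp⟩ := GenSubLib.exists_pt hx
    let r : Γ' ⟶ Γ' := 𝟙 Γ' * (toUnit Γ' ≫ xp)
    have hr : ∀ c : 𝟙_ (Over (Spec (CommRingCat.of k))) ⟶ Γ', c ≫ r = c * xp := fun c => by
      rw [MonObj.comp_mul, Category.comp_id, ← Category.assoc, toUnit_unique (c ≫ toUnit Γ') (toUnit _), toUnit_unit,
        Category.id_comp]
    have hne : (r.left ⁻¹ᵁ W : Set X).Nonempty := by
      obtain ⟨w, hw, hw'⟩ := nonempty_inter_closedPoints (Z := (W : Set X)) ⟨γ₀, hγW⟩ W.2.isLocallyClosed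
      obtain ⟨wp, rfl⟩ := GenSubLib.exists_pt hw'
      refine ⟨(wp * xp⁻¹).left GenSubLib.base₀, ?_⟩
      show r.left ((wp * xp⁻¹).left GenSubLib.base₀) ∈ W
      rw [← Scheme.Hom.comp_apply, ← Over.comp_left, hr, inv_mul_cancel_right]
      exact hw
    obtain ⟨_, hcW, c, hcS, rfl⟩ := hS.inter_open_nonempty _ (r.left ⁻¹ᵁ W).2 hne
    have hxW : (trL Γ' c).left x ∈ W := by
      rw [← hxp, ← Scheme.Hom.comp_apply, ← Over.comp_left, comp_trL, toUnit_unit, Category.id_comp, ← hr]
      exact hcW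
    -- translate back
    let T : Q →ₗ[k] Q :=
      { toFun := fun z => ⟨ffTr Γ' c z, hQs c hcS _ z.2⟩
        map_add' := fun a b => Subtype.ext (map_add (ffTr Γ' c) _ _)
        map_smul' := fun a z => Subtype.ext (by
          show ffTr Γ' c (a • (z : X.functionField)) = a • ffTr Γ' c z
          rw [Algebra.smul_def, map_mul, Algebra.smul_def]
          congr 1
          exact ffTr_cst Γ' c a) }
    have hT : Function.Surjective T := LinearMap.injective_iff_surjective.1 fun a b h =>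
      Subtype.ext ((ffTr Γ' c).injective (congrArg Subtype.val h))
    obtain ⟨⟨q', hq'⟩, hq'q⟩ := hT ⟨q, hqQ⟩
    obtain ⟨s, rfl⟩ := hQW q' hq'
    have hfix : (trL Γ' c).left γ₀ = γ₀ := genericPoint_iso (trS Γ' c)
    refine ⟨(trL Γ' c).left ⁻¹ᵁ W, show (trL Γ' c).left γ₀ ∈ W from hfix.symm ▸ hγW, hxW,
      (trL Γ' c).left.app W s, ?_⟩
    refine Eq.trans ?_ (congrArg Subtype.val hq'q)
    exact (stMap_germ _ γ₀ γ₀ (specializes_of_eq hfix) W hγW s).symm
  choose Un hUn hxUn sn hsn using hnear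
  let I := {x : X // IsClosed ({x} : Set X)}
  have hcomp : TopCat.Presheaf.IsCompatible X.sheaf.1 (fun x : I => Un x.1 x.2) fun x => sn x.1 x.2 := by
    intro a b
    apply germ_injective_of_isIntegral X γ₀ (show γ₀ ∈ Un a.1 a.2 ⊓ Un b.1 b.2 from ⟨hUn _ _, hUn _ _⟩)
    show X.presheaf.germ _ γ₀ _ (X.presheaf.map _ _) = X.presheaf.germ _ γ₀ _ (X.presheaf.map _ _)
    rw [TopCat.Presheaf.germ_res_apply, TopCat.Presheaf.germ_res_apply, hsn, hsn]
  obtain ⟨g, hg, -⟩ := X.sheaf.existsUnique_gluing' (fun x : I => Un x.1 x.2) ⊤ (fun x => homOfLE le_top) (by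
    intro x _
    rw [TopologicalSpace.Opens.mem_iSup]
    obtain ⟨z, hz, hz'⟩ := nonempty_inter_closedPoints (Z := closure {x}) ⟨x, subset_closure rfl⟩ isClosed_closure.isLocallyClosed
    exact ⟨⟨z, hz'⟩, (specializes_iff_mem_closure.2 hz).mem_open (Un z hz').2 (hxUn z hz')⟩) _ hcomp
  refine ⟨g, ?_⟩
  obtain ⟨z, -, hz'⟩ := nonempty_inter_closedPoints (Z := (Set.univ : Set X)) ⟨γ₀, trivial⟩ isClosed_univ.isLocallyClosed
  rw [← hsn z hz', ← hg ⟨z, hz'⟩]
  exact (TopCat.Presheaf.germ_res_apply X.presheaf (homOfLE le_top) γ₀ (hUn z hz') g).symm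

set_option maxHeartbeats 1600000 in
/-- If the function field is algebraic over the global functions, the group is affine. -/
theorem isAffine_of_algebraic [IsAlgClosed k] [QuasiCompact Γ'.hom]
    (h : ∀ t : Γ'.left.functionField, IsAlgebraic (glob Γ').range t) : IsAffine Γ'.left := by
  classical
  obtain ⟨hA, N, hN, i, ht, -, -, -, hi, hci, hNl, hNq, hker, hO⟩ := MonoFibre.KerAntiAffine.exists_antiAffineKernel Γ'
  letI := hA
  letI := hN
  haveI := ht
  haveI := hi
  haveI := hci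
  haveI := hNl
  haveI := hNq
  haveI := hO
  haveI : Smooth N.hom := MonoFibre.KerAntiAffine.smooth_of_isIso_appTop N hO
  haveI : ConnectedSpace N.left := MonoFibre.AntiAffine.connectedSpace
    ((MonoFibre.KerAntiAffine.bijective_iff N).2 hO)
  haveI := GrpSchLib.irreducibleSpace_of_connectedSpace (G := N)
  haveI : IsReduced N.left := ASp.isReduced_of_smooth N.hom
  haveI : IsIntegral N.left := isIntegral_of_irreducibleSpace_of_isReduced N.left
  haveI : Mono i := Over.mono_of_mono_left i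
  let X := Γ'.left
  haveI : JacobsonSpace X := LocallyOfFiniteType.jacobsonSpace Γ'.hom
  obtain ⟨W, hW, hγW, -⟩ := exists_isAffineOpen_mem_and_subset (U := ⊤) (x := genericPoint X) trivial
  haveI : IsAffine (W : Scheme.{u}) := hW
  haveI : Nonempty (W : Scheme.{u}) := ⟨⟨_, hγW⟩⟩
  haveI : IsIntegral (W : Scheme.{u}) := isIntegral_of_isOpenImmersion W.ι
  let ω := genericPoint (W : Scheme.{u})
  have hω : W.ι ω = genericPoint X := genericPoint_eq_of_isOpenImmersion W.ι
  let θ := stMap W.ι ω (genericPoint X) (specializes_of_eq hω)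
  have hθ : ∀ a, θ (glob Γ' a) = (W : Scheme.{u}).presheaf.germ ⊤ ω trivial (W.ι.appTop a) := fun a =>
    stMap_germ W.ι ω (genericPoint X) (specializes_of_eq hω) ⊤ trivial a
  -- generators
  let cW : k →+* Γ((W : Scheme.{u}), ⊤) := ((Scheme.ΓSpecIso (CommRingCat.of k)).inv ≫ (W.ι ≫ Γ'.hom).appTop).hom
  letI := cW.toAlgebra
  haveI : Algebra.FiniteType k Γ((W : Scheme.{u}), ⊤) := by
    have h1 : (W.ι ≫ Γ'.hom).appTop.hom.FiniteType :=
      (HasRingHomProperty.iff_of_isAffine (P := @LocallyOfFiniteType)).1 inferInstance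
    exact h1.comp (RingHom.FiniteType.of_surjective _ (ConcreteCategory.bijective_of_isIso (Scheme.ΓSpecIso (CommRingCat.of k)).inv).2)
  obtain ⟨gens, hgens⟩ := Algebra.FiniteType.out (R := k) (A := Γ((W : Scheme.{u}), ⊤))
  have hpol : ∀ t : Γ((W : Scheme.{u}), ⊤), ∃ P : Polynomial Γ(X, ⊤), P ≠ 0 ∧ P.eval₂ W.ι.appTop.hom t = 0 := by
    intro t
    obtain ⟨z, hz⟩ := stMap_surjective W.ι ω (genericPoint X) hω ((W : Scheme.{u}).presheaf.germ ⊤ ω trivial t)
    obtain ⟨P, hP, hP0⟩ := h z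
    obtain ⟨P', hP'⟩ := Polynomial.map_surjective (glob Γ').rangeRestrict (glob Γ').rangeRestrict_surjective P
    refine ⟨P', fun h0 => hP (by rw [← hP', h0, Polynomial.map_zero]), ?_⟩
    apply germ_injective_of_isIntegral (W : Scheme.{u}) (U := ⊤) ω trivial
    rw [map_zero, Polynomial.hom_eval₂, ← hz,
      show (((W : Scheme.{u}).presheaf.germ ⊤ ω trivial).hom.comp W.ι.appTop.hom) = θ.hom.comp (glob Γ') from
        RingHom.ext fun a => (hθ a).symm]
    show Polynomial.eval₂ (θ.hom.comp (glob Γ')) (θ.hom z) P' = 0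
    rw [← Polynomial.hom_eval₂]
    rw [Polynomial.aeval_def, ← hP', Polynomial.eval₂_map] at hP0
    exact (congrArg θ.hom hP0).trans (map_zero _)
  choose P hP hP0 using hpol
  -- a good point
  let Z : X.Opens := W ⊓ gens.inf fun t => X.basicOpen (P t).leadingCoeff
  have hγZ : genericPoint X ∈ Z := by
    refine ⟨hγW, ?_⟩
    show genericPoint X ∈ gens.inf fun t => X.basicOpen (P t).leadingCoeff
    clear hgens
    induction gens using Finset.induction_on with
    | empty => rw [Finset.inf_empty]; trivial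
    | insert a s _ ih =>
      rw [Finset.inf_insert]
      refine ⟨?_, ih⟩
      show genericPoint X ∈ X.basicOpen (P a).leadingCoeff
      rw [Scheme.mem_basicOpen (hx := show genericPoint X ∈ (⊤ : X.Opens) from trivial)]
      refine IsUnit.mk0 _ fun h0 => ?_
      exact Polynomial.leadingCoeff_ne_zero.2 (hP a) (glob_injective Γ' (h0.trans (map_zero _).symm))
  obtain ⟨x, hxZ, hx⟩ := nonempty_inter_closedPoints (Z := (Z : Set X)) ⟨_, hγZ⟩ Z.2.isLocallyClosed
  obtain ⟨xp, hxp⟩ := GenSubLib.exists_pt hx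
  let φ : N ⟶ Γ' := i * (toUnit N ≫ xp)
  have hφ1 : η[N] ≫ φ = xp := by
    rw [MonObj.comp_mul, ← Category.assoc, toUnit_unique (η[N] ≫ toUnit N) (toUnit _), toUnit_unit, Category.id_comp,
      IsMonHom.one_hom i, show η[Γ'] = (1 : 𝟙_ _ ⟶ Γ') by rw [Hom.one_def, toUnit_unit, Category.id_comp],
      _root_.one_mul]
  let O : N.left.Opens := φ.left ⁻¹ᵁ W
  have h1O : η[N].left GenSubLib.base₀ ∈ O := by
    show φ.left (η[N].left GenSubLib.base₀) ∈ W
    rw [← Scheme.Hom.comp_apply, ← Over.comp_left, hφ1, hxp]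
    exact hxZ.1
  haveI : Nonempty (O : Scheme.{u}) := ⟨⟨_, h1O⟩⟩
  haveI : IsIntegral (O : Scheme.{u}) := isIntegral_of_isOpenImmersion O.ι
  let φ' : (O : Scheme.{u}) ⟶ (W : Scheme.{u}) := φ.left.resLE W O le_rfl
  have hφ' : φ' ≫ W.ι = O.ι ≫ φ.left := φ.left.resLE_comp_ι le_rfl
  let cO : k →+* Γ((O : Scheme.{u}), ⊤) := ((Scheme.ΓSpecIso (CommRingCat.of k)).inv ≫ (O.ι ≫ N.hom).appTop).hom
  let χ : Γ(X, ⊤) →+* k := (φ.left.appTop ≫ inv N.hom.appTop ≫ (Scheme.ΓSpecIso (CommRingCat.of k)).hom).hom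
  have hχ : ∀ a, φ.left.appTop a = N.hom.appTop ((Scheme.ΓSpecIso (CommRingCat.of k)).inv (χ a)) := fun a => by
    show _ = (φ.left.appTop ≫ inv N.hom.appTop ≫ (Scheme.ΓSpecIso (CommRingCat.of k)).hom ≫
      (Scheme.ΓSpecIso (CommRingCat.of k)).inv ≫ N.hom.appTop) a
    simp
  have hψ : φ'.appTop.hom.comp W.ι.appTop.hom = cO.comp χ := RingHom.ext fun a => by
    show (W.ι.appTop ≫ φ'.appTop) a = (O.ι ≫ N.hom).appTop ((Scheme.ΓSpecIso (CommRingCat.of k)).inv (χ a))
    rw [← Scheme.Hom.comp_appTop, hφ', Scheme.Hom.comp_appTop, Scheme.Hom.comp_appTop, CommRingCat.comp_apply,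
      CommRingCat.comp_apply, hχ]
  have hgenc : ∀ t ∈ gens, ∃ c, cO c = φ'.appTop t := by
    intro t htg
    refine mem_range_of_root cO _ ((P t).map χ) ?_ ?_
    · intro h0
      have h1 : χ (P t).leadingCoeff = 0 := by
        rw [Polynomial.leadingCoeff, ← Polynomial.coeff_map, h0, Polynomial.coeff_zero]
      have h2 : φ.left.appTop (P t).leadingCoeff = 0 := by rw [hχ, h1, map_zero, map_zero]
      have h3 : η[N].left GenSubLib.base₀ ∈ φ.left ⁻¹ᵁ X.basicOpen (P t).leadingCoeff := by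
        show φ.left (η[N].left GenSubLib.base₀) ∈ X.basicOpen (P t).leadingCoeff
        rw [← Scheme.Hom.comp_apply, ← Over.comp_left, hφ1, hxp]
        exact (Finset.inf_le (f := fun t => X.basicOpen (P t).leadingCoeff) htg : _ ≤ _) hxZ.2
      rw [Scheme.preimage_basicOpen_top, h2, Scheme.basicOpen_zero] at h3
      exact h3
    · rw [Polynomial.eval₂_map, ← hψ, show φ'.appTop t = φ'.appTop.hom t from rfl, ← Polynomial.hom_eval₂, hP0,
        map_zero]
  letI := cO.toAlgebra
  have hW0 : ∀ b, φ'.appTop b ∈ cO.range := by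
    intro b
    let ψ : Γ((W : Scheme.{u}), ⊤) →ₐ[k] Γ((O : Scheme.{u}), ⊤) :=
      { φ'.appTop.hom with
        commutes' := fun c => by
          show (φ' ≫ W.ι ≫ Γ'.hom).appTop ((Scheme.ΓSpecIso (CommRingCat.of k)).inv c) =
            (O.ι ≫ N.hom).appTop ((Scheme.ΓSpecIso (CommRingCat.of k)).inv c)
          rw [← Category.assoc, hφ', Category.assoc, Over.w φ] }
    have hb : b ∈ (⊥ : Subalgebra k Γ((O : Scheme.{u}), ⊤)).comap ψ := by
      have : Algebra.adjoin k (gens : Set Γ((W : Scheme.{u}), ⊤)) ≤ (⊥ : Subalgebra k _).comap ψ :=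
        Algebra.adjoin_le fun t ht' => by
          obtain ⟨c, hc⟩ := hgenc t ht'
          exact ⟨c, hc⟩
      rw [hgens] at this
      exact this trivial
    exact hb
  -- constancy
  let xW : Spec (CommRingCat.of k) ⟶ (W : Scheme.{u}) := IsOpenImmersion.lift W.ι xp.left (by
    rintro _ ⟨p, rfl⟩
    rw [Scheme.Opens.range_ι, Subsingleton.elim (α := PrimeSpectrum k) p (closedPoint k)]
    exact hxp ▸ hxZ.1)
  let u₁ : Spec (CommRingCat.of k) ⟶ (O : Scheme.{u}) := IsOpenImmersion.lift O.ι η[N].left (by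
    rintro _ ⟨p, rfl⟩
    rw [Scheme.Opens.range_ι, Subsingleton.elim (α := PrimeSpectrum k) p (closedPoint k)]
    exact h1O)
  have hu₁ : u₁ ≫ φ' = xW := by
    rw [← cancel_mono W.ι, Category.assoc, hφ', IsOpenImmersion.lift_fac, ← Category.assoc]
    erw [IsOpenImmersion.lift_fac]
    rw [← Over.comp_left, hφ1]
  have hu₂ : u₁ ≫ O.ι ≫ N.hom = 𝟙 _ := by
    rw [← Category.assoc]
    erw [IsOpenImmersion.lift_fac]
    exact Over.w η[N]
  have hφc : φ' = (O.ι ≫ N.hom) ≫ xW := by
    refine ext_of_isAffine (ConcreteCategory.hom_ext _ _ fun b => ?_)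
    obtain ⟨c, hc⟩ := hW0 b
    have h2 : xW.appTop b = (Scheme.ΓSpecIso (CommRingCat.of k)).inv c := by
      rw [← hu₁, Scheme.Hom.comp_appTop, CommRingCat.comp_apply, ← hc]
      show ((O.ι ≫ N.hom).appTop ≫ u₁.appTop) ((Scheme.ΓSpecIso (CommRingCat.of k)).inv c) = _
      rw [← Scheme.Hom.comp_appTop, hu₂, Scheme.Hom.id_appTop]
      rfl
    rw [Scheme.Hom.comp_appTop, CommRingCat.comp_apply, h2, ← hc]
    rfl
  let T : Over (Spec (CommRingCat.of k)) := Over.mk (O.ι ≫ N.hom)
  let o : T ⟶ N := Over.homMk O.ι rfl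
  have hoi : o ≫ i = 1 := by
    have h1 : o ≫ φ = toUnit T ≫ xp := by
      apply Over.OverMorphism.ext
      show O.ι ≫ φ.left = (O.ι ≫ N.hom) ≫ xp.left
      rw [← hφ', hφc, Category.assoc]
      erw [IsOpenImmersion.lift_fac]
    rw [MonObj.comp_mul, ← Category.assoc, toUnit_unique (o ≫ toUnit N) (toUnit T)] at h1
    exact mul_eq_right.1 h1
  have ho : o = 1 := (cancel_mono i).1 (by rw [hoi, MonObj.one_comp])
  haveI : Subsingleton N.left := by
    have h1 : ∀ p ∈ O, p = η[N].left GenSubLib.base₀ := fun p hp => by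
      have h := congrArg (fun f : T ⟶ N => f.left ⟨p, hp⟩) ho
      refine h.trans ?_
      show ((1 : T ⟶ N)).left _ = _
      rw [Hom.one_def, Over.comp_left, Scheme.Hom.comp_apply]
      exact congrArg _ (Subsingleton.elim (α := PrimeSpectrum k) _ _)
    have h2 : (Set.univ : Set N.left) ⊆ {η[N].left GenSubLib.base₀} := by
      rw [← (O.2.dense ⟨_, h1O⟩).closure_eq]
      exact closure_minimal h1 (GenSubLib.isClosed_pt _)
    exact ⟨fun a b => (h2 (Set.mem_univ a)).trans (h2 (Set.mem_univ b)).symm⟩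
  haveI : IsAffine N.left := inferInstance
  haveI : IsAffine ((Over.forget (Spec (CommRingCat.of k))).obj N) := ‹IsAffine N.left›
  haveI : IsAffine (pullback (MonoFibre.Affinization.toAff Γ') η[MonoFibre.Affinization.aff Γ']).left :=
    IsAffine.of_isIso ((Over.forget _).mapIso hker.isoPullback).inv
  haveI : QuasiCompact (MonoFibre.Affinization.toAff Γ').left := by
    haveI : CompactSpace Γ'.left := QuasiCompact.compactSpace_of_compactSpace Γ'.hom
    exact inferInstanceAs (QuasiCompact Γ'.left.toSpecΓ)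
  haveI : IsAffine (MonoFibre.Affinization.aff Γ').left := inferInstanceAs (IsAffine (Spec Γ(Γ'.left, ⊤)))
  haveI := MonoFibre.isAffineHom_of_affine_kernel (MonoFibre.Affinization.toAff Γ')
  exact isAffine_of_isAffineHom (MonoFibre.Affinization.toAff Γ').left

end Groth.Agent.AffSpecLib
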