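import Groth.Agent.AVLib.IdSub
import Groth.Agent.MonoFibre.AffineKernel
import Groth.Agent.MonoFibre.AntiAffine
import Groth.Agent.MonoFibre.KerAntiAffine
import Groth.Agent.Neutral.DimConst
import Groth.Agent.DimFibreLib.Main
import Groth.Agent.GenSubLib.Universal

/-!
# A group is affine as soon as a closed subgroup of full dimension is
-/

set_option autoImplicit false
set_option backward.isDefEq.respectTransparency false
set_option backward.isDefEq.respectTransparency.types false
set_option linter.style.haveILetI false
set_option linter.unusedSectionVars false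

universe u

open CategoryTheory CategoryTheory.Limits MonoidalCategory CartesianMonoidalCategory MonObj AlgebraicGeometry
open Topology

attribute [-instance] CategoryTheory.CommGrpObj.toIsCommMonObj CategoryTheory.CommGrpObj.toGrpObj CategoryTheory.Hom.commGroup

noncomputable section

namespace Groth.Agent.AffSpecLib

variable {k : Type u} [Field k] [IsAlgClosed k]
variable (G : Over (Spec (CommRingCat.of k))) [GrpObj G] [LocallyOfFiniteType G.hom]

theorem isOpen_idComp : IsOpen (GrpSchLib.idComp G) := by
  have h := Neutral.isOpen_neutralSet_field (G := G)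
  rw [Neutral.neutralSet_field, GrpSchLib.connectedComponent_eq] at h
  exact h

theorem dim_idComp : topologicalKrullDim ↥(GrpSchLib.idComp G) = topologicalKrullDim G.left :=
  Neutral.topologicalKrullDim_open ⟨GrpSchLib.idComp G, isOpen_idComp G⟩ ⟨GrpSchLib.unitPt G, mem_irreducibleComponent⟩

/-- The reduced identity component. -/
theorem exists_idRed : ∃ (H : Over (Spec (CommRingCat.of k))) (_ : GrpObj H) (i : H ⟶ G),
    IsMonHom i ∧ IsClosedImmersion i.left ∧ Smooth H.hom ∧ ConnectedSpace H.left ∧
      topologicalKrullDim H.left = topologicalKrullDim G.left := by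
  obtain ⟨H, hH, i, hi, hci, hred, hr⟩ := MonoFibre.exists_redSubgroup (G := G) (GrpSchLib.idComp G)
    isClosed_irreducibleComponent mem_irreducibleComponent AVLib.mul_mem_idComp AVLib.inv_mem_idComp
  letI := hH
  haveI := hci
  haveI := hred
  haveI hlft : LocallyOfFiniteType H.hom := by rw [← Over.w i]; infer_instance
  have hgr : GeometricallyReduced H.hom := AVLib.geometricallyReduced_of_perfect H.hom
  haveI : IrreducibleSpace H.left := by
    refine i.left.isEmbedding.toHomeomorph.irreducibleSpace_iff.mpr (isIrreducible_iff_irreducibleSpace.mp ?_)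
    rw [hr]
    exact isIrreducible_irreducibleComponent
  refine ⟨H, hH, i, hi, hci, @smooth_of_grpObj _ _ _ H.hom hlft hH hgr, inferInstance, ?_⟩
  rw [← dim_idComp G]
  exact ((i.left.isEmbedding.toHomeomorph).trans (Homeomorph.setCongr hr)).isHomeomorph.topologicalKrullDim_eq

variable [QuasiCompact G.hom]

/-- A group with an affine connected closed subgroup of its dimension is affine. -/
theorem isAffine_of_big (Γ : Over (Spec (CommRingCat.of k))) [GrpObj Γ] (i : Γ ⟶ G) [IsMonHom i]
    [IsClosedImmersion i.left] [IsAffine Γ.left] [IrreducibleSpace Γ.left] {d : ℕ}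
    (hG : topologicalKrullDim G.left = (d : WithBot ℕ∞)) (hd : (d : WithBot ℕ∞) ≤ topologicalKrullDim Γ.left) :
    IsAffine G.left := by
  obtain ⟨hA, N, hN, iN, ht, -, -, -, hiN, hciN, hNl, hNq, hker, hO⟩ := MonoFibre.KerAntiAffine.exists_antiAffineKernel G
  letI := hA
  letI := hN
  haveI := ht
  haveI := hiN
  haveI := hciN
  haveI := hNl
  haveI := hNq
  haveI : Smooth N.hom := MonoFibre.KerAntiAffine.smooth_of_isIso_appTop N hO
  haveI : ConnectedSpace N.left := MonoFibre.AntiAffine.connectedSpace ((MonoFibre.KerAntiAffine.bijective_iff N).2 hO)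
  haveI := GrpSchLib.irreducibleSpace_of_connectedSpace (G := N)
  haveI : IsReduced N.left := ASp.isReduced_of_smooth N.hom
  have hunit : ∀ (X : Over (Spec (CommRingCat.of k))) [GrpObj X] (f : X ⟶ G) [IsMonHom f],
      GrpSchLib.unitPt G ∈ Set.range f.left := by
    intro X _ f _
    refine ⟨η[X].left (IsLocalRing.closedPoint k), ?_⟩
    rw [← Scheme.Hom.comp_apply, ← Over.comp_left, IsMonHom.one_hom f]
  have hirr : ∀ (X : Over (Spec (CommRingCat.of k))) [IrreducibleSpace X.left] (f : X ⟶ G),
      IsIrreducible (Set.range f.left) := fun X _ f => by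
    rw [← Set.image_univ]
    exact (IrreducibleSpace.isIrreducible_univ _).image _ f.left.continuous.continuousOn
  have hΓ : GrpSchLib.idComp G ⊆ Set.range i.left := by
    refine DimFibreLib.eq_of_dim_le isIrreducible_irreducibleComponent ((dim_idComp G).trans hG)
      i.left.isClosedEmbedding.isClosed_range ?_
    rw [Set.inter_eq_left.2 (GrpSchLib.subset_irreducibleComponent (hirr Γ i) (hunit Γ i))]
    exact hd.trans (le_of_eq i.left.isEmbedding.toHomeomorph.isHomeomorph.topologicalKrullDim_eq)
  obtain ⟨q, hq⟩ := GenSubLib.exists_lift_immersion i iN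
    ((GrpSchLib.subset_irreducibleComponent (hirr N iN) (hunit N iN)).trans hΓ)
  haveI : IsClosedImmersion q.left := by
    haveI : IsClosedImmersion (q.left ≫ i.left) := by rw [← Over.comp_left, hq]; infer_instance
    exact IsClosedImmersion.of_comp q.left i.left
  haveI : IsAffine N.left := isAffine_of_isAffineHom q.left
  haveI : IsAffine ((Over.forget (Spec (CommRingCat.of k))).obj N) := ‹IsAffine N.left›
  haveI : IsAffine (pullback (MonoFibre.Affinization.toAff G) η[MonoFibre.Affinization.aff G]).left :=
    IsAffine.of_isIso ((Over.forget _).mapIso hker.isoPullback).inv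
  haveI : QuasiCompact (MonoFibre.Affinization.toAff G).left := by
    haveI : CompactSpace G.left := QuasiCompact.compactSpace_of_compactSpace G.hom
    exact inferInstanceAs (QuasiCompact G.left.toSpecΓ)
  haveI : IsAffine (MonoFibre.Affinization.aff G).left := inferInstanceAs (IsAffine (Spec Γ(G.left, ⊤)))
  haveI := MonoFibre.isAffineHom_of_affine_kernel (MonoFibre.Affinization.toAff G)
  exact isAffine_of_isAffineHom (MonoFibre.Affinization.toAff G).left

end Groth.Agent.AffSpecLib
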