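import Mathlib

/-!
# Characteristic coefficients of translation stable spaces of algebraic elements
-/

set_option autoImplicit false
set_option linter.style.haveILetI false
set_option linter.unusedSectionVars false

universe u

noncomputable section

namespace Groth.Agent.AffSpecLib

/-- Finite differences along a map. -/
def delta {X F : Type*} [AddCommGroup F] (s : X → X) (φ : X → F) : X → F := fun x => φ (s x) - φ x

theorem delta_iter_zero {X F : Type*} [AddCommGroup F] (s : X → X) (N : ℕ) : (delta s)^[N] (0 : X → F) = 0 := by
  induction N with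
  | zero => rfl
  | succ N ih =>
    rw [Function.iterate_succ_apply', ih]
    funext x
    simp [delta]

theorem delta_iter_add {X F : Type*} [AddCommGroup F] (s : X → X) (N : ℕ) (φ ψ : X → F) :
    (delta s)^[N] (φ + ψ) = (delta s)^[N] φ + (delta s)^[N] ψ := by
  induction N generalizing φ ψ with
  | zero => rfl
  | succ N ih =>
    rw [Function.iterate_succ_apply, Function.iterate_succ_apply, Function.iterate_succ_apply, ← ih]
    congr 1
    funext x
    simp only [delta, Pi.add_apply]
    abel

theorem delta_iter_le {X F : Type*} [AddCommGroup F] (s : X → X) {N N' : ℕ} (h : N ≤ N') {φ : X → F}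
    (hφ : (delta s)^[N] φ = 0) : (delta s)^[N'] φ = 0 := by
  obtain ⟨m, rfl⟩ := Nat.exists_eq_add_of_le h
  rw [add_comm, Function.iterate_add_apply, hφ, delta_iter_zero]

theorem eval_pi {X σ F : Type*} [CommRing F] (g : σ → X → F) (P : MvPolynomial σ F) (x : X) :
    MvPolynomial.eval (fun a => g a x) P = MvPolynomial.eval₂ (Pi.constRingHom X F) g P x := by
  induction P using MvPolynomial.induction_on with
  | C c => simp
  | add p q hp hq => simp [hp, hq]
  | mul_X p a hp => simp [hp]

theorem delta_iter_comp {X F : Type*} [AddCommGroup F] (s : X → X) (N : ℕ) (φ : X → F) :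
    (delta s)^[N] (φ ∘ s) = ((delta s)^[N] φ) ∘ s := by
  induction N generalizing φ with
  | zero => rfl
  | succ N ih =>
    rw [Function.iterate_succ_apply, Function.iterate_succ_apply, ← ih]
    rfl

theorem delta_iter_mul {X F : Type*} [CommRing F] (s : X → X) : ∀ (a b : ℕ) (φ ψ : X → F),
    (delta s)^[a] φ = 0 → (delta s)^[b] ψ = 0 → (delta s)^[a + b] (φ * ψ) = 0 := by
  intro a
  induction a with
  | zero =>
    intro b φ ψ hφ _
    rw [Function.iterate_zero_apply] at hφ
    rw [hφ, zero_mul, delta_iter_zero]
  | succ a iha =>
    intro b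
    induction b with
    | zero =>
      intro φ ψ _ hψ
      rw [Function.iterate_zero_apply] at hψ
      rw [hψ, mul_zero, delta_iter_zero]
    | succ b ihb =>
      intro φ ψ hφ hψ
      have h : delta s (φ * ψ) = delta s φ * (ψ ∘ s) + φ * delta s ψ := by
        funext x
        simp only [delta, Pi.mul_apply, Pi.add_apply, Function.comp_apply]
        ring
      rw [show a + 1 + (b + 1) = (a + (b + 1)) + 1 by omega, Function.iterate_succ_apply, h, delta_iter_add,
        iha (b + 1) _ _ (by rwa [Function.iterate_succ_apply] at hφ)
          (by rw [delta_iter_comp, hψ]; rfl),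
        show a + (b + 1) = a + 1 + b by omega, ihb _ _ hφ (by rwa [Function.iterate_succ_apply] at hψ), add_zero]

/-- Functions killed by a bounded number of finite differences. -/
def nilFun {X F : Type*} [CommRing F] {J : Type*} (s : J → X → X) : Subring (X → F) where
  carrier := {φ | ∃ N, ∀ j, (delta (s j))^[N] φ = 0}
  zero_mem' := ⟨0, fun _ => rfl⟩
  one_mem' := ⟨1, fun _ => by funext x; simp [delta]⟩
  add_mem' := by
    rintro φ ψ ⟨N, hN⟩ ⟨M, hM⟩
    refine ⟨max N M, fun j => ?_⟩
    rw [delta_iter_add, delta_iter_le _ (le_max_left N M) (hN j), delta_iter_le _ (le_max_right N M) (hM j), add_zero]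
  neg_mem' := by
    rintro φ ⟨N, hN⟩
    refine ⟨N, fun j => ?_⟩
    have h := delta_iter_add (s j) N φ (-φ)
    rwa [add_neg_cancel, delta_iter_zero, hN j, zero_add, eq_comm] at h
  mul_mem' := by
    rintro φ ψ ⟨N, hN⟩ ⟨M, hM⟩
    exact ⟨N + M, fun j => delta_iter_mul (s j) N M φ ψ (hN j) (hM j)⟩

variable {k F A : Type*} [Field k] [Field F] [Algebra k F] [CommRing A] [Algebra F A] [Algebra k A]
  [IsScalarTower k F A]

/-- A semilinear automorphism of the coefficient field and the algebra. -/
structure Semi (k F A : Type*) [Field k] [Field F] [Algebra k F] [CommRing A] [Algebra F A] where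
  τ : F ≃ₐ[k] F
  σ : A →+* A
  inj : Function.Injective σ
  comm : ∀ c, σ (algebraMap F A c) = algebraMap F A (τ c)

theorem charpoly_semi (d : Semi k F A) (B : Subalgebra F A) [Module.Finite F B] (hB : ∀ b ∈ B, d.σ b ∈ B) (x : B) :
    (LinearMap.mulLeft F (⟨d.σ x, hB x x.2⟩ : B)).charpoly =
      (LinearMap.mulLeft F x).charpoly.map d.τ.toAlgHom.toRingHom := by
  classical
  let b := Module.finBasis F B
  let b₀ : Fin (Module.finrank F B) → B := fun j => ⟨d.σ (b j), hB _ (b j).2⟩
  have hcomb : ∀ c : Fin (Module.finrank F B) → F,
      ((∑ j, d.τ (c j) • b₀ j : B) : A) = d.σ ((∑ j, c j • b j : B) : A) := by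
    intro c
    simp only [AddSubmonoidClass.coe_finsetSum, map_sum, Algebra.smul_def, b₀, MulMemClass.coe_mul, Subalgebra.coe_algebraMap, map_mul, d.comm]
  have hli : LinearIndependent F b₀ := by
    rw [Fintype.linearIndependent_iff]
    intro c hc j
    have h0 : ((∑ j, d.τ.symm (c j) • b j : B) : A) = 0 := by
      apply d.inj
      rw [← hcomb, map_zero]
      simpa only [AlgEquiv.apply_symm_apply, ZeroMemClass.coe_eq_zero] using hc
    have := Fintype.linearIndependent_iff.1 b.linearIndependent _ (Subtype.ext h0) j
    simpa using congrArg d.τ this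
  obtain ⟨b', hb'⟩ : ∃ b' : Module.Basis (Fin (Module.finrank F B)) F B, ∀ j, b' j = b₀ j := by
    by_cases h : Nonempty (Fin (Module.finrank F B))
    · exact ⟨basisOfLinearIndependentOfCardEqFinrank hli (by simp), fun j => by simp⟩
    · exact ⟨b, fun j => absurd ⟨j⟩ h⟩
  have hM : LinearMap.toMatrix b' b' (LinearMap.mulLeft F (⟨d.σ x, hB x x.2⟩ : B)) =
      (LinearMap.toMatrix b b (LinearMap.mulLeft F x)).map d.τ.toAlgHom.toRingHom := by
    ext a j
    rw [LinearMap.toMatrix_apply, Matrix.map_apply, LinearMap.mulLeft_apply]
    have h : (⟨d.σ x, hB x x.2⟩ : B) * b' j = ∑ i, d.τ (b.repr (x * b j) i) • b' i := by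
      simp only [hb']
      apply Subtype.ext
      rw [hcomb, b.sum_repr]
      simp [b₀]
    rw [h, Module.Basis.repr_sum_self, LinearMap.toMatrix_apply, LinearMap.mulLeft_apply]
    rfl
  rw [← LinearMap.charpoly_toMatrix _ b', hM, Matrix.charpoly_map, LinearMap.charpoly_toMatrix]

set_option maxHeartbeats 1000000 in
/-- Elements of a finite stable space of integral elements satisfy monic equations with translation finite coefficients. -/
theorem exists_poly {J : Type*} (d : J → Semi k F A) (E : Submodule k A) [Module.Finite k E]
    (hint : ∀ x ∈ E, IsIntegral F x) (hE : ∀ j, ∀ x ∈ E, (d j).σ x ∈ E) (e : E) :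
    ∃ p : Polynomial F, p.Monic ∧ Polynomial.aeval (e : A) p = 0 ∧
      ∀ i, (∃ Q : Submodule k F, Module.Finite k Q ∧ p.coeff i ∈ Q ∧ ∀ j, ∀ q ∈ Q, (d j).τ q ∈ Q) ∧
        ((∃ r : ℕ, ∀ j, ∀ x ∈ E, (fun y => (d j).σ y - y)^[r] x = 0) →
          ∃ N, ∀ j, (fun q => (d j).τ q - q)^[N] (p.coeff i) = 0) := by
  classical
  let be := Module.finBasis k E
  let s : Set A := Set.range fun a => (be a : A)
  let B := Algebra.adjoin F s
  haveI : Module.Finite F B := Module.Finite.iff_fg.2 (fg_adjoin_of_finite (Set.finite_range _) fun x hx => by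
    obtain ⟨a, rfl⟩ := hx
    exact hint _ (be a).2)
  have hsum : ∀ x : E, (x : A) = ∑ a, algebraMap F A (algebraMap k F (be.repr x a)) * (be a : A) := fun x => by
    conv_lhs => rw [← be.sum_repr x]
    simp only [AddSubmonoidClass.coe_finsetSum, SetLike.val_smul, Algebra.smul_def, ← IsScalarTower.algebraMap_apply]
  have hEB : ∀ x : E, (x : A) ∈ B := fun x => by
    rw [hsum]
    exact sum_mem fun a _ => mul_mem (B.algebraMap_mem _) (Algebra.subset_adjoin ⟨a, rfl⟩)
  have hB : ∀ j, ∀ b ∈ B, (d j).σ b ∈ B := fun j b hb => by
    induction hb using Algebra.adjoin_induction with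
    | mem x hx =>
      obtain ⟨a, rfl⟩ := hx
      exact hEB ⟨_, hE j _ (be a).2⟩
    | algebraMap r =>
      rw [(d j).comm]
      exact B.algebraMap_mem _
    | add x y _ _ hx hy => rw [map_add]; exact add_mem hx hy
    | mul x y _ _ hx hy => rw [map_mul]; exact mul_mem hx hy
  let inB : E → B := fun x => ⟨x, hEB x⟩
  let C : ℕ → E → F := fun i x => (LinearMap.mulLeft F (inB x)).charpoly.coeff i
  let sE : J → E → E := fun j x => ⟨(d j).σ x, hE j x x.2⟩
  have hC : ∀ i j x, (d j).τ (C i x) = C i (sE j x) := fun i j x => by
    have h := charpoly_semi (d j) B (hB j) (inB x)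
    show _ = (LinearMap.mulLeft F (⟨(d j).σ x, _⟩ : B)).charpoly.coeff i
    rw [h, Polynomial.coeff_map]
    rfl
  let b := Module.finBasis F B
  let MX : Matrix (Fin (Module.finrank F B)) (Fin (Module.finrank F B)) (MvPolynomial (Fin (Module.finrank k E)) F) :=
    ∑ a, (MvPolynomial.X a : MvPolynomial (Fin (Module.finrank k E)) F) • (LinearMap.toMatrix b b (LinearMap.mulLeft F (inB (be a)))).map (MvPolynomial.C (σ := Fin (Module.finrank k E)))
  have hpoly : ∀ i x, C i x = MvPolynomial.eval (fun a => algebraMap k F (be.repr x a)) (MX.charpoly.coeff i) := by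
    intro i x
    show (LinearMap.mulLeft F (inB x)).charpoly.coeff i = _
    rw [← Polynomial.coeff_map, ← Matrix.charpoly_map, ← LinearMap.charpoly_toMatrix _ b]
    congr 2
    have hx : inB x = ∑ a, algebraMap k F (be.repr x a) • inB (be a) := by
      apply Subtype.ext
      simp only [inB, AddSubmonoidClass.coe_finsetSum, SetLike.val_smul, Algebra.smul_def]
      exact hsum x
    rw [hx]
    ext r c
    simp [MX, Matrix.sum_apply, LinearMap.toMatrix_apply, Finset.sum_mul, map_sum]
    refine Finset.sum_congr rfl fun a _ => ?_
    rw [← algebraMap_smul F (be.repr x a), map_smul, Finsupp.smul_apply, smul_eq_mul,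
      Algebra.leftMulMatrix_eq_repr_mul]
  refine ⟨(LinearMap.mulLeft F (inB e)).charpoly, LinearMap.charpoly_monic _, ?_, fun i => ⟨?_, ?_⟩⟩
  · have h := LinearMap.aeval_self_charpoly (LinearMap.mulLeft F (inB e))
    have h2 : Polynomial.aeval (inB e) (LinearMap.mulLeft F (inB e)).charpoly = 0 := by
      generalize (LinearMap.mulLeft F (inB e)).charpoly = p at h ⊢
      have h3 := congrArg (fun f : Module.End F B => f 1) h
      rw [show LinearMap.mulLeft F (inB e) = Algebra.lmul F B (inB e) from rfl, Polynomial.aeval_algHom_apply] at h3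
      simpa using h3
    have h4 := congrArg B.val h2
    rwa [← Polynomial.aeval_algHom_apply, map_zero] at h4
  · refine ⟨Submodule.span k (Set.range (C i)), ?_, Submodule.subset_span ⟨e, rfl⟩, fun j q hq => ?_⟩
    · let P := MX.charpoly.coeff i
      have hle : Submodule.span k (Set.range (C i)) ≤ Submodule.span k (Set.range fun m : P.support => P.coeff m) := by
        rw [Submodule.span_le]
        rintro _ ⟨x, rfl⟩
        rw [hpoly, MvPolynomial.eval_eq', ← Finset.sum_coe_sort P.support]
        refine sum_mem fun m _ => ?_
        rw [show P.coeff m * ∏ a, algebraMap k F (be.repr x a) ^ (m.1 a) =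
          (∏ a, be.repr x a ^ (m.1 a)) • P.coeff m by rw [Algebra.smul_def, map_prod, mul_comm]; simp [map_pow]]
        exact Submodule.smul_mem _ _ (Submodule.subset_span ⟨m, rfl⟩)
      haveI := Module.Finite.span_of_finite k (Set.finite_range fun m : P.support => P.coeff m)
      exact Submodule.finiteDimensional_of_le hle
    · have : Submodule.map (d j).τ.toLinearMap (Submodule.span k (Set.range (C i))) ≤ Submodule.span k (Set.range (C i)) := by
        rw [Submodule.map_span_le]
        rintro _ ⟨x, rfl⟩
        exact Submodule.subset_span ⟨sE j x, (hC i j x).symm⟩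
      exact this ⟨q, hq, rfl⟩
  · rintro ⟨r, hr⟩
    have hmem : C i ∈ nilFun (F := F) sE := by
      rw [show C i = MvPolynomial.eval₂ (Pi.constRingHom E F) (fun a x => algebraMap k F (be.repr x a))
          (MX.charpoly.coeff i) from ?_]
      · induction MX.charpoly.coeff i using MvPolynomial.induction_on with
        | C c =>
          rw [MvPolynomial.eval₂_C]
          exact ⟨1, fun j => by funext x; simp [delta]⟩
        | add p q hp hq => rw [MvPolynomial.eval₂_add]; exact add_mem hp hq
        | mul_X p a hp =>
          rw [MvPolynomial.eval₂_mul, MvPolynomial.eval₂_X]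
          refine mul_mem hp ⟨r, fun j => ?_⟩
          have hit : ∀ (N : ℕ) (ℓ : E →+ F) (x : E),
              (delta (sE j))^[N] (⇑ℓ) x = ℓ ((fun y : E => sE j y - y)^[N] x) := by
            intro N
            induction N with
            | zero => exact fun ℓ x => rfl
            | succ N ih =>
              intro ℓ x
              rw [Function.iterate_succ_apply', Function.iterate_succ_apply]
              simp only [delta]
              rw [ih, ih, ← map_sub]
              congr 1
              have hadd : ∀ (m : ℕ) (u v : E), (fun y : E => sE j y - y)^[m] (u - v) =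
                  (fun y : E => sE j y - y)^[m] u - (fun y : E => sE j y - y)^[m] v := by
                intro m
                induction m with
                | zero => exact fun _ _ => rfl
                | succ m ihm =>
                  intro u v
                  rw [Function.iterate_succ_apply, Function.iterate_succ_apply, Function.iterate_succ_apply, ← ihm]
                  congr 1
                  apply Subtype.ext
                  simp [sE, sub_sub_sub_comm]
              rw [hadd]
          funext x
          rw [show (fun x : E => algebraMap k F (be.repr x a)) =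
            ⇑((algebraMap k F).toAddMonoidHom.comp (be.coord a).toAddMonoidHom) from rfl, hit]
          have hz : (fun y : E => sE j y - y)^[r] x = 0 := by
            apply Subtype.ext
            refine Eq.trans ?_ (hr j x x.2)
            clear hr
            induction r generalizing x with
            | zero => rfl
            | succ r ihr =>
              rw [Function.iterate_succ_apply, Function.iterate_succ_apply, ihr]
              rfl
          rw [hz, map_zero, Pi.zero_apply]
      · funext x
        rw [hpoly]
        exact eval_pi (fun a (y : E) => algebraMap k F (be.repr y a)) _ x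
    obtain ⟨N, hN⟩ := hmem
    refine ⟨N, fun j => ?_⟩
    have key : ∀ (N : ℕ) (φ : E → F), (∀ x, (d j).τ (φ x) = φ (sE j x)) →
        ∀ x, (fun q => (d j).τ q - q)^[N] (φ x) = (delta (sE j))^[N] φ x := by
      intro N
      induction N with
      | zero => exact fun _ _ _ => rfl
      | succ N ih =>
        intro φ hφ x
        rw [Function.iterate_succ_apply, Function.iterate_succ_apply, hφ]
        exact ih (delta (sE j) φ) (fun y => by simp only [delta, map_sub, hφ]) x
    rw [show (LinearMap.mulLeft F (inB e)).charpoly.coeff i = C i e from rfl, key N (C i) (fun x => hC i j x), hN]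
    rfl

end Groth.Agent.AffSpecLib
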