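import Mathlib

/-!
# A non-unipotent generic matrix produces a one parameter family
-/

set_option autoImplicit false
set_option linter.style.haveILetI false
set_option linter.unusedSectionVars false

universe u

open Module

noncomputable section

namespace Groth.Agent.AffSpecLib

section Seq

variable {L : Type u} [Field L]

/-- The shift of sequences. -/
def seqShift : (ℕ → L) →ₗ[L] ℕ → L where
  toFun f m := f (m + 1)
  map_add' _ _ := rfl
  map_smul' _ _ := rfl

/-- The difference of sequences. -/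
def seqDiff : (ℕ → L) →ₗ[L] ℕ → L := seqShift - LinearMap.id

theorem seqDiff_apply (f : ℕ → L) (m : ℕ) : seqDiff f m = f (m + 1) - f m := rfl

theorem seqDiff_pow_succ (k : ℕ) (f : ℕ → L) : (seqDiff ^ (k + 1)) f = (seqDiff ^ k) (seqDiff f) := by
  rw [pow_succ]
  rfl

theorem seqDiff_pow_shift (k : ℕ) (f : ℕ → L) : (seqDiff ^ k) (seqShift f) = seqShift ((seqDiff ^ k) f) := by
  induction k generalizing f with
  | zero => rfl
  | succ k ih =>
    rw [seqDiff_pow_succ, seqDiff_pow_succ, show seqDiff (seqShift f) = seqShift (seqDiff f) from rfl, ih]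

theorem seqDiff_pow_mono {a b : ℕ} (h : a ≤ b) {f : ℕ → L} (hf : (seqDiff ^ a) f = 0) : (seqDiff ^ b) f = 0 := by
  rw [← Nat.sub_add_cancel h, pow_add, Module.End.mul_apply, hf, map_zero]

theorem seqDiff_pow_mul (n : ℕ) : ∀ (a b : ℕ) (f g : ℕ → L), a + b = n → (seqDiff ^ a) f = 0 →
    (seqDiff ^ b) g = 0 → (seqDiff ^ n) (f * g) = 0 := by
  induction n with
  | zero =>
    intro a b f g h hf _
    obtain ⟨rfl, -⟩ := Nat.add_eq_zero_iff.1 h
    rw [show f = 0 from hf, zero_mul, map_zero]
  | succ n ih =>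
    intro a b f g h hf hg
    rcases Nat.eq_zero_or_pos a with rfl | ha
    · rw [show f = 0 from hf, zero_mul, map_zero]
    rcases Nat.eq_zero_or_pos b with rfl | hb
    · rw [show g = 0 from hg, mul_zero, map_zero]
    rw [seqDiff_pow_succ, show seqDiff (f * g) = seqDiff f * seqShift g + f * seqDiff g from
      funext fun m => by simp only [seqDiff_apply, Pi.mul_apply, Pi.add_apply, seqShift, LinearMap.coe_mk, AddHom.coe_mk]; ring]
    rw [map_add, ih (a - 1) b _ _ (by omega) (by rw [← seqDiff_pow_succ, Nat.sub_add_cancel ha]; exact hf)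
      (by rw [seqDiff_pow_shift, hg, map_zero]),
      ih a (b - 1) _ _ (by omega) hf (by rw [← seqDiff_pow_succ, Nat.sub_add_cancel hb]; exact hg), add_zero]

/-- The sequences killed by a power of the difference. -/
def polySeq (L : Type u) [Field L] : Subring (ℕ → L) where
  carrier := {f | ∃ k, (seqDiff ^ k) f = 0}
  one_mem' := ⟨1, funext fun m => by rw [pow_one, seqDiff_apply]; exact sub_self _⟩
  zero_mem' := ⟨0, rfl⟩
  mul_mem' := by
    rintro f g ⟨a, ha⟩ ⟨b, hb⟩
    exact ⟨a + b, seqDiff_pow_mul _ a b f g rfl ha hb⟩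
  add_mem' := by
    rintro f g ⟨a, ha⟩ ⟨b, hb⟩
    exact ⟨max a b, by rw [map_add, seqDiff_pow_mono (le_max_left a b) ha,
      seqDiff_pow_mono (le_max_right a b) hb, add_zero]⟩
  neg_mem' := by
    rintro f ⟨a, ha⟩
    exact ⟨a, by rw [map_neg, ha, neg_zero]⟩

theorem shift_sub_pow (ν : L) (k : ℕ) (f : ℕ → L) :
    (((seqShift : Module.End L (ℕ → L)) - algebraMap L (Module.End L (ℕ → L)) ν) ^ k) (fun m => ν ^ m * f m) =
      fun m => ν ^ (m + k) * ((seqDiff ^ k) f) m := by
  induction k generalizing f with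
  | zero => rfl
  | succ k ih =>
    rw [pow_succ', Module.End.mul_apply, ih]
    funext m
    show ν ^ (m + 1 + k) * ((seqDiff ^ k) f) (m + 1) - ν * (ν ^ (m + k) * ((seqDiff ^ k) f) m) = _
    rw [pow_succ' seqDiff, Module.End.mul_apply, seqDiff_apply]
    ring

variable (Λ : Subgroup Lˣ)

/-- Exponential polynomial evaluation. -/
def expEval : MonoidAlgebra (polySeq L) Λ →+* ℕ → L :=
  MonoidAlgebra.liftNCRingHom (polySeq L).subtype
    { toFun := fun ν m => ((ν : Lˣ) : L) ^ m
      map_one' := funext fun m => by simp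
      map_mul' := fun ν μ => funext fun m => by simp [mul_pow] }
    fun _ _ => Commute.all _ _

theorem expEval_single (ν : Λ) (p : polySeq L) :
    expEval Λ (MonoidAlgebra.single ν p) = fun m => ((ν : Lˣ) : L) ^ m * (p : ℕ → L) m := by
  rw [expEval, MonoidAlgebra.liftNCRingHom_single]
  funext m
  exact mul_comm _ _

theorem expEval_injective : Function.Injective (expEval Λ) := by
  classical
  rw [injective_iff_map_eq_zero]
  intro z hz
  have hsum : ∑ ν ∈ z.coeff.support, (fun m => ((ν : Lˣ) : L) ^ m * (z.coeff ν : ℕ → L) m) = 0 := by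
    rw [← hz]
    conv_rhs => rw [← MonoidAlgebra.sum_coeff_single z, Finsupp.sum, map_sum]
    exact Finset.sum_congr rfl fun ν _ => (expEval_single Λ ν _).symm
  have hind := (Module.End.independent_maxGenEigenspace (seqShift : Module.End L (ℕ → L))).comp
    (f := fun ν : Λ => ((ν : Lˣ) : L)) (fun a b h => Subtype.ext (Units.ext h))
  have h0 := (iSupIndep_iff_finset_sum_eq_zero_imp_eq_zero _).1 hind z.coeff.support
    (fun ν => fun m => ((ν : Lˣ) : L) ^ m * (z.coeff ν : ℕ → L) m)
    (fun ν _ => by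
      obtain ⟨k, hk⟩ := (z.coeff ν).2
      refine (Module.End.mem_maxGenEigenspace _ _ _).2 ⟨k, ?_⟩
      rw [← Algebra.algebraMap_eq_smul_one, shift_sub_pow, hk]
      exact funext fun m => mul_zero _) hsum
  refine MonoidAlgebra.coeff_injective (Finsupp.ext fun ν => Subtype.ext (funext fun m => ?_))
  by_cases hν : ν ∈ z.coeff.support
  · exact (mul_eq_zero.1 (congrFun (h0 ν hν) m)).resolve_left (pow_ne_zero _ (ν : Lˣ).ne_zero)
  · rw [Finsupp.notMem_support_iff.1 hν]
    rfl

end Seq

variable {K : Type u} [Field K] [IsAlgClosed K] {A : Type u} [CommRing A] [IsDomain A] [Algebra K A] {N : ℕ}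

theorem exists_hom_int {G : Type u} [CommGroup G] [Group.FG G] (x : G) (hx : ∀ k, 0 < k → x ^ k ≠ 1) :
    ∃ ℓ : G →* Multiplicative ℤ, ℓ x ≠ 1 := by
  let M := Additive G
  haveI : Module.Finite ℤ M := Module.Finite.iff_addGroup_fg.2 inferInstance
  let x' : M := Additive.ofMul x
  haveI : Module.Free ℤ (M ⧸ Submodule.torsion ℤ M) := Module.free_of_finite_type_torsion_free'
  let b := Module.Free.chooseBasis ℤ (M ⧸ Submodule.torsion ℤ M)
  have hx' : Submodule.Quotient.mk (p := Submodule.torsion ℤ M) x' ≠ 0 := by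
    rw [Ne, Submodule.Quotient.mk_eq_zero, Submodule.mem_torsion_iff]
    rintro ⟨⟨r, hr⟩, hrx⟩
    have hr0 : r ≠ 0 := nonZeroDivisors.ne_zero hr
    have h1 : x ^ r = 1 := hrx
    refine hx r.natAbs (Int.natAbs_pos.2 hr0) ?_
    rcases Int.natAbs_eq r with h | h
    · rw [h] at h1
      rwa [zpow_natCast] at h1
    · rw [h, zpow_neg, inv_eq_one, zpow_natCast] at h1
      exact h1
  obtain ⟨i, hi⟩ : ∃ i, b.repr (Submodule.Quotient.mk x') i ≠ 0 := by
    by_contra! h
    exact hx' (b.repr.injective (Finsupp.ext fun i => (h i).trans (by simp)))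
  exact ⟨AddMonoidHom.toMultiplicativeRight
    ((b.coord i).toAddMonoidHom.comp (Submodule.torsion ℤ M).mkQ.toAddMonoidHom), fun h => hi (congrArg Multiplicative.toAdd h)⟩

/-- The matrix of a finite family at a scalar. -/
def famEval (S : Finset ℤ) (C : ℤ → Matrix (Fin N) (Fin N) K) (t : Kˣ) : Matrix (Fin N) (Fin N) K :=
  ∑ n ∈ S, ((t ^ n : Kˣ) : K) • C n

set_option maxHeartbeats 1600000 in
/-- A generic matrix with an eigenvalue outside the ground field gives a one parameter family. -/
theorem exists_cochar (a : Matrix (Fin N) (Fin N) A) (hdet : a.det ≠ 0)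
    (hpow : ∀ F : MvPolynomial (Fin N × Fin N) K, MvPolynomial.aeval (fun ij => a ij.1 ij.2) F = 0 →
      ∀ m : ℕ, MvPolynomial.aeval (fun ij => (a ^ m) ij.1 ij.2) F = 0)
    (l : AlgebraicClosure (FractionRing A))
    (hl : (a.map (algebraMap A (AlgebraicClosure (FractionRing A)))).charpoly.IsRoot l)
    (hlK : ∀ c : K, algebraMap A (AlgebraicClosure (FractionRing A)) (algebraMap K A c) ≠ l) :
    ∃ (S : Finset ℤ) (C : ℤ → Matrix (Fin N) (Fin N) K), famEval S C 1 = 1 ∧
      (∀ t u, famEval S C t * famEval S C u = famEval S C (t * u)) ∧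
      (∃ t, famEval S C t ≠ 1) ∧
      ∀ F : MvPolynomial (Fin N × Fin N) K, MvPolynomial.aeval (fun ij => a ij.1 ij.2) F = 0 →
        ∀ t, MvPolynomial.eval (fun ij => famEval S C t ij.1 ij.2) F = 0 := by
  classical
  let L := AlgebraicClosure (FractionRing A)
  haveI : IsScalarTower K A L := inferInstance
  have hinjA : Function.Injective (algebraMap A L) := by
    rw [IsScalarTower.algebraMap_eq A (FractionRing A) L]
    exact (algebraMap (FractionRing A) L).injective.comp (IsFractionRing.injective A (FractionRing A))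
  let g := a.map (algebraMap A L)
  have hgdet : g.det ≠ 0 := by
    rw [show g.det = algebraMap A L a.det from ((algebraMap A L).map_det a).symm]
    exact fun h => hdet ((injective_iff_map_eq_zero _).1 hinjA _ h)
  let f : Module.End L (Fin N → L) := Matrix.toLin' g
  have hfinj : Function.Injective f := by
    intro v w hvw
    exact (Matrix.mulVec_injective_iff_isUnit.2 ((Matrix.isUnit_iff_isUnit_det g).2 (isUnit_iff_ne_zero.2 hgdet))) hvw
  have hV0 : ∀ v ∈ f.maxGenEigenspace (0 : L), v = 0 := by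
    intro v hv
    obtain ⟨k, hk⟩ := (Module.End.mem_maxGenEigenspace _ _ _).1 hv
    rw [zero_smul, sub_zero] at hk
    have hinj : Function.Injective ⇑(f ^ k) := by
      rw [Module.End.coe_pow]
      exact hfinj.iterate k
    exact hinj (hk.trans (map_zero _).symm)
  -- decomposition
  have htop := Module.End.iSup_maxGenEigenspace_eq_top f
  have hdec : ∀ j : Fin N, ∃ v : L →₀ Fin N → L, (∀ ν, v ν ∈ f.maxGenEigenspace ν) ∧
      (v.sum fun _ x => x) = Pi.single j 1 := fun j =>
    (Submodule.mem_iSup_iff_exists_finsupp _ _).1 (htop ▸ Submodule.mem_top)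
  choose v hv hvsum using hdec
  obtain ⟨w₀, hw₀⟩ : ∃ w, f.HasEigenvector l w := by
    refine (Module.End.hasEigenvalue_iff_isRoot_charpoly f l).2 ?_ |>.exists_hasEigenvector
    rw [Matrix.charpoly_toLin']
    exact hl
  have hl0 : l ≠ 0 := fun h => hw₀.2 (hfinj (by rw [hw₀.apply_eq_smul, h, zero_smul, map_zero]))
  let E : Finset L := (insert l (Finset.univ.biUnion fun j => (v j).support))
  have hE0 : ∀ ν ∈ E, ν ≠ 0 := by
    intro ν hν h0
    rcases Finset.mem_insert.1 hν with rfl | hν
    · exact hl0 h0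
    obtain ⟨j, -, hj⟩ := Finset.mem_biUnion.1 hν
    exact Finsupp.mem_support_iff.1 hj (hV0 _ (h0 ▸ hv j ν))
  have hsumE : ∀ j, ∑ ν ∈ E, v j ν = Pi.single j 1 := fun j => by
    refine Eq.trans ?_ (hvsum j)
    refine (Finset.sum_subset ?_ fun ν _ hν => Finsupp.notMem_support_iff.1 hν).symm
    exact fun ν hν => Finset.mem_insert_of_mem (Finset.mem_biUnion.2 ⟨j, Finset.mem_univ j, hν⟩)
  -- projections
  let P : L → Module.End L (Fin N → L) := fun ν => Matrix.toLin' (Matrix.of fun i j => v j ν i)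
  have hPe : ∀ ν j, P ν (Pi.single j 1) = v j ν := fun ν j => by
    simp [P, Matrix.toLin'_apply]
    rfl
  have hPmem : ∀ ν x, P ν x ∈ f.maxGenEigenspace ν := by
    intro ν x
    rw [show x = ∑ j, x j • (Pi.single j 1 : Fin N → L) from pi_eq_sum_univ' x, map_sum]
    refine Submodule.sum_mem _ fun j _ => ?_
    rw [map_smul, hPe]
    exact Submodule.smul_mem _ _ (hv j ν)
  have hPsum : ∀ x, ∑ ν ∈ E, P ν x = x := by
    intro x
    conv_rhs => rw [pi_eq_sum_univ' x]
    conv_lhs => rw [pi_eq_sum_univ' x]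
    simp only [map_sum, map_smul, hPe]
    rw [Finset.sum_comm]
    exact Finset.sum_congr rfl fun j _ => by rw [← Finset.smul_sum, hsumE]
  have hind := (iSupIndep_iff_finset_sum_eq_zero_imp_eq_zero _).1 (Module.End.independent_maxGenEigenspace f) E
  have hPid : ∀ μ ∈ E, ∀ x ∈ f.maxGenEigenspace μ, ∀ ν ∈ E, P ν x = if ν = μ then x else 0 := by
    intro μ hμ x hx ν hν
    refine sub_eq_zero.1 (hind (fun ν => P ν x - if ν = μ then x else 0) (fun ν _ => ?_) ?_ ν hν)
    · refine Submodule.sub_mem _ (hPmem ν x) ?_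
      split_ifs with h
      · exact h ▸ hx
      · exact Submodule.zero_mem _
    · rw [Finset.sum_sub_distrib, hPsum, Finset.sum_ite_eq' E μ, if_pos hμ, sub_self]
  -- the grading
  let un : E → Lˣ := fun ν => Units.mk0 ν.1 (hE0 ν.1 ν.2)
  let Λ : Subgroup Lˣ := Subgroup.closure (Set.range un)
  haveI : Group.FG Λ := Group.closure_finite_fg _
  let γ : E → Λ := fun ν => ⟨un ν, Subgroup.subset_closure ⟨ν, rfl⟩⟩
  let l' : E := ⟨l, Finset.mem_insert_self _ _⟩
  obtain ⟨ℓ, hℓ⟩ := exists_hom_int (γ l') fun r hr h => by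
    have h1 : l ^ r = 1 := congrArg (fun x : Λ => ((x : Lˣ) : L)) h
    obtain ⟨c, hc⟩ : l ∈ (algebraMap K L).range := by
      have hi : IsIntegral K l := ⟨Polynomial.X ^ r - Polynomial.C 1, Polynomial.monic_X_pow_sub_C _ hr.ne', by simp [h1]⟩
      exact minpoly.mem_range_of_degree_eq_one K l (IsAlgClosed.degree_eq_one_of_irreducible K (minpoly.irreducible hi))
    exact hlK c ((IsScalarTower.algebraMap_apply K A L c).symm.trans hc)
  let deg : E → ℤ := fun ν => (ℓ (γ ν)).toAdd
  let CL : ℤ → Matrix (Fin N) (Fin N) L := fun n => ∑ ν ∈ Finset.univ.filter (fun ν => deg ν = n), LinearMap.toMatrix' (P ν.1)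
  let S : Finset ℤ := Finset.univ.image deg
  -- vanishing on the family
  have hvan : ∀ F : MvPolynomial (Fin N × Fin N) K, MvPolynomial.aeval (fun ij => a ij.1 ij.2) F = 0 →
      ∀ t : Lˣ, MvPolynomial.aeval (fun ij => (∑ n ∈ S, ((t ^ n : Lˣ) : L) • CL n) ij.1 ij.2) F = 0 := by
    intro F hF t
    have hp : ∀ (ν : E) (i j : Fin N), (fun m : ℕ => (ν.1 ^ m)⁻¹ * ((f ^ m) (v j ν.1)) i) ∈ polySeq L := by
      intro ν i j
      obtain ⟨r, hr⟩ := (Module.End.mem_maxGenEigenspace _ _ _).1 (hv j ν.1)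
      refine ⟨r, ?_⟩
      have hν := hE0 ν.1 ν.2
      have key : ∀ (r : ℕ) (w : Fin N → L), (seqDiff ^ r) (fun m => (ν.1 ^ m)⁻¹ * ((f ^ m) w) i) =
          fun m => (ν.1 ^ (m + r))⁻¹ * ((f ^ m) (((f - ν.1 • 1) ^ r) w)) i := by
        intro r
        induction r with
        | zero => exact fun _ => rfl
        | succ r ih =>
          intro w
          funext m
          rw [pow_succ' seqDiff, Module.End.mul_apply, seqDiff_apply, ih, pow_succ' (f - ν.1 • 1), Module.End.mul_apply]
          simp only [LinearMap.sub_apply, LinearMap.smul_apply, Module.End.one_apply, map_sub, map_smul, Pi.sub_apply,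
            Pi.smul_apply, smul_eq_mul]
          rw [pow_succ f, Module.End.mul_apply]
          rw [show m + 1 + r = m + r + 1 by omega, show m + (r + 1) = m + r + 1 by omega, pow_succ ν.1 (m + r), mul_sub, mul_inv_rev]
          have hc : ν.1⁻¹ * ν.1 = 1 := inv_mul_cancel₀ hν
          linear_combination ((ν.1 ^ (m + r))⁻¹ * (f ^ m) (((f - ν.1 • 1) ^ r) w) i) * hc
      rw [key, hr]
      exact funext fun m => by simp
    let cst : K →+* MonoidAlgebra (polySeq L) Λ := MonoidAlgebra.singleOneRingHom.comp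
      ({ toFun := fun c => ⟨fun _ => algebraMap K L c, ⟨1, funext fun m => by rw [pow_one, seqDiff_apply]; exact sub_self _⟩⟩
         map_one' := Subtype.ext (funext fun m => map_one (algebraMap K L))
         map_mul' := fun c d => Subtype.ext (funext fun m => map_mul (algebraMap K L) c d)
         map_zero' := Subtype.ext (funext fun m => map_zero (algebraMap K L))
         map_add' := fun c d => Subtype.ext (funext fun m => map_add (algebraMap K L) c d) } : K →+* polySeq L)
    let Φ : Fin N × Fin N → MonoidAlgebra (polySeq L) Λ := fun ij =>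
      ∑ ν : E, MonoidAlgebra.single (γ ν) ⟨_, hp ν ij.1 ij.2⟩
    have hΦ : MvPolynomial.eval₂ cst Φ F = 0 := by
      apply expEval_injective Λ
      rw [map_zero, MvPolynomial.eval₂_comp_left]
      funext m
      rw [show (MvPolynomial.eval₂ ((expEval Λ).comp cst) (expEval Λ ∘ Φ) F) m =
        MvPolynomial.eval₂ ((Pi.evalRingHom (fun _ : ℕ => L) m).comp ((expEval Λ).comp cst))
          (Pi.evalRingHom (fun _ : ℕ => L) m ∘ expEval Λ ∘ Φ) F from MvPolynomial.eval₂_comp_left (Pi.evalRingHom (fun _ : ℕ => L) m) _ _ F]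
      have h := congrArg (algebraMap A L) (hpow F hF m)
      rw [MvPolynomial.aeval_def, MvPolynomial.eval₂_comp_left, map_zero] at h
      refine Eq.trans ?_ h
      congr 1
      · refine RingHom.ext fun c => ?_
        show expEval Λ (MonoidAlgebra.single 1 _) m = _
        rw [expEval_single]
        simp
        rfl
      · funext ij
        show expEval Λ (Φ ij) m = algebraMap A L ((a ^ m) ij.1 ij.2)
        simp only [Φ, map_sum, expEval_single, Finset.sum_apply]
        have hgm : algebraMap A L ((a ^ m) ij.1 ij.2) = ((f ^ m) (Pi.single ij.2 1)) ij.1 := by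
          rw [show f ^ m = Matrix.toLin' (g ^ m) from (map_pow (Matrix.toLinAlgEquiv' : _ ≃ₐ[L] _) g m).symm,
            Matrix.toLin'_apply, Matrix.mulVec_single_one,
            show g ^ m = (a ^ m).map (algebraMap A L) from (map_pow (algebraMap A L).mapMatrix a m).symm]
          rfl
        rw [hgm, ← hsumE ij.2, map_sum, Finset.sum_apply, ← Finset.sum_coe_sort E]
        refine Finset.sum_congr rfl fun ν _ => ?_
        show ν.1 ^ m * ((ν.1 ^ m)⁻¹ * _) = _
        rw [mul_inv_cancel_left₀ (pow_ne_zero _ (hE0 ν.1 ν.2))]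
    let κ : MonoidAlgebra (polySeq L) Λ →+* L :=
      MonoidAlgebra.liftNCRingHom ((Pi.evalRingHom (fun _ : ℕ => L) 0).comp (polySeq L).subtype)
        ((Units.coeHom L).comp ((zpowersHom Lˣ t).comp ℓ)) fun _ _ => Commute.all _ _
    have h := congrArg κ hΦ
    rw [map_zero, MvPolynomial.eval₂_comp_left] at h
    rw [MvPolynomial.aeval_def]
    refine Eq.trans ?_ h
    congr 1
    · refine RingHom.ext fun c => ?_
      show _ = κ (MonoidAlgebra.single 1 _)
      simp only [κ, MonoidAlgebra.liftNCRingHom_single, map_one, mul_one]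
      rfl
    · funext ij
      show (∑ n ∈ S, ((t ^ n : Lˣ) : L) • CL n) ij.1 ij.2 = κ (Φ ij)
      simp only [Φ, map_sum, κ, MonoidAlgebra.liftNCRingHom_single, CL, Matrix.sum_apply, Matrix.smul_apply,
        Finset.mul_sum, smul_eq_mul]
      rw [← Finset.sum_fiberwise_of_maps_to (s := Finset.univ) (t := S) (g := deg)
        (fun ν _ => Finset.mem_image_of_mem _ (Finset.mem_univ ν))]
      refine Finset.sum_congr rfl fun n _ => ?_
      rw [Finset.mul_sum]
      refine Finset.sum_congr rfl fun ν hν => ?_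
      rw [← (Finset.mem_filter.1 hν).2, LinearMap.toMatrix'_apply, mul_comm]
      congr 1
      rw [hPe]
      simp
  -- descent to the ground field
  obtain ⟨i₀, j₀, hx₀⟩ : ∃ i j, CL (deg l') i j ≠ 0 := by
    by_contra! h
    have h1 : Matrix.toLin' (CL (deg l')) w₀ = 0 := by
      rw [show CL (deg l') = 0 from Matrix.ext h, map_zero, LinearMap.zero_apply]
    simp only [CL, map_sum, Matrix.toLin'_toMatrix', LinearMap.sum_apply] at h1
    have hmem : w₀ ∈ f.maxGenEigenspace l :=
      (Module.End.mem_maxGenEigenspace _ _ _).2 ⟨1, by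
        rw [pow_one, LinearMap.sub_apply, LinearMap.smul_apply, Module.End.one_apply, hw₀.apply_eq_smul, sub_self]⟩
    have h2 : ∑ ν ∈ Finset.univ.filter (fun ν => deg ν = deg l'), P ν.1 w₀ = P l'.1 w₀ :=
      Finset.sum_eq_single_of_mem l' (Finset.mem_filter.2 ⟨Finset.mem_univ _, rfl⟩) fun ν _ hν => by
        rw [hPid l l'.2 w₀ hmem ν.1 ν.2, if_neg fun h => hν (Subtype.ext h)]
    exact hw₀.2 (((hPid l l'.2 w₀ hmem l l'.2).trans (if_pos rfl)).symm.trans (h2.symm.trans h1))
  let sgen : Set L := insert (CL (deg l') i₀ j₀)⁻¹ (Set.range fun p : S × Fin N × Fin N => CL p.1 p.2.1 p.2.2)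
  let R := Algebra.adjoin K sgen
  haveI : Algebra.FiniteType K R :=
    Algebra.FiniteType.adjoin_of_finite ((Set.finite_range _).insert _)
  haveI : Nontrivial R := inferInstance
  obtain ⟨m, hm⟩ := Ideal.exists_maximal R
  haveI := hm
  letI := Ideal.Quotient.field m
  haveI : Algebra.FiniteType K (R ⧸ m) := Algebra.FiniteType.of_surjective (Ideal.Quotient.mkₐ K m) Ideal.Quotient.mk_surjective
  haveI : Module.Finite K (R ⧸ m) := finite_of_finite_type_of_isJacobsonRing K (R ⧸ m)
  haveI : Algebra.IsIntegral K (R ⧸ m) := Algebra.IsIntegral.of_finite K (R ⧸ m)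
  let e := AlgEquiv.ofBijective (Algebra.ofId K (R ⧸ m)) IsAlgClosed.algebraMap_bijective_of_isIntegral
  let χ : R →ₐ[K] K := e.symm.toAlgHom.comp (Ideal.Quotient.mkₐ K m)
  let CR : S → Matrix (Fin N) (Fin N) R := fun n => Matrix.of fun i j =>
    ⟨CL n i j, Algebra.subset_adjoin (Set.mem_insert_of_mem _ ⟨⟨n, i, j⟩, rfl⟩)⟩
  let C : ℤ → Matrix (Fin N) (Fin N) K := fun n => if h : n ∈ S then (CR ⟨n, h⟩).map χ else 0
  have hCRval : ∀ n : S, (CR n).map (Subtype.val : R → L) = CL n := fun n => Matrix.ext fun i j => rfl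
  have hlift : ∀ t : Kˣ, ∃ X : Matrix (Fin N) (Fin N) R,
      X.map (Subtype.val : R → L) = ∑ n ∈ S, (((Units.map (algebraMap K L).toMonoidHom t) ^ n : Lˣ) : L) • CL n ∧
      X.map χ = famEval S C t := by
    intro t
    refine ⟨∑ n : S, algebraMap K R ((t ^ (n : ℤ) : Kˣ) : K) • CR n, ?_, ?_⟩
    · ext i j
      simp only [Matrix.map_apply, Matrix.sum_apply, Matrix.smul_apply, smul_eq_mul]
      rw [AddSubmonoidClass.coe_finsetSum, ← Finset.sum_coe_sort S]
      refine Finset.sum_congr rfl fun n _ => ?_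
      rw [← map_zpow]
      rfl
    · ext i j
      simp only [Matrix.map_apply, Matrix.sum_apply, Matrix.smul_apply, smul_eq_mul, map_sum, map_mul, AlgHom.commutes,
        famEval, C]
      rw [← Finset.sum_coe_sort S]
      refine Finset.sum_congr rfl fun n _ => ?_
      rw [dif_pos n.2]
      rfl
  have hinjM : ∀ X Y : Matrix (Fin N) (Fin N) R, R.val.toRingHom.mapMatrix X = R.val.toRingHom.mapMatrix Y → X = Y :=
    fun X Y h => Matrix.ext fun i j => Subtype.ext (congrFun (congrFun h i) j)
  have hPP : ∀ ν μ : E, LinearMap.toMatrix' (P ν.1) * LinearMap.toMatrix' (P μ.1) =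
      if ν = μ then LinearMap.toMatrix' (P μ.1) else 0 := by
    intro ν μ
    have h : P ν.1 ∘ₗ P μ.1 = if ν = μ then P μ.1 else 0 := LinearMap.ext fun x => by
      rw [LinearMap.comp_apply, hPid μ.1 μ.2 _ (hPmem μ.1 x) ν.1 ν.2]
      by_cases h : ν = μ
      · rw [if_pos h, if_pos (congrArg Subtype.val h)]
      · rw [if_neg h, if_neg fun e => h (Subtype.ext e), LinearMap.zero_apply]
    rw [← LinearMap.toMatrix'_comp, h]
    split_ifs <;> simp
  have hmulL : ∀ t u : Lˣ, (∑ n ∈ S, ((t ^ n : Lˣ) : L) • CL n) * (∑ n ∈ S, ((u ^ n : Lˣ) : L) • CL n) =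
      ∑ n ∈ S, (((t * u) ^ n : Lˣ) : L) • CL n := by
    have hform : ∀ t : Lˣ, ∑ n ∈ S, ((t ^ n : Lˣ) : L) • CL n =
        ∑ ν : E, ((t ^ deg ν : Lˣ) : L) • LinearMap.toMatrix' (P ν.1) := fun t => by
      rw [← Finset.sum_fiberwise_of_maps_to (s := Finset.univ) (t := S) (g := deg)
        (fun ν _ => Finset.mem_image_of_mem _ (Finset.mem_univ ν))]
      refine Finset.sum_congr rfl fun n _ => ?_
      simp only [CL, Finset.smul_sum]
      exact Finset.sum_congr rfl fun ν hν => by rw [(Finset.mem_filter.1 hν).2]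
    intro t u
    rw [hform, hform, hform, Finset.sum_mul_sum]
    refine Finset.sum_congr rfl fun ν _ => ?_
    rw [Finset.sum_eq_single ν (fun μ _ hμ => by rw [smul_mul_smul_comm, hPP, if_neg (Ne.symm hμ), smul_zero])
      (fun h => absurd (Finset.mem_univ ν) h), smul_mul_smul_comm, hPP, if_pos rfl, mul_zpow, Units.val_mul]
  refine ⟨S, C, ?_, ?_, ?_, ?_⟩
  · obtain ⟨X, hX, hX'⟩ := hlift 1
    have hX1 : X = 1 := by
      refine hinjM X 1 ?_
      rw [map_one]
      refine hX.trans ?_
      simp only [map_one, one_zpow, Units.val_one, one_smul]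
      rw [show ∑ n ∈ S, CL n = ∑ ν : E, LinearMap.toMatrix' (P ν.1) from Finset.sum_fiberwise_of_maps_to
        (fun ν _ => Finset.mem_image_of_mem _ (Finset.mem_univ ν)) _]
      rw [← map_sum, show ∑ ν : E, P ν.1 = LinearMap.id from LinearMap.ext fun x => by
        rw [LinearMap.sum_apply, Finset.sum_coe_sort E (fun ν => P ν x)]; exact hPsum x, LinearMap.toMatrix'_id]
    rw [← hX', hX1]
    exact map_one χ.toRingHom.mapMatrix
  · intro t u
    obtain ⟨X, hX, hX'⟩ := hlift t
    obtain ⟨Y, hY, hY'⟩ := hlift u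
    obtain ⟨Z, hZ, hZ'⟩ := hlift (t * u)
    have hXY : X * Y = Z := hinjM _ _ (by
      rw [map_mul]
      refine Eq.trans ?_ hZ.symm
      rw [map_mul (Units.map _), ← hmulL, ← hX, ← hY]
      rfl)
    rw [← hX', ← hY', ← hZ', ← hXY]
    exact (map_mul χ.toRingHom.mapMatrix X Y).symm
  · by_contra! hall
    have hdegS : deg l' ∈ S := Finset.mem_image_of_mem _ (Finset.mem_univ l')
    have hχ : C (deg l') i₀ j₀ ≠ 0 := by
      simp only [C, dif_pos hdegS, Matrix.map_apply]
      have hunit : CR ⟨_, hdegS⟩ i₀ j₀ * ⟨(CL (deg l') i₀ j₀)⁻¹, Algebra.subset_adjoin (Set.mem_insert _ _)⟩ = 1 :=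
        Subtype.ext (mul_inv_cancel₀ hx₀)
      exact left_ne_zero_of_mul_eq_one (by rw [← map_mul, hunit, map_one] : χ (CR ⟨_, hdegS⟩ i₀ j₀) * _ = 1)
    have hn0 : deg l' ≠ 0 := fun h => hℓ (Multiplicative.toAdd.injective h)
    -- a vanishing Laurent polynomial
    let q : ℕ := S.sup Int.natAbs
    let p : Polynomial K := (∑ n ∈ S, Polynomial.monomial (n + q).toNat (C n i₀ j₀)) -
      Polynomial.monomial q ((1 : Matrix (Fin N) (Fin N) K) i₀ j₀)
    have hnq : ∀ n ∈ S, 0 ≤ n + (q : ℤ) := fun n hn => by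
      have := Finset.le_sup (f := Int.natAbs) hn
      omega
    have hp0 : p = 0 := by
      refine Polynomial.eq_zero_of_infinite_isRoot p (Set.Infinite.mono (s := {(0 : K)}ᶜ) (fun x hx => ?_) ?_)
      · have hx0 : x ≠ 0 := hx
        have h := congrFun (congrFun (hall (Units.mk0 x hx0)) i₀) j₀
        simp only [famEval, Matrix.sum_apply, Matrix.smul_apply, smul_eq_mul] at h
        show Polynomial.eval x p = 0
        simp only [p, Polynomial.eval_sub, Polynomial.eval_finsetSum, Polynomial.eval_monomial]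
        rw [← h, Finset.sum_mul, sub_eq_zero]
        refine Finset.sum_congr rfl fun n hn => ?_
        rw [Units.val_zpow_eq_zpow_val, Units.val_mk0, ← zpow_natCast x (n + q).toNat, Int.toNat_of_nonneg (hnq n hn),
          zpow_add₀ hx0, zpow_natCast]
        ring
      · exact (Set.finite_singleton (0 : K)).infinite_compl
    have hco := congrArg (fun r => Polynomial.coeff r (deg l' + q).toNat) hp0
    simp only [p, Polynomial.coeff_sub, Polynomial.finsetSum_coeff, Polynomial.coeff_monomial, Polynomial.coeff_zero] at hco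
    rw [Finset.sum_eq_single (deg l') (fun n hn hne => if_neg fun h => hne (by
        have h1 := hnq n hn
        have h2 := hnq _ hdegS
        omega)) (fun h => absurd hdegS h), if_pos rfl, if_neg (fun h => hn0 (by
          have h2 := hnq _ hdegS
          omega)), sub_zero] at hco
    exact hχ hco
  · intro F hF t
    obtain ⟨X, hX, hX'⟩ := hlift t
    have h0 := hvan F hF (Units.map (algebraMap K L).toMonoidHom t)
    rw [← hX] at h0
    have h1 : MvPolynomial.aeval (fun ij => X ij.1 ij.2) F = 0 := by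
      apply Subtype.val_injective
      rw [show ((MvPolynomial.aeval (fun ij => X ij.1 ij.2) F : R) : L) =
        MvPolynomial.aeval (fun ij => (X ij.1 ij.2 : L)) F from (MvPolynomial.comp_aeval_apply _ R.val F)]
      exact h0
    have h2 := congrArg χ h1
    rw [MvPolynomial.comp_aeval_apply, map_zero] at h2
    rw [← hX', ← MvPolynomial.coe_aeval_eq_eval]
    exact h2

end Groth.Agent.AffSpecLib
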