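import Groth.Agent.AffSpecLib.Affine
import Groth.Agent.SubgSpecLib.Base
import Groth.Agent.SubgSpecLib.Ext

/-!
# Affine companions over valuation rings, of geometric fibres and over smaller fields
-/

set_option autoImplicit false
set_option backward.isDefEq.respectTransparency false
set_option backward.isDefEq.respectTransparency.types false
set_option linter.style.haveILetI false
set_option linter.unusedSectionVars false

universe u

open CategoryTheory CategoryTheory.Limits MonoidalCategory CartesianMonoidalCategory MonObj AlgebraicGeometry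
open IsLocalRing

attribute [-instance] CategoryTheory.CommGrpObj.toIsCommMonObj CategoryTheory.CommGrpObj.toGrpObj CategoryTheory.Hom.commGroup

noncomputable section

namespace Groth.Agent.AffSpecLib

open SubgSpecLib

/-- The vanishing series. -/
def botSeries : Series.{u} where
  F _ := ⊥
  le _ := bot_le
  mono _ := le_rfl
  map f _ := Subgroup.map_bot f
  fin _ x hx := ⟨∅, by simp, hx.symm ▸ one_mem _⟩

/-- The group acts on its functions by uniformly unipotent translations. -/
def IsUnipAct {K : Type u} [Field K] (H : Over (Spec (CommRingCat.of K))) [GrpObj H] : Prop :=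
  ∀ f : Γ(H.left, ⊤), ∃ r, ∀ c : 𝟙_ (Over (Spec (CommRingCat.of K))) ⟶ H,
    (fun x => (trL H c).left.appTop x - x)^[r] f = 0

/-- Unipotence read on the function field of an integral group: it is algebraic over functions on which
a dense set of points acts unipotently. -/
def HasUnipTrans {k : Type u} [Field k] (Γ : Over (Spec (CommRingCat.of k))) [GrpObj Γ] : Prop :=
  ∃ (_ : IsIntegral Γ.left) (S : Set (𝟙_ (Over (Spec (CommRingCat.of k))) ⟶ Γ)),
    Dense ((fun c => c.left GenSubLib.base₀) '' S) ∧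
      ∀ t : Γ.left.functionField, IsAlgebraic (Subring.closure (transSet Γ S True)) t

variable {V : Type u} [CommRing V] [IsDomain V] [ValuationRing V]
variable (K : Type u) [Field K] [Algebra V K] [IsFractionRing V K] [IsAlgClosed K]
variable {G : Over (Spec (CommRingCat.of V))} [GrpObj G] [LocallyOfFiniteType G.hom] [QuasiCompact G.hom]
variable {k : Type u} [Field k] [IsAlgClosed k] (π : V →+* k) (hπ : Function.Surjective π)

include hπ

set_option maxHeartbeats 1600000 in
/-- An affine subgroup of the generic fibre has an affine companion in the special fibre. -/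
theorem exists_special_affine (Ser : Series.{u}) (H : Over (Spec (CommRingCat.of K))) [GrpObj H]
    (i : H ⟶ Red.bc (gen (V := V) K) G) [IsMonHom i] [IsClosedImmersion i.left] [Smooth H.hom] [IsAffine H.left]
    [ConnectedSpace H.left] (hH : ∀ T, Ser.F (⊤ : Subgroup (T ⟶ H)) = ⊥) (n : ℕ)
    (hn : (n : WithBot ℕ∞) ≤ topologicalKrullDim ↥H.left) :
    ∃ (Γ : Over (Spec (CommRingCat.of k))) (_ : GrpObj Γ) (i' : Γ ⟶ Red.bc (Spec.map (CommRingCat.ofHom π)) G),
      IsMonHom i' ∧ IsClosedImmersion i'.left ∧ Smooth Γ.hom ∧ ConnectedSpace ↥Γ.left ∧ IsAffine Γ.left ∧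
      Ser.F (⊤ : Subgroup (𝟙_ (Over (Spec (CommRingCat.of k))) ⟶ Γ)) = ⊥ ∧
      (n : WithBot ℕ∞) ≤ topologicalKrullDim ↥Γ.left ∧ (IsUnipAct H → HasUnipTrans Γ) := by
  haveI : IsReduced H.left := ASp.isReduced_of_smooth H.hom
  haveI : LocallyOfFiniteType H.hom := inferInstance
  haveI := GrpSchLib.irreducibleSpace_of_connectedSpace (G := H)
  haveI : IsIntegral H.left := isIntegral_of_irreducibleSpace_of_isReduced H.left
  obtain ⟨-, m, -, hm, -, -⟩ := DimFormulaLib.field_dims H.hom (genericPoint H.left)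
  have hdimH := DimFormulaLib.topologicalKrullDim_eq_trdeg H.hom m hm
  obtain ⟨Γ, hΓ, i', hi', hci', hsm, hconn, hF, hdim, hD⟩ :=
    AffSpecLib.exists_special K π hπ Ser H i hH m hdimH.ge
  letI := hΓ
  haveI := hi'
  haveI := hci'
  haveI := hsm
  haveI := hconn
  haveI : LocallyOfFiniteType Γ.hom := inferInstance
  haveI : IsReduced Γ.left := ASp.isReduced_of_smooth Γ.hom
  haveI := GrpSchLib.irreducibleSpace_of_connectedSpace (G := Γ)
  haveI : IsIntegral Γ.left := isIntegral_of_irreducibleSpace_of_isReduced Γ.left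
  haveI : QuasiCompact (Red.bc (Spec.map (CommRingCat.ofHom π)) G).hom :=
    MorphismProperty.pullback_snd _ _ ‹QuasiCompact G.hom›
  haveI : QuasiCompact Γ.hom := by rw [← Over.w i']; infer_instance
  let S : Set (𝟙_ (Over (Spec (CommRingCat.of k))) ⟶ Γ) :=
    {c | ∃ h : 𝟙_ (Over (Spec (CommRingCat.of V))) ⟶ G, (∃ hK, hK ≫ i = ptBC (gen (V := V) K) G h) ∧
        c ≫ i' = ptBC (Spec.map (CommRingCat.ofHom π)) G h}
  have hS : Dense ((fun c => c.left GenSubLib.base₀) '' S) := hD.mono (by
    rintro _ ⟨h, hK, hk, hhk, rfl⟩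
    exact ⟨hk, ⟨h, hK, hhk⟩, rfl⟩)
  refine ⟨Γ, hΓ, i', hi', hci', hsm, hconn, ?_, hF, ?_, fun hu => ⟨inferInstance, S, hS, ?_⟩⟩
  · refine isAffine_of_algebraic Γ fun t => ?_
    have hle : Subring.closure (transSet Γ S False) ≤ (glob Γ).range :=
      Subring.closure_le.2 fun q hq => mem_glob Γ S hS False q hq
    obtain ⟨P, hP, hP0⟩ := isAlgebraic_trans K π hπ H i Γ i' m hdimH hdim hD False (fun h => h.elim) t
    refine ⟨P.map (Subring.inclusion hle),
      (Polynomial.map_ne_zero_iff (Subring.inclusion_injective hle)).2 hP, ?_⟩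
    rw [Polynomial.aeval_def, Polynomial.eval₂_map]
    exact hP0
  · rw [hdimH] at hn
    exact hn.trans hdim
  · exact isAlgebraic_trans K π hπ H i Γ i' m hdimH hdim hD True fun _ => hu

omit hπ

variable {S : Scheme.{u}}

set_option maxHeartbeats 1600000 in
/-- An affine subgroup of a geometric fibre has an affine companion in every specialized fibre. -/
theorem exists_specialized_affine (G : Over S) [GrpObj G] [LocallyOfFiniteType G.hom] [QuasiCompact G.hom] (n : ℕ)
    {s s' : S} (h : s ⤳ s') (Ser : Series.{u})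
    (H : Over (Spec (CommRingCat.of (AlgebraicClosure (S.residueField s))))) [GrpObj H] (i : H ⟶ Red.geomFibre s G)
    [IsMonHom i] [IsClosedImmersion i.left] [Smooth H.hom] [IsAffine H.left] [ConnectedSpace H.left]
    (hH : ∀ T, Ser.F (⊤ : Subgroup (T ⟶ H)) = ⊥) (hn : (n : WithBot ℕ∞) ≤ topologicalKrullDim ↥H.left) :
    ∃ (Γ : Over (Spec (CommRingCat.of (AlgebraicClosure (S.residueField s'))))) (_ : GrpObj Γ)
      (i' : Γ ⟶ Red.geomFibre s' G),
      IsMonHom i' ∧ IsClosedImmersion i'.left ∧ Smooth Γ.hom ∧ ConnectedSpace ↥Γ.left ∧ IsAffine Γ.left ∧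
      Ser.F (⊤ : Subgroup (𝟙_ (Over (Spec (CommRingCat.of (AlgebraicClosure (S.residueField s'))))) ⟶ Γ)) = ⊥ ∧
      (n : WithBot ℕ∞) ≤ topologicalKrullDim ↥Γ.left ∧ (IsUnipAct H → HasUnipTrans Γ) := by
  let K := AlgebraicClosure (S.residueField s)
  let Ω := AlgebraicClosure (S.residueField s')
  let f : S.presheaf.stalk s' →+* K :=
    (algebraMap (S.residueField s) K).comp ((S.residue s).hom.comp (S.presheaf.stalkSpecializes h).hom)
  obtain ⟨V, g, hg, hloc, hint⟩ := exists_valuationSubring f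
  haveI := hloc
  haveI : IsAlgClosed (ResidueField V) := isAlgClosed_residueField V
  let r₀ : S.residueField s' →+* ResidueField V := ResidueField.map g
  letI : Algebra (S.residueField s') (ResidueField V) := r₀.toAlgebra
  haveI : Algebra.IsAlgebraic (S.residueField s') (ResidueField V) := by
    refine ⟨fun x => ?_⟩
    obtain ⟨p, hp, hpx⟩ := hint x
    have hi : IsIntegral (S.residueField s') x := ⟨p.map (S.residue s').hom, hp.map _, by
      rw [Polynomial.eval₂_map]
      exact hpx⟩
    exact hi.isAlgebraic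
  haveI : IsAlgClosure (S.residueField s') (ResidueField V) := ⟨inferInstance, inferInstance⟩
  let e : ResidueField V ≃ₐ[S.residueField s'] Ω := IsAlgClosure.equiv (S.residueField s') (ResidueField V) Ω
  let π : V →+* Ω := e.toRingEquiv.toRingHom.comp (residue V)
  have hπ : Function.Surjective π := e.surjective.comp residue_surjective
  let v : Spec (CommRingCat.of V) ⟶ S := Spec.map (CommRingCat.ofHom g) ≫ S.fromSpecStalk s'
  let j := Spec.map (CommRingCat.ofHom π)
  have h1 : gen (V := V) K ≫ v = Red.geomPt s := by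
    show Spec.map (CommRingCat.ofHom (algebraMap V K)) ≫ Spec.map (CommRingCat.ofHom g) ≫ S.fromSpecStalk s' =
      Spec.map (CommRingCat.ofHom (algebraMap (S.residueField s) K)) ≫ Spec.map (S.residue s) ≫ S.fromSpecStalk s
    rw [← Scheme.SpecMap_stalkSpecializes_fromSpecStalk h, ← Spec.map_comp_assoc, ← Spec.map_comp_assoc, ← Spec.map_comp_assoc]
    congr 2
    ext r
    exact hg r
  have h2 : j ≫ v = Red.geomPt s' := by
    show Spec.map (CommRingCat.ofHom π) ≫ Spec.map (CommRingCat.ofHom g) ≫ S.fromSpecStalk s' =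
      Spec.map (CommRingCat.ofHom (algebraMap (S.residueField s') Ω)) ≫ Spec.map (S.residue s') ≫ S.fromSpecStalk s'
    rw [← Spec.map_comp_assoc, ← Spec.map_comp_assoc]
    congr 2
    ext r
    exact e.commutes ((S.residue s').hom r)
  haveI : LocallyOfFiniteType (Red.bc v G).hom := MorphismProperty.pullback_snd _ _ ‹LocallyOfFiniteType G.hom›
  haveI : QuasiCompact (Red.bc v G).hom := MorphismProperty.pullback_snd _ _ ‹QuasiCompact G.hom›
  obtain ⟨φ, hφ⟩ : ∃ φ : Red.bc (gen (V := V) K) (Red.bc v G) ≅ Red.geomFibre s G, IsMonHom φ.hom :=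
    ⟨_, ActBC.bcCompIso_isMonHom (gen (V := V) K) v h1⟩
  obtain ⟨ψ, hψ⟩ : ∃ ψ : Red.bc j (Red.bc v G) ≅ Red.geomFibre s' G, IsMonHom ψ.hom :=
    ⟨_, ActBC.bcCompIso_isMonHom j v h2⟩
  haveI : IsClosedImmersion (i ≫ φ.inv).left := by rw [Over.comp_left]; infer_instance
  obtain ⟨Γ, hΓ, i', hi', hci', hsm, hconn, haff, hF, hdim, hu⟩ :=
    exists_special_affine (V := V) (G := Red.bc v G) K π hπ Ser H (i ≫ φ.inv) hH n hn
  letI := hΓ
  haveI := hi'
  haveI := hci'
  haveI : IsClosedImmersion (i' ≫ ψ.hom).left := by rw [Over.comp_left]; infer_instance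
  exact ⟨Γ, hΓ, i' ≫ ψ.hom, inferInstance, inferInstance, hsm, hconn, haff, hF, hdim, hu⟩

set_option maxHeartbeats 1600000 in
/-- An affine subgroup over a bigger algebraically closed field has an affine companion below. -/
theorem exists_descended_affine {k : Type u} [Field k] [IsAlgClosed k] (F : Type u) [Field F] [IsAlgClosed F] [Algebra k F]
    (G : Over (Spec (CommRingCat.of k))) [GrpObj G] [LocallyOfFiniteType G.hom] [QuasiCompact G.hom] (n : ℕ)
    (Ser : Series.{u}) (H : Over (Spec (CommRingCat.of F))) [GrpObj H]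
    (i : H ⟶ Red.bc (Spec.map (CommRingCat.ofHom (algebraMap k F))) G)
    [IsMonHom i] [IsClosedImmersion i.left] [Smooth H.hom] [IsAffine H.left] [ConnectedSpace H.left]
    (hH : ∀ T, Ser.F (⊤ : Subgroup (T ⟶ H)) = ⊥) (hn : (n : WithBot ℕ∞) ≤ topologicalKrullDim ↥H.left) :
    ∃ (Γ : Over (Spec (CommRingCat.of k))) (_ : GrpObj Γ) (i' : Γ ⟶ G),
      IsMonHom i' ∧ IsClosedImmersion i'.left ∧ Smooth Γ.hom ∧ ConnectedSpace ↥Γ.left ∧ IsAffine Γ.left ∧
      Ser.F (⊤ : Subgroup (𝟙_ (Over (Spec (CommRingCat.of k))) ⟶ Γ)) = ⊥ ∧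
      (n : WithBot ℕ∞) ≤ topologicalKrullDim ↥Γ.left ∧ (IsUnipAct H → HasUnipTrans Γ) := by
  obtain ⟨V, g, hg, hloc, hint⟩ := exists_valuationSubring (algebraMap k F)
  let r₀ : k →+* ResidueField V := (residue V).comp g
  letI : Algebra k (ResidueField V) := r₀.toAlgebra
  haveI : Algebra.IsIntegral k (ResidueField V) := ⟨hint⟩
  let e : k ≃+* ResidueField V := RingEquiv.ofBijective (algebraMap k (ResidueField V))
    IsAlgClosed.algebraMap_bijective_of_isIntegral
  let π : V →+* k := e.symm.toRingHom.comp (residue V)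
  have hπ : Function.Surjective π := e.symm.surjective.comp residue_surjective
  let v : Spec (CommRingCat.of V) ⟶ Spec (CommRingCat.of k) := Spec.map (CommRingCat.ofHom g)
  let j := Spec.map (CommRingCat.ofHom π)
  have h1 : gen (V := V) F ≫ v = Spec.map (CommRingCat.ofHom (algebraMap k F)) := by
    rw [← Spec.map_comp]
    congr 1
    ext r
    exact hg r
  have h2 : j ≫ v = 𝟙 _ := by
    rw [← Spec.map_comp, ← Spec.map_id]
    congr 1
    ext r
    exact e.symm_apply_apply r
  haveI : LocallyOfFiniteType (Red.bc v G).hom := MorphismProperty.pullback_snd _ _ ‹LocallyOfFiniteType G.hom›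
  haveI : QuasiCompact (Red.bc v G).hom := MorphismProperty.pullback_snd _ _ ‹QuasiCompact G.hom›
  obtain ⟨φ, hφ⟩ : ∃ φ : Red.bc (gen (V := V) F) (Red.bc v G) ≅
      Red.bc (Spec.map (CommRingCat.ofHom (algebraMap k F))) G, IsMonHom φ.hom :=
    ⟨_, ActBC.bcCompIso_isMonHom (gen (V := V) F) v h1⟩
  obtain ⟨ψ, hψ⟩ : ∃ ψ : Red.bc j (Red.bc v G) ≅ Red.bc (j ≫ v) G, IsMonHom ψ.hom :=
    ⟨_, ActBC.bcCompIso_isMonHom j v rfl⟩
  obtain ⟨δ, hδ, hδi⟩ := exists_bcId (j ≫ v) h2 G
  haveI : IsClosedImmersion (i ≫ φ.inv).left := by rw [Over.comp_left]; infer_instance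
  obtain ⟨Γ, hΓ, i', hi', hci', hsm, hconn, haff, hF, hdim, hu⟩ :=
    exists_special_affine (V := V) (G := Red.bc v G) F π hπ Ser H (i ≫ φ.inv) hH n hn
  letI := hΓ
  haveI := hi'
  haveI := hci'
  haveI : IsClosedImmersion (i' ≫ ψ.hom ≫ δ).left := by rw [Over.comp_left, Over.comp_left]; infer_instance
  exact ⟨Γ, hΓ, i' ≫ ψ.hom ≫ δ, inferInstance, inferInstance, hsm, hconn, haff, hF, hdim, hu⟩

end Groth.Agent.AffSpecLib
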