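import Groth.Agent.SubgSpecLib.Geom
import Groth.Agent.GenSubLib.Universal
import Groth.Agent.GenSubLib.AlgClosed
import Groth.Agent.PrincBundLib.Generic
import Groth.Agent.OpenDim.SectionDim
import Groth.Agent.SmoothStratLib.Noeth
import Groth.Agent.DimFormulaLib.Field
import Groth.Agent.ASp.PropDescend

/-!
# Closure of a subgroup of the generic fibre: data at a generic point of the special fibre
-/

set_option autoImplicit false
set_option backward.isDefEq.respectTransparency false
set_option backward.isDefEq.respectTransparency.types false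
set_option linter.style.haveILetI false
set_option linter.unusedSectionVars false

universe u

open CategoryTheory CategoryTheory.Limits MonoidalCategory CartesianMonoidalCategory MonObj AlgebraicGeometry
open Topology TopologicalSpace

noncomputable section

namespace Groth.Agent.AffSpecLib

open SubgSpecLib

variable {V : Type u} [CommRing V] [IsDomain V] [ValuationRing V]
variable (K : Type u) [Field K] [Algebra V K] [IsFractionRing V K]

variable {G : Over (Spec (CommRingCat.of V))} [GrpObj G] [LocallyOfFiniteType G.hom]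
variable {Ω : Type u} [Field Ω] [IsAlgClosed Ω] (π : V →+* Ω) (hπ : Function.Surjective π)
variable [IsAlgClosed K]

include hπ

set_option maxHeartbeats 1600000 in
theorem exists_data (H : Over (Spec (CommRingCat.of K))) [GrpObj H] (i : H ⟶ Red.bc (gen (V := V) K) G) [IsMonHom i]
    [IsClosedImmersion i.left] [Smooth H.hom] [ConnectedSpace H.left] (n : ℕ)
    (hn : (n : WithBot ℕ∞) ≤ topologicalKrullDim ↥H.left) :
    ∃ (U : G.left.Opens) (P : Over (Spec (CommRingCat.of V))) (a : P ⟶ G), IsAffineOpen U ∧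
      Set.range η[G].left ⊆ (U : Set G.left) ∧ Flat P.hom ∧ LocallyOfFiniteType P.hom ∧
      (∃ l : Red.bc (gen (V := V) K) P ⟶ H, l ≫ i = (Over.pullback (gen (V := V) K)).map a) ∧
      ∃ (X₀ : Over (Spec (CommRingCat.of Ω))) (x₀ : X₀ ⟶ Red.bc (Spec.map (CommRingCat.ofHom π)) P)
        (e₀ : 𝟙_ (Over (Spec (CommRingCat.of Ω))) ⟶ X₀), IsReduced X₀.left ∧ IrreducibleSpace X₀.left ∧
        LocallyOfFiniteType X₀.hom ∧ QuasiCompact X₀.hom ∧
        e₀ ≫ x₀ ≫ (Over.pullback (Spec.map (CommRingCat.ofHom π))).map a =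
          η[Red.bc (Spec.map (CommRingCat.ofHom π)) G] ∧
        IsInducing (x₀ ≫ (Over.pullback (Spec.map (CommRingCat.ofHom π))).map a).left ∧
        (n : WithBot ℕ∞) ≤ topologicalKrullDim ↥X₀.left ∧
        ∃ w : P.left, P.hom w = IsLocalRing.closedPoint V ∧
          (∀ z, P.hom z = IsLocalRing.closedPoint V → z ⤳ w → w ⤳ z) ∧
          w ∈ Set.range (x₀.left ≫ pullback.fst P.hom (Spec.map (CommRingCat.ofHom π))) := by
  let η₀ := gen (V := V) K
  let j := Spec.map (CommRingCat.ofHom π)
  haveI := (gen_props (V := V) K).1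
  haveI := (gen_props (V := V) K).2
  haveI : IsClosedImmersion j := IsClosedImmersion.spec_of_surjective _ hπ
  let cG : (Red.bc η₀ G).left ⟶ G.left := pullback.fst G.hom η₀
  haveI : IsPreimmersion cG := MorphismProperty.pullback_fst _ _ inferInstance
  let ε : Spec (CommRingCat.of V) ⟶ G.left := η[G].left
  have hε : ε ≫ G.hom = 𝟙 _ := Over.w η[G]
  let c₀ : Spec (CommRingCat.of V) := IsLocalRing.closedPoint V
  obtain ⟨U, hU, hec, -⟩ := exists_isAffineOpen_mem_and_subset (U := ⊤) (x := ε c₀) trivial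
  have hεU : Set.range ε ⊆ (U : Set G.left) := by
    rintro _ ⟨y, rfl⟩
    exact (IsLocalRing.specializes_closedPoint y).map ε.continuous |>.mem_open U.2 hec
  -- the subgroup inside `G`
  let iH : H.left ⟶ G.left := i.left ≫ cG
  haveI : IsReduced H.left := ASp.isReduced_of_smooth H.hom
  haveI : LocallyOfFiniteType H.hom := inferInstance
  haveI := GrpSchLib.irreducibleSpace_of_connectedSpace (G := H)
  have hiH : IsEmbedding iH := cG.isEmbedding.comp i.left.isClosedEmbedding.isEmbedding
  have hRclosed : ∀ x : (Red.bc η₀ G).left, cG x ∈ closure (Set.range iH) → x ∈ Set.range i.left := by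
    intro x hx
    have h : Set.range iH = cG '' Set.range i.left := by
      rw [← Set.range_comp]; rfl
    rw [h, ← Set.mem_preimage, ← cG.isEmbedding.isInducing.closure_eq_preimage_closure_image,
      i.left.isClosedEmbedding.isClosed_range.closure_eq] at hx
    exact hx
  have hunit : ∃ y, iH y = ε (η₀ (IsLocalRing.closedPoint K)) := by
    let p : (Red.bc η₀ (𝟙_ (Over (Spec (CommRingCat.of V))))).left :=
      (Functor.Monoidal.εIso (Over.pullback η₀)).hom.left (IsLocalRing.closedPoint K)
    refine ⟨(1 : Red.bc η₀ (𝟙_ (Over (Spec (CommRingCat.of V)))) ⟶ H).left p, ?_⟩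
    have h1 : (Over.pullback η₀).map (η[G]) = (1 : Red.bc η₀ (𝟙_ _) ⟶ H) ≫ i := by
      rw [MonObj.one_comp, ← Functor.map_one (Over.pullback η₀)]
      congr 1
    show cG (i.left _) = _
    rw [← Scheme.Hom.comp_apply i.left, ← Scheme.Hom.comp_apply, ← Category.assoc, ← Over.comp_left, ← h1,
      map_left_fst, Scheme.Hom.comp_apply]
    show ε _ = _
    congr 1
    have hc := congrArg (fun φ => φ p) (pullback.condition (f := (𝟙_ (Over (Spec (CommRingCat.of V)))).hom) (g := η₀))
    exact hc.trans (congrArg η₀ (Subsingleton.elim (α := PrimeSpectrum K) _ _))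
  obtain ⟨y₀, hy₀⟩ := hunit
  have hy₀U : iH y₀ ∈ U := hy₀ ▸ hεU ⟨_, rfl⟩
  let W : H.left.Opens := iH ⁻¹ᵁ U
  haveI : Nonempty (W : Scheme.{u}) := ⟨⟨y₀, hy₀U⟩⟩
  haveI : IrreducibleSpace (W : Scheme.{u}) := W.ι.isOpenEmbedding.irreducibleSpace
  let C : Closeds ↥(U : Scheme.{u}) := ⟨closure (U.ι ⁻¹' Set.range iH), isClosed_closure⟩
  let I := Scheme.IdealSheafData.vanishingIdeal C
  let P : Over (Spec (CommRingCat.of V)) := Over.mk ((I.subschemeι ≫ U.ι) ≫ G.hom)
  let a : P ⟶ G := Over.homMk (I.subschemeι ≫ U.ι) rfl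
  haveI : IsImmersion a.left := inferInstanceAs (IsImmersion (I.subschemeι ≫ U.ι))
  haveI : IsReduced P.left := DVRCrit.isReduced_vanishingIdeal C
  haveI : IsAffine (U : Scheme.{u}) := hU
  haveI : IsAffine P.left := isAffine_of_isAffineHom I.subschemeι
  haveI : LocallyOfFiniteType P.hom := inferInstanceAs (LocallyOfFiniteType ((I.subschemeι ≫ U.ι) ≫ G.hom))
  have hCrange : Set.range I.subschemeι = closure (U.ι ⁻¹' Set.range iH) := by
    rw [I.range_subschemeι, Scheme.IdealSheafData.coe_support_vanishingIdeal]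
    rfl
  have haU : ∀ x : G.left, x ∈ Set.range a.left ↔ ∃ hx : x ∈ U, (⟨x, hx⟩ : ↥U) ∈ closure (U.ι ⁻¹' Set.range iH) := by
    intro x
    constructor
    · rintro ⟨z, rfl⟩
      exact ⟨(I.subschemeι z).2, hCrange ▸ Set.mem_range_self z⟩
    · rintro ⟨hx, h⟩
      obtain ⟨z, hz⟩ := hCrange.symm ▸ h
      exact ⟨z, congrArg U.ι hz⟩
  have haR : ∀ z : P.left, a.left z ∈ closure (Set.range iH) := fun z => by
    obtain ⟨hx, h⟩ := (haU _).1 ⟨z, rfl⟩
    exact map_mem_closure (f := U.ι) U.ι.continuous h fun v hv => hv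
  -- the part of the subgroup in `U`
  haveI : IsReduced (Over.mk ((W.ι ≫ iH) ≫ G.hom)).left := inferInstanceAs (IsReduced (W : Scheme.{u}))
  obtain ⟨hW₀, hhW⟩ := GenSubLib.exists_lift_immersion a
    (Over.homMk (W.ι ≫ iH) rfl : Over.mk ((W.ι ≫ iH) ≫ G.hom) ⟶ G) (by
      rintro _ ⟨w, rfl⟩
      exact (haU _).2 ⟨w.2, subset_closure ⟨w.1, rfl⟩⟩)
  let hW : (W : Scheme.{u}) ⟶ P.left := hW₀.left
  have hhW' : hW ≫ a.left = W.ι ≫ iH := congrArg CommaMorphism.left hhW
  have hWemb : IsEmbedding hW := by
    refine IsEmbedding.of_comp hW.continuous a.left.continuous ?_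
    have h : ⇑a.left ∘ ⇑hW = ⇑iH ∘ ⇑W.ι :=
      _root_.funext fun w => congrArg (fun φ => φ w) hhW'
    rw [h]
    exact hiH.comp W.ι.isOpenEmbedding.isEmbedding
  have hdense : DenseRange hW := by
    intro z
    have hr : Set.range hW = a.left ⁻¹' Set.range iH := by
      ext q
      constructor
      · rintro ⟨w, rfl⟩
        exact ⟨W.ι w, congrArg (fun φ => φ w) hhW'.symm⟩
      · rintro ⟨y, hy⟩
        have hyW : y ∈ W := show iH y ∈ U from hy ▸ (I.subschemeι q).2
        refine ⟨⟨y, hyW⟩, a.left.isEmbedding.injective ?_⟩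
        rw [← hy]
        exact congrArg (fun φ => φ (⟨y, hyW⟩ : W)) hhW'
    rw [hr, a.left.isEmbedding.isInducing.closure_eq_preimage_closure_image, Set.image_preimage_eq_inter_range]
    obtain ⟨hx, h⟩ := (haU _).1 ⟨z, rfl⟩
    exact map_mem_closure (f := U.ι) U.ι.continuous h fun (v : ↥U) hv =>
      ⟨hv, (haU _).2 ⟨v.2, subset_closure hv⟩⟩
  haveI : IrreducibleSpace P.left := by
    rw [irreducibleSpace_def, Set.top_eq_univ, ← hdense.closure_range, ← Set.image_univ]
    exact ((IrreducibleSpace.isIrreducible_univ _).image _ hW.continuous.continuousOn).closure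
  haveI : IsIntegral P.left := isIntegral_of_irreducibleSpace_of_isReduced P.left
  let gη : Spec (CommRingCat.of V) := η₀ (IsLocalRing.closedPoint K)
  have hiHη : ∀ y, G.hom (iH y) = gη := fun y => by
    show G.hom (cG (i.left y)) = _
    rw [← Scheme.Hom.comp_apply, pullback.condition, Scheme.Hom.comp_apply]
    exact congrArg η₀ (Subsingleton.elim (α := PrimeSpectrum K) _ _)
  have hPη : ∀ w, P.hom (hW w) = gη := fun w => by
    rw [← Over.w a, Scheme.Hom.comp_apply, ← Scheme.Hom.comp_apply hW, hhW', Scheme.Hom.comp_apply]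
    exact hiHη _
  -- flatness
  have hflat : Flat P.hom := by
    obtain ⟨φ, hφ⟩ := Spec.map_surjective (P.left.isoSpec.inv ≫ P.hom)
    have hinj : Function.Injective φ.hom := by
      rw [injective_iff_map_eq_zero]
      intro t ht
      let q : Spec Γ(P.left, ⊤) := P.left.isoSpec.hom (hW (Classical.arbitrary _))
      have hq : Spec.map φ q = gη := by
        rw [hφ, ← Scheme.Hom.comp_apply, Iso.hom_inv_id_assoc]
        exact hPη _
      have h0 : t ∈ (Spec.map φ q).asIdeal := show φ.hom t ∈ q.asIdeal from ht ▸ zero_mem _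
      rw [hq, show gη = (⟨⊥, Ideal.isPrime_bot⟩ : PrimeSpectrum V) from gen_apply K _] at h0
      exact Ideal.mem_bot.1 h0
    letI : Algebra V Γ(P.left, ⊤) := φ.hom.toAlgebra
    haveI : Module.Flat V Γ(P.left, ⊤) := by
      rw [Module.Flat.flat_iff_torsion_eq_bot_of_isBezout, eq_bot_iff]
      rintro x ⟨⟨r, hr⟩, hrx⟩
      have h : φ.hom r * x = 0 := hrx
      rcases mul_eq_zero.1 h with h | h
      · exact absurd ((injective_iff_map_eq_zero _).1 hinj r h) (nonZeroDivisors.ne_zero hr)
      · exact h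
    have h1 : Flat (Spec.map φ) := (HasRingHomProperty.Spec_iff (P := @Flat)).mpr (RingHom.flat_algebraMap_iff.2 ‹_›)
    rw [hφ] at h1
    exact (MorphismProperty.cancel_left_of_respectsIso @Flat P.left.isoSpec.inv P.hom).1 h1
  -- the generic fibre lifts to the subgroup
  have hlift : ∃ l : Red.bc η₀ P ⟶ H, l ≫ i = (Over.pullback η₀).map a := by
    haveI : IsPreimmersion (pullback.fst P.hom η₀) := MorphismProperty.pullback_fst _ _ inferInstance
    haveI : Flat (pullback.fst P.hom η₀) := MorphismProperty.pullback_fst _ _ ‹Flat η₀›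
    haveI : IsReduced (Red.bc η₀ P).left := SmoothStrat.isReduced_of_flat_preimmersion (pullback.fst P.hom η₀)
    refine GenSubLib.exists_lift_of_range i _ ?_
    rintro _ ⟨x, rfl⟩
    refine hRclosed _ ?_
    show cG (((Over.pullback η₀).map a).left x) ∈ _
    rw [← Scheme.Hom.comp_apply, map_left_fst, Scheme.Hom.comp_apply]
    exact haR _
  -- the section
  haveI : IsReduced (𝟙_ (Over (Spec (CommRingCat.of V)))).left :=
    inferInstanceAs (IsReduced (Spec (CommRingCat.of V)))
  obtain ⟨εP, hεP⟩ := GenSubLib.exists_lift_immersion (T := 𝟙_ (Over (Spec (CommRingCat.of V)))) a η[G] (by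
    haveI : IsReduced (Spec (CommRingCat.of V)) := inferInstance
    rintro _ ⟨y, rfl⟩
    have hgen : (⟨ε gη, hεU ⟨_, rfl⟩⟩ : ↥U) ∈ closure (U.ι ⁻¹' Set.range iH) := subset_closure ⟨y₀, hy₀⟩
    refine (haU _).2 ⟨hεU ⟨y, rfl⟩, ?_⟩
    refine Specializes.mem_closed ?_ isClosed_closure hgen
    exact U.ι.isOpenEmbedding.isInducing.specializes_iff.1 ((gen_specializes K _ y).map ε.continuous))
  let xc : P.left := εP.left c₀
  have hxc : P.hom xc = c₀ := by rw [← Scheme.Hom.comp_apply, Over.w εP]; rfl
  -- dimension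
  obtain ⟨w, hwf, hwn⟩ := OpenDim.exists_le_trd_of_le_dim P.hom Set.univ isClosed_univ Set.univ isOpen_univ gη
    (P.hom ⁻¹' {gη}) (by simp) (e := n) (by
      refine le_trans hn ?_
      rw [← DimFormulaLib.topologicalKrullDim_opens H.hom W ⟨y₀, hy₀U⟩]
      let g : ↥(W : Scheme.{u}) → ↥(P.hom ⁻¹' {gη}) := fun w => ⟨hW w, hPη w⟩
      have hg : IsInducing g := hWemb.isInducing.codRestrict fun w => hPη w
      exact hg.topologicalKrullDim_le)
  let ζ := genericPoint P.left
  have hζη : P.hom ζ = gη := by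
    have h1 : P.hom ζ ⤳ P.hom w := (genericPoint_specializes w).map P.hom.continuous
    rw [show P.hom w = gη from hwf] at h1
    exact (h1.antisymm (gen_specializes K _ _)).eq
  have hζn : n ≤ OpenDim.trd P.hom ζ := hwn.trans (OpenDim.trd_le P.hom (genericPoint_specializes w) (hζη.trans hwf.symm))
  obtain ⟨w', -, hw'x, hw'f, hw'n⟩ := OpenDim.exists_trd_ge P.hom (genericPoint_specializes xc : ζ ⤳ xc)
  let cP : (Red.bc j P).left ⟶ P.left := pullback.fst P.hom j
  haveI : IsClosedImmersion cP := MorphismProperty.pullback_fst _ _ inferInstance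
  have hjc : j (IsLocalRing.closedPoint Ω) = c₀ := by
    haveI : IsLocalHom π := Function.Surjective.isLocalHom π hπ
    exact IsLocalRing.comap_closedPoint π
  obtain ⟨v₁, hv₁⟩ : w' ∈ Set.range cP := by
    show w' ∈ Set.range (pullback.fst P.hom j)
    rw [Scheme.Pullback.range_fst]
    exact ⟨_, hjc.trans (hw'f.trans hxc).symm⟩
  let v := (isIrreducible_irreducibleComponent (x := v₁)).genericPoint
  have hvc : closure {v} = irreducibleComponent v₁ :=
    (isIrreducible_irreducibleComponent.isGenericPoint_genericPoint_closure).trans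
      isClosed_irreducibleComponent.closure_eq
  have hv₁v : v ⤳ v₁ := specializes_iff_mem_closure.2 (hvc ▸ mem_irreducibleComponent)
  have hwmax : ∀ z, P.hom z = c₀ → z ⤳ cP v → cP v ⤳ z := by
    intro z hz hzv
    obtain ⟨z', rfl⟩ : z ∈ Set.range cP := by
      show z ∈ Set.range (pullback.fst P.hom j)
      rw [Scheme.Pullback.range_fst]
      exact ⟨_, hjc.trans hz.symm⟩
    have h1 : z' ⤳ v := cP.isEmbedding.isInducing.specializes_iff.1 hzv
    have h2 : irreducibleComponent v₁ ⊆ closure {z'} := hvc ▸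
      closure_minimal (Set.singleton_subset_iff.2 (specializes_iff_mem_closure.1 h1)) isClosed_closure
    have h3 : closure {z'} = irreducibleComponent v₁ :=
      eq_irreducibleComponent isIrreducible_singleton.closure.isPreirreducible h2
    exact (specializes_iff_mem_closure.2 (hvc.trans h3.symm ▸ subset_closure rfl)).map cP.continuous
  have hwc : P.hom (cP v) = c₀ := by
    obtain ⟨p, hp⟩ : P.hom (cP v) ∈ Set.range j :=
      ⟨pullback.snd P.hom j v, (congrArg (fun φ => φ v) (pullback.condition (f := P.hom) (g := j))).symm⟩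
    rw [← hp, ← hjc]
    exact congrArg j (Subsingleton.elim (α := PrimeSpectrum Ω) _ _)
  let D : Closeds (Red.bc j P).left := ⟨closure {v}, isClosed_closure⟩
  let J := Scheme.IdealSheafData.vanishingIdeal D
  let X₀ : Over (Spec (CommRingCat.of Ω)) := Over.mk (J.subschemeι ≫ (Red.bc j P).hom)
  let x₀ : X₀ ⟶ Red.bc j P := Over.homMk J.subschemeι rfl
  haveI : IsClosedImmersion x₀.left := inferInstanceAs (IsClosedImmersion J.subschemeι)
  haveI : LocallyOfFiniteType (Red.bc j P).hom := MorphismProperty.pullback_snd _ _ ‹LocallyOfFiniteType P.hom›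
  haveI : QuasiCompact (Red.bc j P).hom := MorphismProperty.pullback_snd _ _ (inferInstance : QuasiCompact P.hom)
  haveI : IsReduced X₀.left := DVRCrit.isReduced_vanishingIdeal D
  have hDr : Set.range x₀.left = closure {v} := by
    show Set.range J.subschemeι = _
    rw [J.range_subschemeι, Scheme.IdealSheafData.coe_support_vanishingIdeal]
    rfl
  have hirr : IrreducibleSpace X₀.left := by
    refine x₀.left.isEmbedding.toHomeomorph.irreducibleSpace_iff.mpr (isIrreducible_iff_irreducibleSpace.mp ?_)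
    rw [hDr]
    exact isIrreducible_singleton.closure
  haveI : LocallyOfFiniteType X₀.hom := inferInstanceAs (LocallyOfFiniteType (J.subschemeι ≫ (Red.bc j P).hom))
  haveI : QuasiCompact X₀.hom := inferInstanceAs (QuasiCompact (J.subschemeι ≫ (Red.bc j P).hom))
  haveI : IsReduced (𝟙_ (Over (Spec (CommRingCat.of Ω)))).left := inferInstanceAs (IsReduced (Spec (CommRingCat.of Ω)))
  let eP : 𝟙_ (Over (Spec (CommRingCat.of Ω))) ⟶ Red.bc j P :=
    (Functor.Monoidal.εIso (Over.pullback j)).hom ≫ (Over.pullback j).map εP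
  have himg : closure {w'} ⊆ cP '' closure {v} := by
    rw [← cP.isClosedEmbedding.closure_image_eq, Set.image_singleton]
    exact closure_minimal (Set.singleton_subset_iff.2 (hv₁ ▸ specializes_iff_mem_closure.1 (hv₁v.map cP.continuous)))
      isClosed_closure
  obtain ⟨e₀, he₀⟩ := GenSubLib.exists_lift_of_range x₀ eP (by
    rintro _ ⟨p, rfl⟩
    rw [hDr]
    have hmem : cP (eP.left p) ∈ closure {w'} := by
      rw [show cP (eP.left p) = xc from ?_]
      · exact specializes_iff_mem_closure.1 hw'x
      · show cP (((Functor.Monoidal.εIso (Over.pullback j)).hom.left ≫ ((Over.pullback j).map εP).left) p) = _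
        rw [Scheme.Hom.comp_apply, ← Scheme.Hom.comp_apply ((Over.pullback j).map εP).left, map_left_fst,
          Scheme.Hom.comp_apply]
        show εP.left _ = εP.left c₀
        congr 1
        have hc := congrArg (fun φ => φ ((Functor.Monoidal.εIso (Over.pullback j)).hom.left p))
          (pullback.condition (f := (𝟙_ (Over (Spec (CommRingCat.of V)))).hom) (g := j))
        exact hc.trans ((congrArg j (Subsingleton.elim (α := PrimeSpectrum Ω) _ _)).trans hjc)
    obtain ⟨q, hq, hq'⟩ := himg hmem
    exact cP.isEmbedding.injective hq' ▸ hq)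
  refine ⟨U, P, a, hU, hεU, hflat, inferInstance, hlift, X₀, x₀, e₀, inferInstance, hirr, inferInstance, inferInstance, ?_, ?_, ?_,
    cP v, hwc, hwmax, ?_⟩
  · rw [← Category.assoc, he₀]
    simp only [eP, Category.assoc]
    rw [← Functor.map_comp, hεP]
    rfl
  · refine IsInducing.of_comp (Scheme.Hom.continuous _) (pullback.fst G.hom j).continuous ?_
    have h : (x₀ ≫ (Over.pullback j).map a).left ≫ pullback.fst G.hom j = x₀.left ≫ cP ≫ a.left := by
      rw [Over.comp_left, Category.assoc, map_left_fst]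
    have h2 := (a.left.isEmbedding.comp (cP.isEmbedding.comp x₀.left.isEmbedding)).isInducing
    convert h2 using 1
    funext p
    exact congrArg (fun φ => φ p) h
  · refine le_trans (le_trans (WithBot.coe_le_coe.2 (Nat.cast_le.2 (hζn.trans hw'n)))
      (OpenDim.trd_le_dim_inter P.hom (closure {w'}) isClosed_closure Set.univ isOpen_univ c₀ (closure {w'}) ?_
        (subset_closure rfl))) ?_
    · rw [Set.inter_univ, eq_comm, Set.inter_eq_left]
      refine closure_minimal (Set.singleton_subset_iff.2 (hw'f.trans hxc)) ?_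
      exact (IsLocalRing.isClosed_singleton_closedPoint V).preimage P.hom.continuous
    · have hr : closure {w'} ⊆ Set.range (x₀.left ≫ cP) := by
        refine himg.trans ?_
        rw [← hDr, ← Set.range_comp]
        rfl
      let h := (x₀.left ≫ cP).isEmbedding.toHomeomorph.symm
      exact (h.isInducing.comp (IsEmbedding.inclusion hr).isInducing).topologicalKrullDim_le
  · obtain ⟨q, hq⟩ : v ∈ Set.range x₀.left := hDr ▸ subset_closure rfl
    exact ⟨q, by rw [Scheme.Hom.comp_apply, hq]⟩

end Groth.Agent.AffSpecLib
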