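import Groth.Agent.DimFormulaLib.Field

/-!
# Scalars in stalks and function fields
-/

set_option autoImplicit false
set_option backward.isDefEq.respectTransparency false
set_option backward.isDefEq.respectTransparency.types false
set_option linter.style.haveILetI false
set_option linter.unusedSectionVars false

universe u

open CategoryTheory CategoryTheory.Limits AlgebraicGeometry

noncomputable section

namespace Groth.Agent.AffSpecLib

variable {A : Type u} [CommRing A]

/-- Scalars in the stalk of a scheme over `Spec A`. -/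
def cst {X : Scheme.{u}} (s : X ⟶ Spec (CommRingCat.of A)) (x : X) : A →+* X.presheaf.stalk x :=
  (X.presheaf.germ ⊤ x trivial).hom.comp (s.appTop.hom.comp (Scheme.ΓSpecIso (CommRingCat.of A)).inv.hom)

theorem cst_map {B : Type u} [CommRing B] {X Y : Scheme.{u}} (f : X ⟶ Y) (sX : X ⟶ Spec (CommRingCat.of B))
    (sY : Y ⟶ Spec (CommRingCat.of A)) (φ : A →+* B) (h : f ≫ sY = sX ≫ Spec.map (CommRingCat.ofHom φ)) (x : X) (a : A) :
    f.stalkMap x (cst sY (f x) a) = cst sX x (φ a) := by
  show f.stalkMap x (Y.presheaf.germ ⊤ (f x) trivial (sY.appTop ((Scheme.ΓSpecIso (CommRingCat.of A)).inv a))) =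
    X.presheaf.germ ⊤ x trivial (sX.appTop ((Scheme.ΓSpecIso (CommRingCat.of B)).inv (φ a)))
  rw [Scheme.Hom.germ_stalkMap_apply]
  congr 1
  show f.appTop (sY.appTop _) = _
  rw [← CommRingCat.comp_apply, ← Scheme.Hom.comp_appTop, h, Scheme.Hom.comp_appTop, CommRingCat.comp_apply]
  congr 1
  exact (ConcreteCategory.congr_hom (Scheme.ΓSpecIso_inv_naturality (CommRingCat.ofHom φ)) a).symm

theorem cst_spec {X : Scheme.{u}} (s : X ⟶ Spec (CommRingCat.of A)) {x y : X} (h : x ⤳ y) (a : A) :
    X.presheaf.stalkSpecializes h (cst s y a) = cst s x a :=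
  TopCat.Presheaf.germ_stalkSpecializes_apply X.presheaf (U := ⊤) (by trivial) h _

theorem trdeg_functionField {k : Type u} [Field k] {X : Scheme.{u}} [IsIntegral X] (f : X ⟶ Spec (CommRingCat.of k))
    [LocallyOfFiniteType f] {n : ℕ} (hdim : topologicalKrullDim X = (n : WithBot ℕ∞)) :
    letI := (cst f (genericPoint X)).toAlgebra
    Algebra.trdeg k X.functionField = (n : Cardinal.{u}) := by
  letI := (cst f (genericPoint X)).toAlgebra
  letI : X.Over (Spec (CommRingCat.of k)) := ⟨f⟩
  obtain ⟨a, t, -, ht, -, -⟩ := DimFormulaLib.field_dims f (genericPoint X)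
  have e : n = t := by
    have h1 := DimFormulaLib.topologicalKrullDim_eq_trdeg f t ht
    rw [hdim] at h1
    exact_mod_cast h1
  rw [show DimFormulaLib.resTrdegAt f (genericPoint X) = DimFormulaLib.resTrdegAt (X ↘ Spec (CommRingCat.of k)) (genericPoint X) from rfl,
    DimFormulaLib.resTrdegAt_over k X (genericPoint X), ← e] at ht
  letI := Curv2.resAlgebra k X (genericPoint X)
  letI : Algebra X.functionField (X.residueField (genericPoint X)) := (X.residue (genericPoint X)).hom.toAlgebra
  haveI : IsScalarTower k X.functionField (X.residueField (genericPoint X)) := .of_algebraMap_eq fun _ => rfl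
  have hb : Function.Bijective (IsScalarTower.toAlgHom k X.functionField (X.residueField (genericPoint X))) :=
    ⟨(IsScalarTower.toAlgHom k X.functionField (X.residueField (genericPoint X))).toRingHom.injective,
      IsLocalRing.residue_surjective⟩
  rw [← ht]
  exact (AlgEquiv.ofBijective _ hb).trdeg_eq

end Groth.Agent.AffSpecLib
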