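import Groth.Agent.SubgSpecLib.Geom
import Groth.Agent.CMFlatLib.Affine
import Groth.Agent.CMFlatLib.Locus
import Groth.Agent.S0429
import Groth.Agent.GenSubLib.AlgClosed
import Groth.Agent.FlatDim.BaseChange

/-!
# Sections through a dense set of points of the special fibre
-/

set_option autoImplicit false
set_option backward.isDefEq.respectTransparency false
set_option backward.isDefEq.respectTransparency.types false
set_option linter.style.haveILetI false
set_option linter.unusedSectionVars false

universe u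

open CategoryTheory CategoryTheory.Limits AlgebraicGeometry
open IsLocalRing

noncomputable section

namespace Groth.Agent.AffSpecLib

open SubgSpecLib

variable {V : Type u} [CommRing V] [IsDomain V] [ValuationRing V]
variable (K : Type u) [Field K] [Algebra V K] [IsFractionRing V K] [IsAlgClosed K]

/-- A point of the generic fibre extends to a section through any of its specializations over the closed point. -/
theorem exists_section {Z : Scheme.{u}} (r : Z ⟶ Spec (CommRingCat.of V)) (p : Spec (CommRingCat.of K) ⟶ Z)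
    (hp : p ≫ r = gen (V := V) K) (z₀ : Z) (hz : p (closedPoint K) ⤳ z₀) (hr : r z₀ = closedPoint V) :
    ∃ s : Spec (CommRingCat.of V) ⟶ Z, s ≫ r = 𝟙 _ ∧ s (closedPoint V) = z₀ := by
  let χ : Z.presheaf.stalk z₀ ⟶ CommRingCat.of K :=
    Z.presheaf.stalkSpecializes hz ≫ Scheme.stalkClosedPointTo p
  have hχ : Spec.map χ ≫ Z.fromSpecStalk z₀ = p := by
    rw [Spec.map_comp, Category.assoc, Scheme.SpecMap_stalkSpecializes_fromSpecStalk,
      Scheme.Spec_stalkClosedPointTo_fromSpecStalk]
  obtain ⟨ψ, hψ⟩ := Spec.map_surjective (Z.fromSpecStalk z₀ ≫ r)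
  have hψK : ψ ≫ χ = CommRingCat.ofHom (algebraMap V K) := by
    apply Spec.map_injective
    rw [Spec.map_comp, hψ, ← Category.assoc, hχ, hp]
  have hψl : ∀ v ∈ maximalIdeal V, ψ.hom v ∈ maximalIdeal (Z.presheaf.stalk z₀) := by
    intro v hv
    have h : Spec.map ψ (closedPoint (Z.presheaf.stalk z₀)) = closedPoint V := by
      rw [hψ, Scheme.Hom.comp_apply, Scheme.fromSpecStalk_closedPoint, hr]
    have h' := congrArg PrimeSpectrum.asIdeal h
    exact (h'.ge : maximalIdeal V ≤ (maximalIdeal (Z.presheaf.stalk z₀)).comap ψ.hom) hv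
  have hint : ∀ a, ∃ v : V, algebraMap V K v = χ.hom a := by
    intro a
    rcases ValuationRing.isInteger_or_isInteger V (χ.hom a) with h | ⟨v, hv⟩
    · exact h
    · rcases eq_or_ne (χ.hom a) 0 with h0 | h0
      · exact ⟨0, by rw [h0, map_zero]⟩
      by_cases hu : IsUnit v
      · obtain ⟨u, rfl⟩ := hu
        refine ⟨(u⁻¹ : Vˣ), ?_⟩
        rw [map_units_inv]
        rw [hv, inv_inv]
      · exfalso
        have hm : ψ.hom v * a - 1 ∈ RingHom.ker χ.hom := by
          rw [RingHom.mem_ker, map_sub, map_mul, map_one]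
          have h1 : χ.hom (ψ.hom v) = algebraMap V K v := DFunLike.congr_fun (CommRingCat.hom_ext_iff.1 hψK) v
          rw [h1, hv, inv_mul_cancel₀ h0, sub_self]
        have hk : RingHom.ker χ.hom ≤ maximalIdeal (Z.presheaf.stalk z₀) := le_maximalIdeal (RingHom.ker_ne_top _)
        have h2 := sub_mem (Ideal.mul_mem_right a _ (hψl v ((mem_maximalIdeal v).2 hu))) (hk hm)
        rw [sub_sub_cancel] at h2
        exact (Ideal.ne_top_iff_one _).1 (maximalIdeal.isMaximal _).ne_top h2
  choose θ hθ using hint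
  have hinj := IsFractionRing.injective V K
  let θ' : Z.presheaf.stalk z₀ ⟶ CommRingCat.of V := CommRingCat.ofHom
    { toFun := θ
      map_one' := hinj (by rw [hθ, map_one, map_one])
      map_mul' := fun a b => hinj (by rw [hθ, map_mul, map_mul, hθ, hθ])
      map_zero' := hinj (by rw [hθ, map_zero, map_zero])
      map_add' := fun a b => hinj (by rw [hθ, map_add, map_add, hθ, hθ]) }
  haveI : IsLocalHom θ'.hom := ⟨fun a ha => by
    by_contra hna
    obtain ⟨v, hv⟩ := ha
    have hk : RingHom.ker χ.hom ≤ maximalIdeal (Z.presheaf.stalk z₀) := le_maximalIdeal (RingHom.ker_ne_top _)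
    have hm : ψ.hom ((v⁻¹ : Vˣ) : V) * a - 1 ∈ RingHom.ker χ.hom := by
      rw [RingHom.mem_ker, map_sub, map_mul, map_one]
      have h1 : χ.hom (ψ.hom ((v⁻¹ : Vˣ) : V)) = algebraMap V K ((v⁻¹ : Vˣ) : V) :=
        DFunLike.congr_fun (CommRingCat.hom_ext_iff.1 hψK) _
      rw [h1, ← hθ a, show θ a = (v : V) from hv.symm, ← map_mul, Units.inv_mul, map_one, sub_self]
    have h2 := sub_mem (Ideal.mul_mem_left _ (ψ.hom ((v⁻¹ : Vˣ) : V)) ((mem_maximalIdeal a).2 hna)) (hk hm)
    rw [sub_sub_cancel] at h2
    exact (Ideal.ne_top_iff_one _).1 (maximalIdeal.isMaximal _).ne_top h2⟩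
  refine ⟨Spec.map θ' ≫ Z.fromSpecStalk z₀, ?_, ?_⟩
  · rw [Category.assoc, ← hψ, ← Spec.map_comp, ← Spec.map_id]
    congr 1
    ext v
    refine hinj ((hθ _).trans ?_)
    exact DFunLike.congr_fun (CommRingCat.hom_ext_iff.1 hψK) v
  · rw [Scheme.Hom.comp_apply,
      show Spec.map θ' (closedPoint V) = closedPoint (Z.presheaf.stalk z₀) from comap_closedPoint θ'.hom,
      Scheme.fromSpecStalk_closedPoint]

variable {k : Type u} [Field k] [IsAlgClosed k] (π : V →+* k) (hπ : Function.Surjective π)

include K hπ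

set_option maxHeartbeats 800000 in
/-- Near a point maximal in the special fibre, closed points lift to sections. -/
theorem exists_lifts (P : Over (Spec (CommRingCat.of V))) [Flat P.hom] [LocallyOfFiniteType P.hom] (w : P.left)
    (hw : P.hom w = closedPoint V) (hmax : ∀ z, P.hom z = closedPoint V → z ⤳ w → w ⤳ z) :
    ∃ U : P.left.Opens, w ∈ U ∧ ∀ x : (Red.bc (Spec.map (CommRingCat.ofHom π)) P).left,
      IsClosed ({x} : Set (Red.bc (Spec.map (CommRingCat.ofHom π)) P).left) →
      pullback.fst P.hom (Spec.map (CommRingCat.ofHom π)) x ∈ U →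
        ∃ s : Spec (CommRingCat.of V) ⟶ P.left, s ≫ P.hom = 𝟙 _ ∧
          s (closedPoint V) = pullback.fst P.hom (Spec.map (CommRingCat.ofHom π)) x := by
  haveI : IsIntegral (Spec (CommRingCat.of V)) := inferInstance
  haveI : LocallyOfFinitePresentation P.hom := S0429.result P.hom
  obtain ⟨n, hn⟩ := CMFlatLib.exists_nat_fibreDimAt P.hom w
  obtain ⟨U, g, hwU, hg, hgf, hgq⟩ := CMFlatLib.exists_flat_quasiFinite P.hom w n
    (FlatDim.isCMAt_of_maximal P.hom w fun z hz hzw => hmax z (hz.trans hw) hzw) hn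
  haveI := hgf
  haveI := hgq
  haveI : LocallyOfFiniteType g := by
    haveI : LocallyOfFiniteType (g ≫ (𝔸(ULift.{u} (Fin n); Spec (CommRingCat.of V)) ↘ Spec (CommRingCat.of V))) := by
      rw [hg]
      infer_instance
    exact locallyOfFiniteType_of_comp g (𝔸(ULift.{u} (Fin n); Spec (CommRingCat.of V)) ↘ Spec (CommRingCat.of V))
  refine ⟨U, hwU, fun x hx hxU => ?_⟩
  let j := Spec.map (CommRingCat.ofHom π)
  haveI : LocallyOfFiniteType (Red.bc j P).hom := MorphismProperty.pullback_snd _ _ ‹LocallyOfFiniteType P.hom›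
  obtain ⟨t, ht⟩ := GenSubLib.exists_pt hx
  let q : Spec (CommRingCat.of k) ⟶ P.left := t.left ≫ pullback.fst P.hom j
  have hq : q (closedPoint k) = pullback.fst P.hom j x := by
    show (pullback.fst P.hom j) (t.left GenSubLib.base₀) = _
    rw [ht]
  have hqU : Set.range q ⊆ Set.range U.ι := by
    rintro _ ⟨p, rfl⟩
    rw [Scheme.Opens.range_ι, Subsingleton.elim (α := PrimeSpectrum k) p (closedPoint k), hq]
    exact hxU
  let q' := IsOpenImmersion.lift U.ι q hqU
  have hqP : q ≫ P.hom = j := by
    show (t.left ≫ pullback.fst P.hom j) ≫ P.hom = j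
    rw [Category.assoc, pullback.condition, ← Category.assoc]
    erw [Over.w t]
    exact Category.id_comp j
  let v : ULift.{u} (Fin n) → V := fun i =>
    (hπ ((Scheme.ΓSpecIso (CommRingCat.of k)).hom ((q' ≫ g).appTop (AffineSpace.coord _ i)))).choose
  let σ : Spec (CommRingCat.of V) ⟶ 𝔸(ULift.{u} (Fin n); Spec (CommRingCat.of V)) :=
    AffineSpace.homOfVector (𝟙 _) fun i => (Scheme.ΓSpecIso (CommRingCat.of V)).inv (v i)
  have hσ : j ≫ σ = q' ≫ g := by
    refine AffineSpace.hom_ext ?_ fun i => ?_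
    · rw [Category.assoc, Category.assoc, hg, AffineSpace.homOfVector_over, Category.comp_id,
        ← Category.assoc, IsOpenImmersion.lift_fac, hqP]
    · rw [Scheme.Hom.comp_appTop, CommRingCat.comp_apply, AffineSpace.homOfVector_appTop_coord]
      apply (ConcreteCategory.bijective_of_isIso (Scheme.ΓSpecIso (CommRingCat.of k)).hom).1
      have h1 := (hπ ((Scheme.ΓSpecIso (CommRingCat.of k)).hom ((q' ≫ g).appTop (AffineSpace.coord _ i)))).choose_spec
      refine Eq.trans ?_ h1
      show (Scheme.ΓSpecIso (CommRingCat.of k)).hom (j.appTop ((Scheme.ΓSpecIso (CommRingCat.of V)).inv (v i))) = π (v i)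
      rw [show j.appTop ((Scheme.ΓSpecIso (CommRingCat.of V)).inv (v i)) =
        (Scheme.ΓSpecIso (CommRingCat.of k)).inv (π (v i)) from
        (ConcreteCategory.congr_hom (Scheme.ΓSpecIso_inv_naturality (CommRingCat.ofHom π)) (v i)).symm]
      exact (Scheme.ΓSpecIso (CommRingCat.of k)).inv_hom_id_apply _
  let r : pullback g σ ⟶ Spec (CommRingCat.of V) := pullback.snd g σ
  haveI : Flat r := MorphismProperty.pullback_snd _ _ hgf
  haveI : LocallyQuasiFinite r := MorphismProperty.pullback_snd _ _ hgq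
  let z₀ := pullback.lift q' j hσ.symm (closedPoint k)
  have hj : j (closedPoint k) = closedPoint V := by
    haveI : IsLocalHom π := Function.Surjective.isLocalHom π hπ
    exact comap_closedPoint π
  have hz₀ : r z₀ = closedPoint V := by
    rw [← Scheme.Hom.comp_apply, pullback.lift_snd]
    exact hj
  obtain ⟨z, hz, hzg⟩ := Flat.generalizingMap r
    (show gen (V := V) K (closedPoint K) ⤳ r z₀ from gen_specializes K _ _)
  obtain ⟨zK, hzK⟩ : z ∈ Set.range (pullback.fst r (gen (V := V) K)) := by
    rw [Scheme.Pullback.range_fst]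
    exact ⟨closedPoint K, hzg.symm⟩
  let r' := pullback.snd r (gen (V := V) K)
  haveI : LocallyQuasiFinite r' := MorphismProperty.pullback_snd _ _ ‹LocallyQuasiFinite r›
  haveI : LocallyOfFiniteType r := MorphismProperty.pullback_snd _ _ ‹LocallyOfFiniteType g›
  haveI : LocallyOfFiniteType r' := MorphismProperty.pullback_snd _ _ ‹LocallyOfFiniteType r›
  have hcl : IsClosed ({zK} : Set ↥(pullback r (gen (V := V) K))) := by
    haveI : JacobsonSpace ↥(pullback r (gen (V := V) K)) := LocallyOfFiniteType.jacobsonSpace r'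
    have hd := r'.isDiscrete_preimage_singleton (closedPoint K)
    rw [show r' ⁻¹' {closedPoint K} = Set.univ from
      Set.eq_univ_of_forall fun y => Subsingleton.elim (α := PrimeSpectrum K) _ _] at hd
    haveI : DiscreteTopology ↥(pullback r (gen (V := V) K)) := isDiscrete_univ_iff.1 hd
    exact isClosed_discrete _
  haveI : LocallyOfFiniteType (Over.mk r').hom := ‹LocallyOfFiniteType r'›
  obtain ⟨tK, htK⟩ := GenSubLib.exists_pt (P := Over.mk r') hcl
  obtain ⟨s, hs, hs₀⟩ := exists_section K r (tK.left ≫ pullback.fst r (gen (V := V) K)) (by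
    rw [Category.assoc, pullback.condition, ← Category.assoc]
    erw [Over.w tK]
    exact Category.id_comp _) z₀ (by
    rw [Scheme.Hom.comp_apply]
    erw [htK]
    exact hzK ▸ hz) hz₀
  refine ⟨s ≫ pullback.fst g σ ≫ U.ι, ?_, ?_⟩
  · rw [Category.assoc, Category.assoc, ← hg, ← Category.assoc (pullback.fst g σ), pullback.condition, Category.assoc,
      AffineSpace.homOfVector_over, Category.comp_id]
    exact hs
  · rw [Scheme.Hom.comp_apply, hs₀, ← hq, ← Scheme.Hom.comp_apply (pullback.lift q' j hσ.symm), pullback.lift_fst_assoc,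
      IsOpenImmersion.lift_fac]

end Groth.Agent.AffSpecLib
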