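import Mathlib
import Groth.Prelude.Def_Red
import Groth.Agent.SubgSpecLib.Main

/-!
# Functions on an affine group have finite dimensional spans of translates
-/

set_option autoImplicit false
set_option backward.isDefEq.respectTransparency false
set_option backward.isDefEq.respectTransparency.types false
set_option linter.style.haveILetI false
set_option linter.unusedSectionVars false

universe u

open CategoryTheory CategoryTheory.Limits MonoidalCategory CartesianMonoidalCategory MonObj AlgebraicGeometry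

noncomputable section

namespace Groth.Agent.AffSpecLib

theorem exists_sum_of_isPushout {R A B P : CommRingCat.{u}} {f : R ⟶ A} {g : R ⟶ B} {g' : A ⟶ P} {f' : B ⟶ P}
    (h : IsPushout f g g' f') (x : P) : ∃ (m : ℕ) (a : Fin m → A) (b : Fin m → B), x = ∑ i, g' (a i) * f' (b i) := by
  letI := f.hom.toAlgebra
  letI := g.hom.toAlgebra
  have h0 := CommRingCat.isPushout_tensorProduct R A B
  let e := h0.isoIsPushout _ _ h
  obtain ⟨t, rfl⟩ := (ConcreteCategory.bijective_of_isIso e.hom).2 x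
  induction t using TensorProduct.induction_on with
  | zero => exact ⟨0, Fin.elim0, Fin.elim0, by simp⟩
  | tmul a b =>
    refine ⟨1, fun _ => a, fun _ => b, ?_⟩
    have ha : e.hom (a ⊗ₜ[R] (1 : B)) = g' a :=
      DFunLike.congr_fun (CommRingCat.hom_ext_iff.1 (h0.inl_isoIsPushout_hom _ _ h)) a
    have hb : e.hom ((1 : A) ⊗ₜ[R] b) = f' b :=
      DFunLike.congr_fun (CommRingCat.hom_ext_iff.1 (h0.inr_isoIsPushout_hom _ _ h)) b
    rw [Fin.sum_univ_one, ← ha, ← hb, ← map_mul, Algebra.TensorProduct.tmul_mul_tmul, _root_.one_mul, _root_.mul_one]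
  | add s t hs ht =>
    obtain ⟨m, a, b, hs⟩ := hs
    obtain ⟨m', a', b', ht⟩ := ht
    exact ⟨m + m', Fin.append a a', Fin.append b b', by rw [map_add, hs, ht, Fin.sum_univ_add]; simp⟩

/-- Left translation. -/
def trL {S : Scheme.{u}} (G : Over S) [GrpObj G] (h : 𝟙_ (Over S) ⟶ G) : G ⟶ G :=
  lift (toUnit G ≫ h) (𝟙 G) ≫ μ[G]

theorem trL_eq {S : Scheme.{u}} (G : Over S) [GrpObj G] (h : 𝟙_ (Over S) ⟶ G) : trL G h = (toUnit G ≫ h) * 𝟙 G :=
  rfl

theorem comp_trL {S : Scheme.{u}} {G : Over S} [GrpObj G] (h : 𝟙_ (Over S) ⟶ G) {T : Over S} (x : T ⟶ G) :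
    x ≫ trL G h = (toUnit T ≫ h) * x := by
  rw [trL_eq, MonObj.comp_mul, Category.comp_id, ← Category.assoc, toUnit_unique (x ≫ toUnit G) (toUnit T)]

theorem trL_comp {S : Scheme.{u}} (G : Over S) [GrpObj G] (h h' : 𝟙_ (Over S) ⟶ G) :
    trL G h ≫ trL G h' = trL G (h' * h) := by
  rw [comp_trL, trL_eq G h, trL_eq G (h' * h), MonObj.comp_mul, _root_.mul_assoc]

theorem trL_one {S : Scheme.{u}} (G : Over S) [GrpObj G] : trL G 1 = 𝟙 G := by
  rw [trL_eq, MonObj.comp_one, _root_.one_mul]

/-- Left translation as an automorphism. -/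
def trIso {S : Scheme.{u}} (G : Over S) [GrpObj G] (h : 𝟙_ (Over S) ⟶ G) : G ≅ G where
  hom := trL G h
  inv := trL G h⁻¹
  hom_inv_id := by rw [trL_comp, inv_mul_cancel, trL_one]
  inv_hom_id := by rw [trL_comp, mul_inv_cancel, trL_one]

/-- The translates of a function on an affine group lie in the span of finitely many functions. -/
theorem exists_translates {K : Type u} [Field K] (H : Over (Spec (CommRingCat.of K))) [GrpObj H] [IsAffine H.left]
    (f : Γ(H.left, ⊤)) :
    ∃ (m : ℕ) (b : Fin m → Γ(H.left, ⊤)), ∀ h : 𝟙_ (Over (Spec (CommRingCat.of K))) ⟶ H, ∃ c : Fin m → K,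
      (trL H h).left.appTop f = ∑ i, H.hom.appTop ((Scheme.ΓSpecIso (CommRingCat.of K)).inv (c i)) * b i := by
  haveI : IsAffine (H ⊗ H).left := inferInstanceAs (IsAffine (pullback H.hom H.hom))
  obtain ⟨m, a, b, hab⟩ := exists_sum_of_isPushout
    (isPushout_appTop_of_isPullback (IsPullback.of_hasPullback H.hom H.hom)) (μ[H].left.appTop f)
  refine ⟨m, b, fun h => ⟨fun i => (Scheme.ΓSpecIso (CommRingCat.of K)).hom (h.left.appTop (a i)), ?_⟩⟩
  have h1 : (trL H h).left.appTop f = (lift (toUnit H ≫ h) (𝟙 H)).left.appTop (μ[H].left.appTop f) := by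
    rw [trL, Over.comp_left, Scheme.Hom.comp_appTop]
    rfl
  rw [h1, hab, map_sum]
  refine Finset.sum_congr rfl fun i => fun _ => ?_
  rw [map_mul]
  congr 1
  · have h2 : (lift (toUnit H ≫ h) (𝟙 H)).left ≫ pullback.fst H.hom H.hom = H.hom ≫ h.left :=
      congrArg CommaMorphism.left (lift_fst (toUnit H ≫ h) (𝟙 H))
    have h3 := congrArg (fun φ => φ.appTop (a i)) h2
    simp only [Scheme.Hom.comp_appTop] at h3
    refine Eq.trans h3 ?_
    show H.hom.appTop (h.left.appTop (a i)) = _
    congr 1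
    exact ((Scheme.ΓSpecIso (CommRingCat.of K)).hom_inv_id_apply _).symm
  · have h2 : (lift (toUnit H ≫ h) (𝟙 H)).left ≫ pullback.snd H.hom H.hom = 𝟙 H.left :=
      congrArg CommaMorphism.left (lift_snd (toUnit H ≫ h) (𝟙 H))
    have h3 := congrArg (fun φ => φ.appTop (b i)) h2
    simp only [Scheme.Hom.comp_appTop, Scheme.Hom.id_appTop] at h3
    exact h3

end Groth.Agent.AffSpecLib
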