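import Groth.Agent.AffSpecLib.Trans
import Groth.Agent.AffSpecLib.Func

/-!
# Maps of stalks at specializing points and translations of function fields
-/

set_option autoImplicit false
set_option backward.isDefEq.respectTransparency false
set_option backward.isDefEq.respectTransparency.types false
set_option linter.style.haveILetI false
set_option linter.unusedSectionVars false

universe u

open CategoryTheory CategoryTheory.Limits MonoidalCategory CartesianMonoidalCategory MonObj AlgebraicGeometry

attribute [-instance] CategoryTheory.CommGrpObj.toIsCommMonObj CategoryTheory.CommGrpObj.toGrpObj CategoryTheory.Hom.commGroup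

noncomputable section

namespace Groth.Agent.AffSpecLib

/-- The map of stalks at a specialization of an image. -/
def stMap {X Y : Scheme.{u}} (f : X ⟶ Y) (x : X) (y : Y) (h : f x ⤳ y) : Y.presheaf.stalk y ⟶ X.presheaf.stalk x :=
  Y.presheaf.stalkSpecializes h ≫ f.stalkMap x

theorem stMap_comp {X Y Z : Scheme.{u}} (f : X ⟶ Y) (g : Y ⟶ Z) (x : X) (y : Y) (z : Z) (h : f x ⤳ y) (h' : g y ⤳ z) :
    stMap g y z h' ≫ stMap f x y h =
      stMap (f ≫ g) x z (by rw [Scheme.Hom.comp_apply]; exact (h.map g.continuous).trans h') := by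
  simp only [stMap, Category.assoc, Scheme.Hom.stalkMap_comp]
  rw [← Category.assoc (g.stalkMap y), ← Scheme.Hom.stalkSpecializes_stalkMap g (f x) y h]
  simp only [← Category.assoc]
  congr 2
  exact TopCat.Presheaf.stalkSpecializes_comp ..

theorem stMap_congr {X Y : Scheme.{u}} {f g : X ⟶ Y} (e : f = g) (x : X) (y : Y) (h : f x ⤳ y) :
    stMap f x y h = stMap g x y (e ▸ h) := by
  subst e
  rfl

theorem stMap_id {X : Scheme.{u}} (x : X) (h : (𝟙 X : X ⟶ X) x ⤳ x) : stMap (𝟙 X) x x h = 𝟙 _ := by
  rw [stMap, Scheme.Hom.stalkMap_id]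
  simp [TopCat.Presheaf.stalkSpecializes_refl]

theorem stMap_cst {A B : Type u} [CommRing A] [CommRing B] {X Y : Scheme.{u}} (f : X ⟶ Y) (sX : X ⟶ Spec (CommRingCat.of B))
    (sY : Y ⟶ Spec (CommRingCat.of A)) (φ : A →+* B) (hf : f ≫ sY = sX ≫ Spec.map (CommRingCat.ofHom φ)) (x : X) (y : Y)
    (h : f x ⤳ y) (a : A) : stMap f x y h (cst sY y a) = cst sX x (φ a) := by
  rw [stMap, CommRingCat.comp_apply, cst_spec, cst_map f sX sY φ hf]

/-- The automorphism of a stalk at a fixed point. -/
def stAut {X : Scheme.{u}} (φ : X ≅ X) (x : X) (hx : φ.hom x = x) : X.presheaf.stalk x ≃+* X.presheaf.stalk x :=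
  have hx' : φ.inv x = x := by
    conv_lhs => rw [← hx]
    rw [← Scheme.Hom.comp_apply, Iso.hom_inv_id]
    rfl
  CategoryTheory.Iso.commRingCatIsoToRingEquiv
    { hom := stMap φ.hom x x (specializes_of_eq hx)
      inv := stMap φ.inv x x (specializes_of_eq hx')
      hom_inv_id := by rw [stMap_comp, stMap_congr φ.inv_hom_id, stMap_id]
      inv_hom_id := by rw [stMap_comp, stMap_congr φ.hom_inv_id, stMap_id] }

theorem stAut_apply {X : Scheme.{u}} (φ : X ≅ X) (x : X) (hx : φ.hom x = x) (a : X.presheaf.stalk x) :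
    stAut φ x hx a = stMap φ.hom x x (specializes_of_eq hx) a := rfl

theorem genericPoint_iso {X : Scheme.{u}} [IrreducibleSpace X] (φ : X ≅ X) : φ.hom (genericPoint X) = genericPoint X :=
  genericPoint_eq_of_isOpenImmersion φ.hom

variable {S : Scheme.{u}}

/-- Left translation on the underlying scheme. -/
def trS (G : Over S) [GrpObj G] (h : 𝟙_ (Over S) ⟶ G) : G.left ≅ G.left := (Over.forget S).mapIso (trIso G h)

theorem trS_hom (G : Over S) [GrpObj G] (h : 𝟙_ (Over S) ⟶ G) : (trS G h).hom = (trL G h).left := rfl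

theorem trL_hom_comp {H G : Over S} [GrpObj H] [GrpObj G] (i : H ⟶ G) [IsMonHom i] (h : 𝟙_ (Over S) ⟶ H) :
    trL H h ≫ i = i ≫ trL G (h ≫ i) := by
  rw [trL_eq H, comp_trL, MonObj.mul_comp, Category.id_comp, Category.assoc]

theorem trL_bm {S' : Scheme.{u}} (w : S' ⟶ S) {G : Over S} [GrpObj G] (h : 𝟙_ (Over S) ⟶ G) :
    trL (Red.bc w G) ((Functor.Monoidal.εIso (Over.pullback w)).hom ≫ (Over.pullback w).map h) =
      (Over.pullback w).map (trL G h) := by
  have e : (Over.pullback w).map (toUnit G) = toUnit (Red.bc w G) ≫ (Functor.Monoidal.εIso (Over.pullback w)).hom := by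
    apply (cancel_mono (Functor.Monoidal.εIso (Over.pullback w)).inv).1
    exact toUnit_unique _ _
  rw [trL_eq, trL_eq, Functor.map_mul, Functor.map_comp, e, Category.assoc, CategoryTheory.Functor.map_id]

end Groth.Agent.AffSpecLib
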