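import Groth.Agent.AffSpecLib.Res
import Groth.Agent.AffSpecLib.Special2
import Groth.Agent.AffSpecLib.Stalk

/-!
# The model of a specialized subgroup: residues of translation finite functions
-/

set_option autoImplicit false
set_option backward.isDefEq.respectTransparency false
set_option backward.isDefEq.respectTransparency.types false
set_option linter.style.haveILetI false
set_option linter.unusedSectionVars false

universe u

open CategoryTheory CategoryTheory.Limits MonoidalCategory CartesianMonoidalCategory MonObj AlgebraicGeometry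
open Topology IsLocalRing

attribute [-instance] CategoryTheory.CommGrpObj.toIsCommMonObj CategoryTheory.CommGrpObj.toGrpObj CategoryTheory.Hom.commGroup

noncomputable section

namespace Groth.Agent.AffSpecLib

open SubgSpecLib

section Trans

variable {k : Type u} [Field k] (Γ : Over (Spec (CommRingCat.of k))) [GrpObj Γ] [IrreducibleSpace Γ.left]

/-- Translation of rational functions. -/
def ffTr (c : 𝟙_ (Over (Spec (CommRingCat.of k))) ⟶ Γ) : Γ.left.functionField ≃+* Γ.left.functionField :=
  stAut (trS Γ c) (genericPoint Γ.left) (genericPoint_iso _)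

/-- The scalars in the function field. -/
abbrev ffAlg [IsIntegral Γ.left] : Algebra k Γ.left.functionField := (cst Γ.hom (genericPoint Γ.left)).toAlgebra

/-- Functions with finite dimensional span of translates by a set of points, and if asked unipotent. -/
def transSet [IsIntegral Γ.left] (S : Set (𝟙_ (Over (Spec (CommRingCat.of k))) ⟶ Γ)) (nil : Prop) :
    Set Γ.left.functionField :=
  letI := ffAlg Γ
  {q | (∃ Q : Submodule k Γ.left.functionField, Module.Finite k Q ∧ q ∈ Q ∧ ∀ c ∈ S, ∀ x ∈ Q, ffTr Γ c x ∈ Q) ∧
    (nil → ∃ N, ∀ c ∈ S, (fun x => ffTr Γ c x - x)^[N] q = 0)}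

theorem ffTr_germ [IsIntegral Γ.left] (c : 𝟙_ (Over (Spec (CommRingCat.of k))) ⟶ Γ) (f : Γ(Γ.left, ⊤)) :
    ffTr Γ c (Γ.left.presheaf.germ ⊤ (genericPoint Γ.left) trivial f) =
      Γ.left.presheaf.germ ⊤ (genericPoint Γ.left) trivial ((trL Γ c).left.appTop f) := by
  rw [ffTr, stAut_apply, stMap, CommRingCat.comp_apply,
    TopCat.Presheaf.germ_stalkSpecializes_apply Γ.left.presheaf (U := ⊤) (by trivial),
    Scheme.Hom.germ_stalkMap_apply]
  rfl

theorem ffTr_cst [IsIntegral Γ.left] (c : 𝟙_ (Over (Spec (CommRingCat.of k))) ⟶ Γ) (a : k) :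
    ffTr Γ c (cst Γ.hom (genericPoint Γ.left) a) = cst Γ.hom (genericPoint Γ.left) a := by
  rw [ffTr, stAut_apply, stMap_cst _ Γ.hom Γ.hom (RingHom.id k)]
  · rfl
  · rw [trS_hom, Over.w (trL Γ c), CommRingCat.ofHom_id, Spec.map_id, Category.comp_id]

end Trans

variable {V : Type u} [CommRing V] [IsDomain V] [ValuationRing V]
variable (K : Type u) [Field K] [Algebra V K] [IsFractionRing V K] [IsAlgClosed K]
variable {G : Over (Spec (CommRingCat.of V))} [GrpObj G]
variable {k : Type u} [Field k] [IsAlgClosed k] (π : V →+* k) (hπ : Function.Surjective π)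

include hπ

set_option maxHeartbeats 3200000 in
/-- The function field of the companion is algebraic over functions with finite spans of translates. -/
theorem isAlgebraic_trans (H : Over (Spec (CommRingCat.of K))) [GrpObj H] (i : H ⟶ Red.bc (gen (V := V) K) G)
    [IsMonHom i] [IsClosedImmersion i.left] [Smooth H.hom] [IsAffine H.left] [IsIntegral H.left]
    (Γ : Over (Spec (CommRingCat.of k))) [GrpObj Γ] (iΓ : Γ ⟶ Red.bc (Spec.map (CommRingCat.ofHom π)) G) [IsMonHom iΓ]
    [IsClosedImmersion iΓ.left] [LocallyOfFiniteType Γ.hom] [IsIntegral Γ.left] (n : ℕ)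
    (hn : topologicalKrullDim ↥H.left = (n : WithBot ℕ∞)) (hdim : (n : WithBot ℕ∞) ≤ topologicalKrullDim ↥Γ.left)
    (hD : Dense {p : ↥Γ.left | ∃ h : 𝟙_ (Over (Spec (CommRingCat.of V))) ⟶ G,
        (∃ hK, hK ≫ i = ptBC (gen (V := V) K) G h) ∧
        ∃ hk, hk ≫ iΓ = ptBC (Spec.map (CommRingCat.ofHom π)) G h ∧ hk.left GenSubLib.base₀ = p})
    (nil : Prop) (hnil : nil → ∀ f : Γ(H.left, ⊤), ∃ r, ∀ c : 𝟙_ (Over (Spec (CommRingCat.of K))) ⟶ H,
      (fun x => (trL H c).left.appTop x - x)^[r] f = 0) :
    ∀ t : Γ.left.functionField, IsAlgebraic (Subring.closure (transSet Γ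
      {c | ∃ h : 𝟙_ (Over (Spec (CommRingCat.of V))) ⟶ G, (∃ hK, hK ≫ i = ptBC (gen (V := V) K) G h) ∧
        c ≫ iΓ = ptBC (Spec.map (CommRingCat.ofHom π)) G h} nil)) t := by
  classical
  let η₀ := gen (V := V) K
  let j := Spec.map (CommRingCat.ofHom π)
  haveI := (gen_props (V := V) K).1
  haveI : IsClosedImmersion j := IsClosedImmersion.spec_of_surjective _ hπ
  let cK : (Red.bc η₀ G).left ⟶ G.left := pullback.fst G.hom η₀
  let ck : (Red.bc j G).left ⟶ G.left := pullback.fst G.hom j
  haveI : IsPreimmersion cK := MorphismProperty.pullback_fst _ _ inferInstance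
  haveI : IsClosedImmersion ck := MorphismProperty.pullback_fst _ _ inferInstance
  let iH : H.left ⟶ G.left := i.left ≫ cK
  let iS : Γ.left ⟶ G.left := iΓ.left ≫ ck
  have hiH : iH ≫ G.hom = H.hom ≫ η₀ := by
    show (i.left ≫ pullback.fst G.hom η₀) ≫ G.hom = _
    rw [Category.assoc, pullback.condition, ← Category.assoc, ← Over.w i]
    rfl
  have hiS : iS ≫ G.hom = Γ.hom ≫ j := by
    show (iΓ.left ≫ pullback.fst G.hom j) ≫ G.hom = _
    rw [Category.assoc, pullback.condition, ← Category.assoc, ← Over.w iΓ]
    rfl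
  let ξ := genericPoint H.left
  let gG := genericPoint Γ.left
  let y : G.left := iS gG
  -- specialization
  have hy : iH ξ ⤳ y := by
    have h1 : {p : ↥Γ.left | ∃ h : 𝟙_ (Over (Spec (CommRingCat.of V))) ⟶ G,
        (∃ hK, hK ≫ i = ptBC η₀ G h) ∧ ∃ hk, hk ≫ iΓ = ptBC j G h ∧ hk.left GenSubLib.base₀ = p} ⊆
        iS ⁻¹' closure {iH ξ} := by
      rintro _ ⟨h, ⟨hK, hhK⟩, hk, hhk, rfl⟩
      have eK : hK.left ≫ iH = η₀ ≫ h.left := by
        rw [← ptBC_left_fst, ← hhK, Over.comp_left, Category.assoc]
      have ek : hk.left ≫ iS = j ≫ h.left := by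
        rw [← ptBC_left_fst, ← hhk, Over.comp_left, Category.assoc]
      show iS (hk.left GenSubLib.base₀) ∈ closure {iH ξ}
      have e1 : iS (hk.left GenSubLib.base₀) = h.left (j (closedPoint k)) := congrArg (fun φ => φ GenSubLib.base₀) ek
      have e2 : iH (hK.left GenSubLib.base₀) = h.left (η₀ (closedPoint K)) := congrArg (fun φ => φ GenSubLib.base₀) eK
      rw [e1]
      refine Specializes.mem_closed ((gen_specializes K (closedPoint K) (j (closedPoint k))).map h.left.continuous) isClosed_closure ?_
      rw [← e2]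
      exact specializes_iff_mem_closure.1 ((genericPoint_specializes _).map iH.continuous)
    exact specializes_iff_mem_closure.2 (closure_minimal h1 (isClosed_closure.preimage iS.continuous) (hD gG))
  letI algL : Algebra K H.left.functionField := (cst H.hom ξ).toAlgebra
  letI algF : Algebra k Γ.left.functionField := ffAlg Γ
  let iR : G.left.presheaf.stalk y →+* H.left.functionField := (stMap iH ξ y hy).hom
  let red : G.left.presheaf.stalk y →+* Γ.left.functionField := (iS.stalkMap gG).hom
  have hredsurj : Function.Surjective red := iS.stalkMap_surjective gG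
  let e₀ : ResidueField (G.left.presheaf.stalk y) →+* Γ.left.functionField := ResidueField.lift red
  have he₀ : ∀ r, e₀ (residue _ r) = red r := fun r => rfl
  let e := RingEquiv.ofBijective e₀ ⟨e₀.injective, fun z => by
    obtain ⟨r, rfl⟩ := hredsurj z
    exact ⟨residue _ r, he₀ r⟩⟩
  have he : ∀ r, e (residue _ r) = red r := he₀
  -- parameters
  haveI : LocallyOfFiniteType H.hom := inferInstance
  obtain ⟨-, m, -, hm, -, -⟩ := DimFormulaLib.field_dims Γ.hom gG
  have hΓm := DimFormulaLib.topologicalKrullDim_eq_trdeg Γ.hom m hm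
  have hnm : n ≤ m := by rw [hΓm] at hdim; exact_mod_cast hdim
  have htrF := trdeg_functionField Γ.hom hΓm
  obtain ⟨s, hs⟩ := exists_isTranscendenceBasis k Γ.left.functionField
  have hcard : (n : Cardinal.{u}) ≤ Cardinal.mk s := by
    rw [hs.cardinalMk_eq_trdeg, htrF]
    exact_mod_cast hnm
  obtain ⟨emb⟩ : Nonempty (ULift.{u} (Fin n) ↪ s) := by
    rw [← Cardinal.le_def]
    simpa using hcard
  let tF : Fin n → Γ.left.functionField := fun l => (emb ⟨l⟩ : Γ.left.functionField)
  have htF : AlgebraicIndependent k tF :=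
    hs.1.comp (fun l => emb ⟨l⟩) (fun a b hab => congrArg ULift.down (emb.injective hab))
  choose T hT using fun l => hredsurj (tF l)
  have htrL := trdeg_functionField H.hom hn
  let M : Model V K k H.left.functionField n :=
    { R := G.left.presheaf.stalk y
      «ι» := iR
      ψ := cst G.hom y
      π := π
      toF := e.symm.toRingHom.comp (cst Γ.hom gG)
      π_surj := hπ
      ι_ψ := fun v => stMap_cst iH H.hom G.hom (algebraMap V K) hiH ξ y hy v
      res_ψ := fun v => by
        apply e.injective
        rw [he]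
        refine Eq.trans ?_ (e.apply_symm_apply _).symm
        exact cst_map iS Γ.hom G.hom π hiS gG v
      T := T
      indep := fun p hp => by
        refine htF.eq_zero_of_aeval_eq_zero p ?_
        have h := congrArg e.toRingHom hp
        rw [MvPolynomial.eval₂_comp_left, map_zero] at h
        rw [MvPolynomial.aeval_def]
        refine Eq.trans (congrArg (fun q => q) ?_) h
        congr 1
        · exact RingHom.ext fun c => (e.apply_symm_apply _).symm
        · exact _root_.funext fun l => ((he (T l)).trans (hT l)).symm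
      dep := fun g => by
        let x : Fin (n + 1) → H.left.functionField := Fin.cons g fun l => iR (T l)
        have hdep : ¬ AlgebraicIndependent K x := fun h => by
          have h1 := h.lift_cardinalMk_le_trdeg
          rw [htrL] at h1
          simp at h1
        rw [algebraicIndependent_iff] at hdep
        push_neg at hdep
        obtain ⟨P, hP, hP0⟩ := hdep
        refine ⟨MvPolynomial.finSuccEquiv K n P, by simpa using hP0, ?_⟩
        have h2 : ((Polynomial.eval₂RingHom (MvPolynomial.eval₂Hom (algebraMap K H.left.functionField) fun l => iR (T l)) g).comp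
            (MvPolynomial.finSuccEquiv K n).toAlgHom.toRingHom) = (MvPolynomial.aeval x).toRingHom := by
          refine MvPolynomial.ringHom_ext (fun c => ?_) (fun l => ?_)
          · simp [MvPolynomial.finSuccEquiv_apply]
          · induction l using Fin.cases with
            | zero => simp [MvPolynomial.finSuccEquiv_apply, x]
            | succ l => simp [MvPolynomial.finSuccEquiv_apply, x]
        exact (DFunLike.congr_fun h2 P).trans hP }
  haveI : Nonempty M.Dom := by
    obtain ⟨A, hA, hloc⟩ := IsLocalRing.exists_factor_valuationRing iR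
    refine ⟨⟨A, fun r => (A.valuation_le_one_iff _).2 (hA r), fun r hr => ?_⟩⟩
    haveI := hloc
    refine (A.valuation_lt_one_iff (⟨iR r, hA r⟩ : A)).1 ?_
    exact (mem_maximalIdeal _).2 fun hu => (mem_maximalIdeal r).1 hr (IsUnit.of_map (iR.codRestrict A.toSubring hA) r hu)
  -- translations
  let J := {p : (𝟙_ (Over (Spec (CommRingCat.of V))) ⟶ G) × (𝟙_ (Over (Spec (CommRingCat.of K))) ⟶ H) ×
    (𝟙_ (Over (Spec (CommRingCat.of k))) ⟶ Γ) // p.2.1 ≫ i = ptBC η₀ G p.1 ∧ p.2.2 ≫ iΓ = ptBC j G p.1}
  have hcompK : ∀ p : J, (trL H p.1.2.1).left ≫ iH = iH ≫ (trL G p.1.1).left := fun p => by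
    show _ ≫ i.left ≫ cK = (i.left ≫ cK) ≫ _
    rw [← Category.assoc, ← Over.comp_left, trL_hom_comp, p.2.1,
      show ptBC η₀ G p.1.1 = (Functor.Monoidal.εIso (Over.pullback η₀)).hom ≫ (Over.pullback η₀).map p.1.1 from rfl,
      trL_bm, Over.comp_left, Category.assoc, map_left_fst, Category.assoc]
  have hcompk : ∀ p : J, (trL Γ p.1.2.2).left ≫ iS = iS ≫ (trL G p.1.1).left := fun p => by
    show _ ≫ iΓ.left ≫ ck = (iΓ.left ≫ ck) ≫ _
    rw [← Category.assoc, ← Over.comp_left, trL_hom_comp, p.2.2,
      show ptBC j G p.1.1 = (Functor.Monoidal.εIso (Over.pullback j)).hom ≫ (Over.pullback j).map p.1.1 from rfl,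
      trL_bm, Over.comp_left, Category.assoc, map_left_fst, Category.assoc]
  have hyfix : ∀ p : J, (trS G p.1.1).hom y = y := fun p => by
    show (trL G p.1.1).left (iS gG) = _
    rw [← Scheme.Hom.comp_apply, ← hcompk, Scheme.Hom.comp_apply]
    exact congrArg iS (genericPoint_iso (trS Γ p.1.2.2))
  let d : J → M.Aut := fun p =>
    { σ := ffTr H p.1.2.1
      τ := stAut (trS G p.1.1) y (hyfix p)
      fix := fun c => ffTr_cst H p.1.2.1 c
      comm := fun r => by
        show stMap (trL H p.1.2.1).left ξ ξ _ (stMap iH ξ y hy r) = stMap iH ξ y hy (stMap (trL G p.1.1).left y y _ r)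
        rw [← CommRingCat.comp_apply, ← CommRingCat.comp_apply, stMap_comp, stMap_comp, stMap_congr (hcompK p)]
      τ_ψ := fun v => by
        show stMap (trL G p.1.1).left y y _ (cst G.hom y v) = _
        rw [stMap_cst _ G.hom G.hom (RingHom.id V) (by
          rw [Over.w (trL G p.1.1), CommRingCat.ofHom_id, Spec.map_id, Category.comp_id])]
        rfl }
  have heτ : ∀ (p : J) (q : ResidueField (G.left.presheaf.stalk y)), e ((d p).τF q) = ffTr Γ p.1.2.2 (e q) := by
    intro p q
    obtain ⟨r, rfl⟩ := residue_surjective q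
    rw [show (d p).τF (residue _ r) = residue _ ((d p).τ r) from rfl, he, he]
    have hS : iS gG ⤳ y := specializes_of_eq rfl
    have hred : ∀ z, red z = stMap iS gG y hS z := fun z => by
      simp [red, stMap, TopCat.Presheaf.stalkSpecializes_refl]
      rfl
    show red (stMap (trL G p.1.1).left y y _ r) = stMap (trL Γ p.1.2.2).left gG gG _ (red r)
    rw [hred, hred, ← CommRingCat.comp_apply, ← CommRingCat.comp_apply, stMap_comp, stMap_comp, stMap_congr (hcompk p)]
  letI algR : Algebra k (ResidueField (G.left.presheaf.stalk y)) := M.algF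
  have hgood : ∀ q ∈ M.goodSet d nil, e q ∈ transSet Γ
      {c | ∃ h : 𝟙_ (Over (Spec (CommRingCat.of V))) ⟶ G, (∃ hK, hK ≫ i = ptBC η₀ G h) ∧ c ≫ iΓ = ptBC j G h} nil := by
    rintro q ⟨⟨Q, hQ, hqQ, hQs⟩, hqn⟩
    let el : ResidueField (G.left.presheaf.stalk y) →ₗ[k] Γ.left.functionField :=
      { toFun := e
        map_add' := map_add e
        map_smul' := fun c x => by
          rw [Algebra.smul_def, Algebra.smul_def, map_mul]
          congr 1
          exact e.apply_symm_apply _ }
    refine ⟨⟨Q.map el, ?_, ⟨q, hqQ, rfl⟩, ?_⟩, fun hn => ?_⟩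
    · haveI := hQ
      exact Module.Finite.map Q el
    · rintro c ⟨h, ⟨hK, hhK⟩, hc⟩ _ ⟨x, hx, rfl⟩
      exact ⟨(d ⟨⟨h, hK, c⟩, hhK, hc⟩).τF x, hQs _ x hx, heτ _ x⟩
    · obtain ⟨N, hN⟩ := hqn hn
      refine ⟨N, fun c ⟨h, ⟨hK, hhK⟩, hc⟩ => ?_⟩
      let p : J := ⟨⟨h, hK, c⟩, hhK, hc⟩
      have key : ∀ (N : ℕ) (z : ResidueField (G.left.presheaf.stalk y)),
          e ((fun x => (d p).τF x - x)^[N] z) = (fun x => ffTr Γ c x - x)^[N] (e z) := by
        intro N
        induction N with
        | zero => exact fun _ => rfl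
        | succ N ih =>
          intro z
          rw [Function.iterate_succ_apply, Function.iterate_succ_apply, ih, map_sub, heτ]
      rw [← key, hN p, map_zero]
  -- global functions
  let gm : Γ(H.left, ⊤) →+* H.left.functionField := (H.left.presheaf.germ ⊤ ξ trivial).hom
  have hσgm : ∀ c f, ffTr H c (gm f) = gm ((trL H c).left.appTop f) := fun c f => ffTr_germ H c f
  haveI : Nonempty (⊤ : H.left.Opens) := ⟨⟨ξ, trivial⟩⟩
  haveI hfr : IsFractionRing Γ(H.left, ⊤) H.left.functionField :=
    functionField_isFractionRing_of_isAffineOpen H.left ⊤ (isAffineOpen_top H.left)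
  intro t
  have halg : IsAlgebraic (Subring.closure (M.goodSet d nil)) (e.symm t) := by
    refine M.isAlgebraic_good d nil gm.range (fun g => ?_) ?_ (e.symm t)
    · obtain ⟨a, b, hb, hab⟩ := IsFractionRing.div_surjective (A := Γ(H.left, ⊤)) g
      refine ⟨gm a, ⟨a, rfl⟩, gm b, ⟨b, rfl⟩, ?_, hab.symm⟩
      exact IsFractionRing.to_map_ne_zero_of_mem_nonZeroDivisors hb
    · rintro _ ⟨f, rfl⟩
      obtain ⟨m', b, hb⟩ := exists_translates H f
      let gens : Set H.left.functionField :=
        Set.range fun c : 𝟙_ (Over (Spec (CommRingCat.of K))) ⟶ H => gm ((trL H c).left.appTop f)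
      have hsub : Submodule.span K gens ≤ Submodule.span K (Set.range fun l => gm (b l)) := by
        rw [Submodule.span_le]
        rintro _ ⟨c, rfl⟩
        obtain ⟨a, ha⟩ := hb c
        show gm _ ∈ Submodule.span K _
        rw [ha, map_sum]
        refine Submodule.sum_mem _ fun l _ => ?_
        rw [map_mul, show gm (H.hom.appTop ((Scheme.ΓSpecIso (CommRingCat.of K)).inv (a l))) =
          algebraMap K H.left.functionField (a l) from rfl, ← Algebra.smul_def]
        exact Submodule.smul_mem _ _ (Submodule.subset_span ⟨l, rfl⟩)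
      haveI : Module.Finite K (Submodule.span K (Set.range fun l => gm (b l))) :=
        Module.Finite.span_of_finite K (Set.finite_range _)
      have hfin : Module.Finite K (Submodule.span K gens) :=
        Module.Finite.of_injective (Submodule.inclusion hsub) (Submodule.inclusion_injective hsub)
      refine ⟨Submodule.span K gens, hfin,
        Submodule.subset_span ⟨1, show gm ((trL H 1).left.appTop f) = gm f by rw [trL_one, Over.id_left, Scheme.Hom.id_appTop]; rfl⟩, ?_, ?_⟩
      · intro p x hx
        induction hx using Submodule.span_induction with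
        | mem x hx =>
          obtain ⟨c, rfl⟩ := hx
          refine Submodule.subset_span ⟨c * p.1.2.1, ?_⟩
          show gm ((trL H (c * p.1.2.1)).left.appTop f) = ffTr H p.1.2.1 (gm ((trL H c).left.appTop f))
          rw [hσgm, ← trL_comp, Over.comp_left, Scheme.Hom.comp_appTop]
          rfl
        | zero => simp
        | add x y _ _ hx hy => rw [map_add]; exact Submodule.add_mem _ hx hy
        | smul c x _ hx =>
          rw [Algebra.smul_def, map_mul, (d p).fix, ← Algebra.smul_def]
          exact Submodule.smul_mem _ _ hx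
      · intro hn
        obtain ⟨s', hs'⟩ := Submodule.fg_span_iff_fg_span_finset_subset (R := K) gens |>.1 (Module.Finite.iff_fg.1 hfin)
        have hr : ∀ x ∈ gens, ∃ r, ∀ p : J, (fun z => (d p).σ z - z)^[r] x = 0 := by
          rintro _ ⟨c, rfl⟩
          obtain ⟨r, hr⟩ := hnil hn ((trL H c).left.appTop f)
          refine ⟨r, fun p => ?_⟩
          have key : ∀ (N : ℕ) (z : Γ(H.left, ⊤)), (fun w => (d p).σ w - w)^[N] (gm z) =
              gm ((fun w => (trL H p.1.2.1).left.appTop w - w)^[N] z) := by
            intro N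
            induction N with
            | zero => exact fun _ => rfl
            | succ N ih =>
              intro z
              rw [Function.iterate_succ_apply, Function.iterate_succ_apply, ← ih, map_sub]
              exact congrArg _ (congrArg (· - gm z) (hσgm _ z))
          rw [key, hr, map_zero]
        choose! r hr using hr
        refine ⟨s'.sup r, fun p x hx => ?_⟩
        have hlin : ∀ (N : ℕ), ∃ φ : H.left.functionField →ₗ[K] H.left.functionField,
            ∀ z, φ z = (fun w => (d p).σ w - w)^[N] z := by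
          let φ₁ : H.left.functionField →ₗ[K] H.left.functionField :=
            { toFun := fun w => (d p).σ w - w
              map_add' := fun a b => by rw [map_add]; ring
              map_smul' := fun c a => by
                rw [Algebra.smul_def, map_mul, (d p).fix, RingHom.id_apply, Algebra.smul_def]
                ring }
          intro N
          exact ⟨φ₁ ^ N, fun z => Module.End.pow_apply φ₁ N z⟩
        obtain ⟨φ, hφ⟩ := hlin (s'.sup r)
        rw [← hφ]
        have hx' : x ∈ Submodule.span K (s' : Set H.left.functionField) := hs'.2 ▸ hx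
        refine LinearMap.mem_ker.1 ((Submodule.span_le.2 ?_) hx' : x ∈ LinearMap.ker φ)
        intro z hz
        show φ z = 0
        rw [hφ, ← Nat.sub_add_cancel (Finset.le_sup (f := r) hz), Function.iterate_add_apply, hr z (hs'.1 hz) p]
        exact Function.iterate_fixed (by simp) _
  -- transport
  obtain ⟨P, hP, hP0⟩ := halg
  let res : Subring.closure (M.goodSet d nil) →+* Subring.closure (transSet Γ
      {c | ∃ h : 𝟙_ (Over (Spec (CommRingCat.of V))) ⟶ G, (∃ hK, hK ≫ i = ptBC η₀ G h) ∧ c ≫ iΓ = ptBC j G h} nil) :=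
    (e.toRingHom.comp (Subring.closure (M.goodSet d nil)).subtype).codRestrict _ fun x =>
      (Subring.closure_le (t := (Subring.closure (transSet Γ _ nil)).comap e.toRingHom)).2
        (fun q hq => Subring.subset_closure (hgood q hq)) x.2
  refine ⟨P.map res, (Polynomial.map_ne_zero_iff fun a b hab =>
    Subtype.ext (e.injective (congrArg Subtype.val hab))).2 hP, ?_⟩
  have h := congrArg e.toRingHom hP0
  rw [Polynomial.aeval_def, Polynomial.hom_eval₂, map_zero] at h
  rw [Polynomial.aeval_def, Polynomial.eval₂_map]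
  rw [show e.toRingHom (e.symm t) = t from e.apply_symm_apply t] at h
  exact h

end Groth.Agent.AffSpecLib
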