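import Groth.Agent.AffSpecLib.Scale
import Groth.Agent.AffSpecLib.Charpoly

/-!
# Residues of translation finite functions generate the residue field up to algebraic extensions
-/

set_option autoImplicit false
set_option linter.style.haveILetI false
set_option linter.unusedSectionVars false

universe u

open IsLocalRing

noncomputable section

namespace Groth.Agent.AffSpecLib

variable {V K k : Type u} [CommRing V] [IsDomain V] [ValuationRing V] [Field K] [Algebra V K] [IsFractionRing V K]
  [IsAlgClosed K] [Field k] {L : Type u} [Field L] [Algebra K L] {n : ℕ} (D : Model V K k L n)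

instance Model.algF : Algebra k (ResidueField D.R) := D.toF.toAlgebra

/-- The product of the residue fields at the dominating valuation rings. -/
abbrev Model.Res : Type u := ∀ W : D.Dom, ResidueField W.1

/-- Functions integral at every dominating valuation ring. -/
def Model.int : Subring L := ⨅ W : D.Dom, W.1.toSubring

theorem Model.mem_int {f : L} : f ∈ D.int ↔ ∀ W : D.Dom, W.1.valuation f ≤ 1 := by
  simp [Model.int, Subring.mem_iInf, ValuationSubring.valuation_le_one_iff]

/-- Residues of integral functions. -/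
def Model.Φ : D.int →+* D.Res :=
  Pi.ringHom fun W => (residue W.1).comp (Subring.inclusion (iInf_le (fun W : D.Dom => W.1.toSubring) W))

/-- The local ring maps into every dominating valuation ring. -/
def Model.toW (W : D.Dom) : D.R →+* W.1 :=
  D.ι.codRestrict W.1.toSubring fun r => (W.1.valuation_le_one_iff _).1 (W.2.1 r)

instance Model.toW_local (W : D.Dom) : IsLocalHom (D.toW W) := by
  refine ⟨fun r hr => ?_⟩
  by_contra h
  have h1 : W.1.valuation (D.ι r) < 1 := W.2.2 r ((mem_maximalIdeal r).2 h)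
  exact h1.ne ((W.1.valuation_eq_one_iff _).1 hr)

/-- Residues of the local ring. -/
def Model.φ : ResidueField D.R →+* D.Res := Pi.ringHom fun W => ResidueField.map (D.toW W)

instance Model.algRes : Algebra (ResidueField D.R) D.Res := D.φ.toAlgebra

instance Model.algkRes : Algebra k D.Res := (D.φ.comp D.toF).toAlgebra

instance Model.tower : IsScalarTower k (ResidueField D.R) D.Res := IsScalarTower.of_algebraMap_eq fun _ => rfl

/-- The local ring into integral functions. -/
def Model.ιI : D.R →+* D.int := D.ι.codRestrict D.int fun r => D.mem_int.2 fun W => W.2.1 r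

theorem Model.Φ_ιI (r : D.R) : D.Φ (D.ιI r) = algebraMap _ D.Res (residue D.R r) := rfl

/-- Scalars into integral functions. -/
def Model.scal : V →+* D.int := D.ιI.comp D.ψ

theorem Model.coe_scal (v : V) : (D.scal v : L) = algebraMap K L (algebraMap V K v) := D.ι_ψ v

theorem Model.Φ_scal (v : V) : D.Φ (D.scal v) = algebraMap k D.Res (D.π v) :=
  congrArg (algebraMap _ D.Res) (D.res_ψ v)

/-- Residues of integral functions are integral over the residue field. -/
theorem Model.isIntegral_Φ (f : D.int) : IsIntegral (ResidueField D.R) (D.Φ f) := by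
  classical
  obtain ⟨P, hP, hPg⟩ := D.dep (f : L)
  have hcont : ∀ i : P.support, ∃ (c : K) (q : MvPolynomial (Fin n) V), c ≠ 0 ∧ MvPolynomial.map D.π q ≠ 0 ∧
      P.coeff i = MvPolynomial.C c * MvPolynomial.map (algebraMap V K) q :=
    fun i => D.exists_content _ (Polynomial.mem_support_iff.1 i.2)
  choose c q hc hq hPc using hcont
  have hne : (Finset.univ.image fun i => (c i)⁻¹).Nonempty := by
    obtain ⟨i, hi⟩ := Polynomial.support_nonempty.2 hP
    exact ⟨_, Finset.mem_image_of_mem _ (Finset.mem_univ ⟨i, hi⟩)⟩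
  obtain ⟨x, hx, hmin⟩ := exists_min (V := V) hne fun y hy => by
    obtain ⟨i, -, rfl⟩ := Finset.mem_image.1 hy
    exact inv_ne_zero (hc i)
  obtain ⟨m, -, rfl⟩ := Finset.mem_image.1 hx
  have hv : ∀ i, ∃ v : V, algebraMap V K v = c i / c m := fun i => by
    obtain ⟨v, hv⟩ := hmin _ (Finset.mem_image_of_mem _ (Finset.mem_univ i))
    exact ⟨v, by rw [hv, div_inv_eq_mul, div_eq_mul_inv, mul_comm]⟩
  choose v hv using hv
  let Q : Polynomial D.R := ∑ i : P.support, Polynomial.monomial i.1 (D.ψ (v i) * D.evalT (q i))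
  have hQ0 : Polynomial.eval₂ D.ιI f Q = 0 := by
    apply Subtype.ext
    rw [show ((Polynomial.eval₂ D.ιI f Q : D.int) : L) = Polynomial.eval₂ D.ι (f : L) Q from
      Polynomial.hom_eval₂ Q D.ιI D.int.subtype f, ZeroMemClass.coe_zero]
    have h1 : Polynomial.eval₂ D.ι (f : L) Q = algebraMap K L (c m)⁻¹ *
        P.eval₂ (MvPolynomial.eval₂Hom (algebraMap K L) fun i => D.ι (D.T i)) (f : L) := by
      rw [Polynomial.eval₂_eq_sum (p := P), Polynomial.sum_def, ← Finset.sum_coe_sort P.support, Finset.mul_sum]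
      simp only [Q, Polynomial.eval₂_finsetSum, Polynomial.eval₂_monomial]
      refine Finset.sum_congr rfl fun i _ => ?_
      rw [hPc, map_mul, map_mul, MvPolynomial.eval₂Hom_C, D.ι_ψ, hv, D.ι_evalT, div_eq_mul_inv, map_mul]
      ring
    rw [h1, hPg, mul_zero]
  have h2 : Polynomial.aeval (D.Φ f) (Q.map (residue D.R)) = 0 := by
    rw [Polynomial.aeval_def, Polynomial.eval₂_map,
      show (algebraMap (ResidueField D.R) D.Res).comp (residue D.R) = D.Φ.comp D.ιI from RingHom.ext fun _ => rfl,
      ← Polynomial.hom_eval₂, hQ0, map_zero]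
  refine IsAlgebraic.isIntegral ⟨Q.map (residue D.R), fun h => ?_, h2⟩
  have hm : D.π (v m) = 1 := by
    have : v m = 1 := IsFractionRing.injective V K (by rw [hv, div_self (hc m), map_one])
    rw [this, map_one]
  have h3 := congrArg (fun p => Polynomial.coeff p m.1) h
  simp only [Polynomial.coeff_map, Polynomial.coeff_zero, Q, Polynomial.finsetSum_coeff,
    Polynomial.coeff_monomial] at h3
  rw [Finset.sum_eq_single m (fun i _ hi => if_neg fun he => hi (Subtype.ext he))
    (fun hm' => absurd (Finset.mem_univ m) hm'), if_pos rfl, map_mul, D.res_ψ, hm, map_one, one_mul,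
    D.residue_evalT] at h3
  exact hq m (D.indep _ h3)

/-- Residues of the integral part of a space of functions. -/
def Model.resSpace (M : Submodule K L) : Submodule k D.Res where
  carrier := {x | ∃ f : D.int, (f : L) ∈ M ∧ D.Φ f = x}
  zero_mem' := ⟨0, M.zero_mem, map_zero _⟩
  add_mem' := by
    rintro _ _ ⟨f, hf, rfl⟩ ⟨g, hg, rfl⟩
    exact ⟨f + g, M.add_mem hf hg, map_add _ _ _⟩
  smul_mem' := by
    rintro c _ ⟨f, hf, rfl⟩
    obtain ⟨v, rfl⟩ := D.π_surj c
    refine ⟨D.scal v * f, ?_, by rw [map_mul, D.Φ_scal, Algebra.smul_def]⟩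
    rw [Subring.coe_mul, D.coe_scal, ← Algebra.smul_def]
    exact M.smul_mem _ hf

theorem Model.finite_resSpace (M : Submodule K L) [Module.Finite K M] : Module.Finite k (D.resSpace M) := by
  classical
  refine Module.rank_lt_aleph0_iff.1 (lt_of_le_of_lt (rank_le (n := Module.finrank K M) fun s hs => ?_)
    Cardinal.natCast_lt_aleph0)
  have hmem : ∀ x : s, ∃ f : D.int, (f : L) ∈ M ∧ D.Φ f = (x : D.resSpace M).1 := fun x => x.1.2
  choose f hfM hf using hmem
  have hli : LinearIndependent K fun x : s => (⟨(f x : L), hfM x⟩ : M) := by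
    rw [Fintype.linearIndependent_iff]
    intro g hg x₀
    by_contra hx₀
    have hne : ((Finset.univ.filter fun x => g x ≠ 0).image fun x => (g x)⁻¹).Nonempty :=
      ⟨_, Finset.mem_image_of_mem _ (Finset.mem_filter.2 ⟨Finset.mem_univ x₀, hx₀⟩)⟩
    obtain ⟨y, hy, hmin⟩ := exists_min (V := V) hne fun y hy => by
      obtain ⟨x, hx, rfl⟩ := Finset.mem_image.1 hy
      exact inv_ne_zero (Finset.mem_filter.1 hx).2
    obtain ⟨m, hm, rfl⟩ := Finset.mem_image.1 hy
    have hgm := (Finset.mem_filter.1 hm).2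
    have hv : ∀ x, ∃ v : V, algebraMap V K v = g x / g m := fun x => by
      rcases eq_or_ne (g x) 0 with h | h
      · exact ⟨0, by rw [h, zero_div, map_zero]⟩
      · obtain ⟨v, hv⟩ := hmin _ (Finset.mem_image_of_mem _ (Finset.mem_filter.2 ⟨Finset.mem_univ x, h⟩))
        exact ⟨v, by rw [hv, div_inv_eq_mul, div_eq_mul_inv, mul_comm]⟩
    choose v hv using hv
    have h0 : ∑ x, D.scal (v x) * f x = 0 := by
      apply Subtype.ext
      have h1 := congrArg (fun z : M => algebraMap K L (g m)⁻¹ * (z : L)) hg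
      simp only [AddSubmonoidClass.coe_finsetSum, SetLike.val_smul, ZeroMemClass.coe_zero, mul_zero, Finset.mul_sum] at h1
      rw [AddSubmonoidClass.coe_finsetSum, ZeroMemClass.coe_zero, ← h1]
      refine Finset.sum_congr rfl fun x _ => ?_
      rw [Subring.coe_mul, D.coe_scal, hv, Algebra.smul_def, ← mul_assoc, ← map_mul, div_eq_mul_inv, mul_comm (g x)]
    have h2 : ∑ x : s, D.π (v x) • (x : D.resSpace M) = 0 := by
      apply Subtype.ext
      have h3 := congrArg D.Φ h0
      simp only [map_sum, map_mul, D.Φ_scal, map_zero, hf] at h3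
      simp only [AddSubmonoidClass.coe_finsetSum, SetLike.val_smul, Algebra.smul_def, ZeroMemClass.coe_zero]
      exact h3
    have h4 := Fintype.linearIndependent_iff.1 hs _ h2 m
    rw [show v m = 1 from IsFractionRing.injective V K (by rw [hv, div_self hgm, map_one]), map_one] at h4
    exact one_ne_zero h4
  exact (Fintype.card_coe s).symm.trans_le hli.fintype_card_le_finrank

/-- A compatible automorphism of the function field and the local ring. -/
structure Model.Aut where
  σ : L ≃+* L
  τ : D.R ≃+* D.R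
  fix : ∀ c, σ (algebraMap K L c) = algebraMap K L c
  comm : ∀ r, σ (D.ι r) = D.ι (τ r)
  τ_ψ : ∀ v, τ (D.ψ v) = D.ψ v

variable {D}

theorem valuation_lt_one_iff_inv {W : ValuationSubring L} (x : L) : W.valuation x < 1 ↔ x = 0 ∨ x⁻¹ ∉ W := by
  rcases eq_or_ne x 0 with rfl | hx
  · simp
  · have h := W.valuation.ne_zero_iff.2 hx
    simp only [hx, false_or]
    rw [← W.valuation_le_one_iff, map_inv₀, not_le, one_lt_inv₀ (zero_lt_iff.2 h)]

theorem comap_dom (W : D.Dom) (σ : L ≃+* L) (τ : D.R ≃+* D.R) (comm : ∀ r, σ (D.ι r) = D.ι (τ r)) :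
    (∀ r, (W.1.comap σ.toRingHom).valuation (D.ι r) ≤ 1) ∧
      ∀ r ∈ maximalIdeal D.R, (W.1.comap σ.toRingHom).valuation (D.ι r) < 1 := by
  refine ⟨fun r => ?_, fun r hr => ?_⟩
  · rw [ValuationSubring.valuation_le_one_iff, ValuationSubring.mem_comap, ← ValuationSubring.valuation_le_one_iff]
    exact (comm r).symm ▸ W.2.1 (τ r)
  · have h := (valuation_lt_one_iff_inv _).1 (W.2.2 (τ r) ((mem_maximalIdeal _).2 fun hu =>
      (mem_maximalIdeal r).1 hr (by simpa using hu.map τ.symm)))
    rw [← comm] at h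
    rw [valuation_lt_one_iff_inv, ValuationSubring.mem_comap]
    simpa using h

/-- The permutation of the dominating valuation rings. -/
def Model.Aut.perm (d : D.Aut) (W : D.Dom) : D.Dom := ⟨W.1.comap d.σ.toRingHom, comap_dom W d.σ d.τ d.comm⟩

theorem Model.Aut.perm_surjective (d : D.Aut) : Function.Surjective d.perm := fun W => by
  refine ⟨⟨W.1.comap d.σ.symm.toRingHom, comap_dom W d.σ.symm d.τ.symm fun r => ?_⟩, ?_⟩
  · apply d.σ.injective
    rw [RingEquiv.apply_symm_apply, d.comm, RingEquiv.apply_symm_apply]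
  · refine Subtype.ext (SetLike.ext fun x => ?_)
    simp [Model.Aut.perm]

/-- The automorphism on valuation rings. -/
def Model.Aut.onW (d : D.Aut) (W : D.Dom) : (d.perm W).1 ≃+* W.1 where
  toFun x := ⟨d.σ x, x.2⟩
  invFun y := ⟨d.σ.symm y, show d.σ (d.σ.symm y) ∈ W.1 by rw [RingEquiv.apply_symm_apply]; exact y.2⟩
  left_inv x := Subtype.ext (d.σ.symm_apply_apply x)
  right_inv y := Subtype.ext (d.σ.apply_symm_apply y)
  map_mul' x y := Subtype.ext (map_mul d.σ (x : L) y)
  map_add' x y := Subtype.ext (map_add d.σ (x : L) y)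

/-- The induced map on residues. -/
def Model.Aut.σA (d : D.Aut) : D.Res →+* D.Res :=
  Pi.ringHom fun W => (ResidueField.mapEquiv (d.onW W)).toRingHom.comp (Pi.evalRingHom _ (d.perm W))

theorem Model.Aut.σA_injective (d : D.Aut) : Function.Injective d.σA := fun a b h => funext fun W => by
  obtain ⟨W', rfl⟩ := d.perm_surjective W
  exact (ResidueField.mapEquiv (d.onW W')).injective (congrFun h W')

/-- The induced automorphism of the residue field. -/
def Model.Aut.τF (d : D.Aut) : ResidueField D.R ≃ₐ[k] ResidueField D.R :=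
  AlgEquiv.ofRingEquiv (f := ResidueField.mapEquiv d.τ) fun c => by
    obtain ⟨v, rfl⟩ := D.π_surj c
    show ResidueField.mapEquiv d.τ (D.toF (D.π v)) = D.toF (D.π v)
    rw [← D.res_ψ]
    exact congrArg (residue D.R) (d.τ_ψ v)

theorem Model.Aut.σA_φ (d : D.Aut) (c : ResidueField D.R) :
    d.σA (algebraMap _ D.Res c) = algebraMap _ D.Res (d.τF c) := by
  obtain ⟨r, rfl⟩ := residue_surjective c
  funext W
  exact congrArg (residue W.1) (Subtype.ext (d.comm r))

/-- The induced semilinear map. -/
def Model.Aut.semi (d : D.Aut) : Semi k (ResidueField D.R) D.Res :=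
  ⟨d.τF, d.σA, d.σA_injective, d.σA_φ⟩

theorem Model.Aut.σ_mem (d : D.Aut) (f : D.int) : d.σ (f : L) ∈ D.int := by
  refine Subring.mem_iInf.2 fun W => ?_
  exact (Subring.mem_iInf.1 f.2 (d.perm W))

theorem Model.Aut.σA_Φ (d : D.Aut) (f : D.int) : d.σA (D.Φ f) = D.Φ ⟨d.σ f, d.σ_mem f⟩ := rfl

variable (D) {J : Type*} (d : J → D.Aut)

/-- Coefficients with finitely many independent translates, and if asked with unipotent translations. -/
def Model.goodSet (nil : Prop) : Set (ResidueField D.R) :=
  {q | (∃ Q : Submodule k (ResidueField D.R), Module.Finite k Q ∧ q ∈ Q ∧ ∀ j, ∀ x ∈ Q, (d j).τF x ∈ Q) ∧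
    (nil → ∃ N, ∀ j, (fun x => (d j).τF x - x)^[N] q = 0)}

/-- The residue field is algebraic over the translation finite elements. -/
theorem Model.isAlgebraic_good [Nonempty D.Dom] (nil : Prop) (O : Subring L)
    (hfrac : ∀ g : L, ∃ a ∈ O, ∃ b ∈ O, b ≠ 0 ∧ g = a / b)
    (hM : ∀ f ∈ O, ∃ M : Submodule K L, Module.Finite K M ∧ f ∈ M ∧ (∀ j, ∀ x ∈ M, (d j).σ x ∈ M) ∧
      (nil → ∃ r, ∀ j, ∀ x ∈ M, (fun y => (d j).σ y - y)^[r] x = 0))
    (t : ResidueField D.R) : IsAlgebraic (Subring.closure (D.goodSet d nil)) t := by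
  classical
  let Λ := Subring.closure (D.goodSet d nil)
  rcases eq_or_ne t 0 with rfl | ht
  · exact isAlgebraic_zero
  obtain ⟨s, rfl⟩ := residue_surjective t
  obtain ⟨a, ha, b, hb, hb0, hab⟩ := hfrac (D.ι s)
  obtain ⟨c, -, hcle, W, hW⟩ := D.exists_scale hb0
  let g : D.int := ⟨algebraMap K L c * b, D.mem_int.2 hcle⟩
  have hfg : algebraMap K L c * a = D.ι s * (g : L) := by
    rw [hab]
    simp only [g]
    field_simp
  let f : D.int := D.ιI s * g
  letI : Algebra (ResidueField D.R) (ResidueField W.1) := (ResidueField.map (D.toW W)).toAlgebra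
  letI : Algebra Λ (ResidueField W.1) := ((algebraMap (ResidueField D.R) (ResidueField W.1)).comp Λ.subtype).toAlgebra
  haveI : IsScalarTower Λ (ResidueField D.R) (ResidueField W.1) := IsScalarTower.of_algebraMap_eq fun _ => rfl
  have key : ∀ h : D.int, ∀ h₀ ∈ O, (h : L) = algebraMap K L c * h₀ → IsIntegral Λ (D.Φ h W) := by
    intro h h₀ hh₀ hh
    obtain ⟨M, hMfin, hfM, hMst, hMnil⟩ := hM h₀ hh₀
    haveI := hMfin
    haveI := D.finite_resSpace M
    have hhM : (h : L) ∈ M := by rw [hh, ← Algebra.smul_def]; exact M.smul_mem _ hfM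
    obtain ⟨p, hpm, hp0, hpc⟩ := exists_poly (fun j => (d j).semi) (D.resSpace M)
      (fun x ⟨y, _, hy⟩ => hy ▸ D.isIntegral_Φ y)
      (fun j x ⟨y, hyM, hy⟩ => ⟨⟨(d j).σ y, (d j).σ_mem y⟩, hMst j _ hyM, hy ▸ ((d j).σA_Φ y).symm⟩)
      ⟨D.Φ h, h, hhM, rfl⟩
    have hcoef : ∀ i, p.coeff i ∈ D.goodSet d nil := fun i => ⟨(hpc i).1, fun hn => (hpc i).2 (by
      obtain ⟨r, hr⟩ := hMnil hn
      refine ⟨r, fun j x hx => ?_⟩
      obtain ⟨y, hyM, rfl⟩ := hx
      have key : ∀ (N : ℕ) (y : D.int), (fun z => (d j).semi.σ z - z)^[N] (D.Φ y) =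
          D.Φ ((fun z : D.int => (⟨(d j).σ z, (d j).σ_mem z⟩ : D.int) - z)^[N] y) := by
        intro N
        induction N with
        | zero => exact fun _ => rfl
        | succ N ih =>
          intro y
          rw [Function.iterate_succ_apply, Function.iterate_succ_apply, ← ih, map_sub]
          rfl
      rw [key]
      have h2 : ∀ (N : ℕ) (y : D.int), (((fun z : D.int => (⟨(d j).σ z, (d j).σ_mem z⟩ : D.int) - z)^[N] y : D.int) : L) =
          (fun z => (d j).σ z - z)^[N] (y : L) := by
        intro N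
        induction N with
        | zero => exact fun _ => rfl
        | succ N ih =>
          intro y
          rw [Function.iterate_succ_apply, Function.iterate_succ_apply, ih]
          rfl
      rw [show ((fun z : D.int => (⟨(d j).σ z, (d j).σ_mem z⟩ : D.int) - z)^[r] y) = 0 from
        Subtype.ext ((h2 r y).trans (hr j _ hyM)), map_zero])⟩
    have hlift : p ∈ Polynomial.lifts Λ.subtype := (Polynomial.lifts_iff_coeff_lifts p).2 fun i =>
      ⟨⟨p.coeff i, Subring.subset_closure (hcoef i)⟩, rfl⟩
    obtain ⟨p', hp', -, hp'm⟩ := Polynomial.lifts_and_degree_eq_and_monic hlift hpm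
    refine ⟨p', hp'm, ?_⟩
    have h0 := congrArg (Pi.evalRingHom (fun W : D.Dom => ResidueField W.1) W) hp0
    rw [Polynomial.aeval_def, ← hp', Polynomial.eval₂_map, Polynomial.hom_eval₂, map_zero] at h0
    exact h0
  have hf := key f a ha hfg.symm
  have hg := key g b hb rfl
  have hg1 : D.Φ g W ≠ 0 := fun h0 => by
    have hlt := (W.1.valuation_lt_one_iff _).1 ((residue_eq_zero_iff _).1 h0)
    exact hlt.ne hW
  haveI : NoZeroDivisors Λ := inferInstance
  have ht' : algebraMap (ResidueField D.R) (ResidueField W.1) (residue D.R s) = D.Φ f W * (D.Φ g W)⁻¹ := by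
    have : D.Φ f W = algebraMap (ResidueField D.R) (ResidueField W.1) (residue D.R s) * D.Φ g W := by
      rw [show D.Φ f = D.Φ (D.ιI s) * D.Φ g from map_mul _ _ _]
      rfl
    rw [this, mul_assoc, mul_inv_cancel₀ hg1, mul_one]
  have hinj : Function.Injective (algebraMap Λ (ResidueField W.1)) :=
    (algebraMap (ResidueField D.R) (ResidueField W.1)).injective.comp Subtype.val_injective
  haveI : FaithfulSMul Λ (ResidueField W.1) := (faithfulSMul_iff_algebraMap_injective _ _).2 hinj
  have hgood : IsAlgebraic Λ (algebraMap (ResidueField D.R) (ResidueField W.1) (residue D.R s)) := by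
    rw [ht']
    exact hf.isAlgebraic.mul hg.isAlgebraic.inv
  exact (isAlgebraic_algebraMap_iff (algebraMap (ResidueField D.R) (ResidueField W.1)).injective).1 hgood

end Groth.Agent.AffSpecLib
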