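import Mathlib

/-!
# Scaling functions at the valuations dominating a local ring over a valuation ring
-/

set_option autoImplicit false
set_option linter.style.haveILetI false
set_option linter.unusedSectionVars false

universe u

open IsLocalRing

noncomputable section

namespace Groth.Agent.AffSpecLib

/-- The set up: a local ring between a valuation ring and a function field, with residues of full transcendence degree. -/
structure Model (V K k : Type u) [CommRing V] [Field K] [Algebra V K] [Field k] (L : Type u) [Field L] [Algebra K L]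
    (n : ℕ) where
  R : Type u
  [ring : CommRing R]
  [loc : IsLocalRing R]
  ι : R →+* L
  ψ : V →+* R
  π : V →+* k
  toF : k →+* ResidueField R
  π_surj : Function.Surjective π
  ι_ψ : ∀ v, ι (ψ v) = algebraMap K L (algebraMap V K v)
  res_ψ : ∀ v, residue R (ψ v) = toF (π v)
  T : Fin n → R
  indep : ∀ p : MvPolynomial (Fin n) k, MvPolynomial.eval₂ toF (fun i => residue R (T i)) p = 0 → p = 0
  dep : ∀ g : L, ∃ p : Polynomial (MvPolynomial (Fin n) K), p ≠ 0 ∧
    p.eval₂ (MvPolynomial.eval₂Hom (algebraMap K L) fun i => ι (T i)) g = 0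

attribute [instance] Model.ring Model.loc

variable {V K k : Type u} [CommRing V] [IsDomain V] [ValuationRing V] [Field K] [Algebra V K] [IsFractionRing V K]
  [Field k] {L : Type u} [Field L] [Algebra K L] {n : ℕ} (D : Model V K k L n)

/-- The valuation rings of the function field dominating the local ring. -/
def Model.Dom : Type u :=
  {W : ValuationSubring L // (∀ r, W.valuation (D.ι r) ≤ 1) ∧ ∀ r ∈ maximalIdeal D.R, W.valuation (D.ι r) < 1}

theorem exists_min {s : Finset K} (hs : s.Nonempty) (h0 : ∀ x ∈ s, x ≠ 0) :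
    ∃ x ∈ s, ∀ y ∈ s, ∃ v : V, algebraMap V K v = x / y := by
  induction hs using Finset.Nonempty.cons_induction with
  | singleton a => exact ⟨a, by simp, fun y hy => ⟨1, by rw [Finset.mem_singleton.1 hy, map_one, div_self (h0 a (by simp))]⟩⟩
  | cons a s ha hs ih =>
    obtain ⟨x, hx, hxs⟩ := ih fun y hy => h0 y (Finset.mem_cons_of_mem hy)
    have ha0 := h0 a (Finset.mem_cons_self a s)
    have hx0 := h0 x (Finset.mem_cons_of_mem hx)
    rcases ValuationRing.isInteger_or_isInteger V (x / a) with ⟨v, hv⟩ | ⟨v, hv⟩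
    · refine ⟨x, Finset.mem_cons_of_mem hx, fun y hy => ?_⟩
      rcases Finset.mem_cons.1 hy with rfl | hy
      · exact ⟨v, hv⟩
      · exact hxs y hy
    · refine ⟨a, Finset.mem_cons_self a s, fun y hy => ?_⟩
      rcases Finset.mem_cons.1 hy with rfl | hy
      · exact ⟨1, by rw [map_one, div_self ha0]⟩
      · obtain ⟨w, hw⟩ := hxs y hy
        exact ⟨v * w, by rw [map_mul, hv, hw, inv_div, div_mul_div_cancel₀ hx0]⟩

/-- A nonzero polynomial is a scalar times an integral one with nonzero reduction. -/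
theorem Model.exists_content {σ : Type} (p : MvPolynomial σ K) (hp : p ≠ 0) :
    ∃ (c : K) (q : MvPolynomial σ V), c ≠ 0 ∧ MvPolynomial.map D.π q ≠ 0 ∧
      p = MvPolynomial.C c * MvPolynomial.map (algebraMap V K) q := by
  classical
  have h0 : ∀ x ∈ p.support.image fun m => (p.coeff m)⁻¹, x ≠ 0 := by
    intro x hx
    obtain ⟨m, hm, rfl⟩ := Finset.mem_image.1 hx
    exact inv_ne_zero (MvPolynomial.mem_support_iff.1 hm)
  obtain ⟨x, hx, hmin⟩ := exists_min (V := V) ((MvPolynomial.support_nonempty.2 hp).image _) h0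
  obtain ⟨m, hm, rfl⟩ := Finset.mem_image.1 hx
  have hc := MvPolynomial.mem_support_iff.1 hm
  have hall : MvPolynomial.C (p.coeff m)⁻¹ * p ∈ Set.range (MvPolynomial.map (σ := σ) (algebraMap V K)) := by
    rw [MvPolynomial.mem_range_map_iff_coeffs_subset]
    intro z hz
    obtain ⟨m', hm', rfl⟩ := MvPolynomial.mem_coeffs_iff.1 hz
    rw [MvPolynomial.mem_support_iff, MvPolynomial.coeff_C_mul] at hm'
    obtain ⟨v, hv⟩ := hmin _ (Finset.mem_image_of_mem _ (MvPolynomial.mem_support_iff.2 (right_ne_zero_of_mul hm')))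
    exact ⟨v, by rw [hv, MvPolynomial.coeff_C_mul, div_inv_eq_mul]⟩
  obtain ⟨q, hq⟩ := hall
  refine ⟨p.coeff m, q, hc, ?_, ?_⟩
  · intro h
    have h1 : q.coeff m = 1 := by
      apply IsFractionRing.injective V K
      rw [map_one, ← MvPolynomial.coeff_map, hq, MvPolynomial.coeff_C_mul, inv_mul_cancel₀ hc]
    have h2 := congrArg (MvPolynomial.coeff m) h
    rw [MvPolynomial.coeff_map, h1, map_one, MvPolynomial.coeff_zero] at h2
    exact one_ne_zero h2
  · rw [hq, ← mul_assoc, ← map_mul, mul_inv_cancel₀ hc, map_one, one_mul]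

/-- An integral polynomial in the parameters. -/
def Model.evalT (q : MvPolynomial (Fin n) V) : D.R := MvPolynomial.eval₂ D.ψ D.T q

theorem Model.residue_evalT (q : MvPolynomial (Fin n) V) :
    residue D.R (D.evalT q) = MvPolynomial.eval₂ D.toF (fun i => residue D.R (D.T i)) (MvPolynomial.map D.π q) := by
  rw [Model.evalT, MvPolynomial.eval₂_comp_left, MvPolynomial.eval₂_map]
  congr 1
  exact RingHom.ext D.res_ψ

theorem Model.isUnit_evalT {q : MvPolynomial (Fin n) V} (hq : MvPolynomial.map D.π q ≠ 0) : IsUnit (D.evalT q) := by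
  rw [← notMem_maximalIdeal, ← residue_eq_zero_iff, D.residue_evalT]
  exact fun h => hq (D.indep _ h)

theorem Model.ι_evalT (q : MvPolynomial (Fin n) V) :
    D.ι (D.evalT q) =
      MvPolynomial.eval₂Hom (algebraMap K L) (fun i => D.ι (D.T i)) (MvPolynomial.map (algebraMap V K) q) := by
  rw [Model.evalT, MvPolynomial.eval₂_comp_left, MvPolynomial.coe_eval₂Hom, MvPolynomial.eval₂_map]
  congr 1
  exact RingHom.ext D.ι_ψ

theorem Model.val_unit (W : D.Dom) {r : D.R} (hr : IsUnit r) : W.1.valuation (D.ι r) = 1 := by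
  refine le_antisymm (W.2.1 r) ?_
  obtain ⟨u, rfl⟩ := hr
  have h : W.1.valuation (D.ι (u : D.R)) * W.1.valuation (D.ι ((u⁻¹ : D.Rˣ) : D.R)) = 1 := by
    rw [← map_mul, ← map_mul, ← Units.val_mul, mul_inv_cancel, Units.val_one, map_one, map_one]
  rw [← h]
  exact mul_le_of_le_one_right' (W.2.1 _)

theorem Model.val_algebraMap_le (W : D.Dom) {c : K} (hc : ∃ v : V, algebraMap V K v = c) :
    W.1.valuation (algebraMap K L c) ≤ 1 := by
  obtain ⟨v, rfl⟩ := hc
  rw [← D.ι_ψ]
  exact W.2.1 _

variable [IsAlgClosed K]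

/-- At every dominating valuation ring some member of a finite set of scalars makes `g` a unit. -/
theorem Model.exists_slopes {g : L} (hg : g ≠ 0) :
    ∃ S : Finset K, (∀ c ∈ S, c ≠ 0) ∧ ∀ W : D.Dom, ∃ c ∈ S, W.1.valuation (algebraMap K L c * g) = 1 := by
  classical
  obtain ⟨P, hP, hPg⟩ := D.dep g
  have hcont : ∀ i : P.support, ∃ (c : K) (q : MvPolynomial (Fin n) V), c ≠ 0 ∧ MvPolynomial.map D.π q ≠ 0 ∧
      P.coeff i = MvPolynomial.C c * MvPolynomial.map (algebraMap V K) q :=
    fun i => D.exists_content _ (Polynomial.mem_support_iff.1 i.2)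
  choose c q hc hq hPc using hcont
  have hroot : ∀ p : {p : P.support × P.support // p.1.1 < p.2.1},
      ∃ s : K, s ^ (p.1.2.1 - p.1.1.1) = c p.1.2 / c p.1.1 :=
    fun p => IsAlgClosed.exists_pow_nat_eq _ (Nat.sub_pos_of_lt p.2)
  choose s hs using hroot
  have hs0 : ∀ p, s p ≠ 0 := fun p h => by
    have := hs p
    rw [h, zero_pow (Nat.sub_ne_zero_of_lt p.2)] at this
    exact div_ne_zero (hc _) (hc _) this.symm
  refine ⟨Finset.univ.image s, fun x hx => ?_, fun W => ?_⟩
  · obtain ⟨p, -, rfl⟩ := Finset.mem_image.1 hx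
    exact hs0 p
  let v := W.1.valuation
  let term : P.support → L := fun i => D.ι (D.evalT (q i)) * (algebraMap K L (c i) * g ^ i.1)
  have hsum : ∑ i, term i = 0 := by
    refine Eq.trans ?_ hPg
    rw [Polynomial.eval₂_eq_sum, Polynomial.sum_def, ← Finset.sum_coe_sort P.support]
    refine Finset.sum_congr rfl fun i _ => ?_
    rw [hPc, map_mul, MvPolynomial.eval₂Hom_C, ← D.ι_evalT]
    simp only [term]
    ring
  have hne : (Finset.univ : Finset P.support).Nonempty := by
    obtain ⟨i, hi⟩ := Polynomial.support_nonempty.2 hP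
    exact ⟨⟨i, hi⟩, Finset.mem_univ _⟩
  obtain ⟨i, -, hi⟩ := Finset.exists_max_image Finset.univ (fun i => v (term i)) hne
  have hv : ∀ i, v (term i) = v (algebraMap K L (c i) * g ^ i.1) := fun i => by
    simp only [term, map_mul, v, D.val_unit W (D.isUnit_evalT (hq i)), one_mul]
  have hne0 : ∀ i, v (term i) ≠ 0 := fun i => by
    rw [hv, Valuation.ne_zero_iff]
    exact mul_ne_zero ((map_ne_zero _).2 (hc i)) (pow_ne_zero _ hg)
  obtain ⟨j, hji, hj⟩ : ∃ j, j ≠ i ∧ v (term j) = v (term i) := by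
    by_contra hcon
    push Not at hcon
    have h1 : v (∑ j ∈ Finset.univ.erase i, term j) < v (term i) := v.map_sum_lt (hne0 i) fun j hj =>
      lt_of_le_of_ne (hi j (Finset.mem_univ _)) (hcon j (Finset.ne_of_mem_erase hj))
    have h2 := v.map_add_eq_of_lt_left h1
    rw [Finset.add_sum_erase _ _ (Finset.mem_univ i), hsum, map_zero] at h2
    exact hne0 i h2.symm
  have key : ∀ i j : P.support, i.1 < j.1 → v (term i) = v (term j) →
      ∃ x ∈ Finset.univ.image s, v (algebraMap K L x * g) = 1 := by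
    intro i j hij he
    refine ⟨s ⟨(i, j), hij⟩, Finset.mem_image_of_mem _ (Finset.mem_univ _), ?_⟩
    have hpow : v (algebraMap K L (s ⟨(i, j), hij⟩) * g) ^ (j.1 - i.1) = 1 := by
      rw [← map_pow, mul_pow, ← map_pow, hs]
      rw [hv, hv] at he
      have hgi : algebraMap K L (c j / c i) * g ^ (j.1 - i.1) =
          (algebraMap K L (c j) * g ^ j.1) / (algebraMap K L (c i) * g ^ i.1) := by
        rw [map_div₀, pow_sub₀ _ hg hij.le]
        field_simp
      rw [hgi, map_div₀, he, div_self (by rw [← hv]; exact hne0 j)]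
    exact (pow_eq_one_iff.1 hpow).resolve_right (Nat.sub_ne_zero_of_lt hij)
  rcases lt_or_gt_of_ne (fun h => hji (Subtype.ext h) : j.1 ≠ i.1) with h | h
  · exact key j i h hj
  · exact key i j h hj.symm

/-- A nonzero element has a multiple integral at every dominating valuation ring and a unit at one of them. -/
theorem Model.exists_scale [Nonempty D.Dom] {g : L} (hg : g ≠ 0) :
    ∃ c : K, c ≠ 0 ∧ (∀ W : D.Dom, W.1.valuation (algebraMap K L c * g) ≤ 1) ∧
      ∃ W : D.Dom, W.1.valuation (algebraMap K L c * g) = 1 := by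
  classical
  obtain ⟨S, hS0, hS⟩ := D.exists_slopes hg
  let S' := S.filter fun c => ∃ W : D.Dom, W.1.valuation (algebraMap K L c * g) = 1
  obtain ⟨W₀⟩ := ‹Nonempty D.Dom›
  have hne : S'.Nonempty := by
    obtain ⟨c, hc, h⟩ := hS W₀
    exact ⟨c, Finset.mem_filter.2 ⟨hc, W₀, h⟩⟩
  obtain ⟨x, hx, hmin⟩ := exists_min (V := V) hne fun c hc => hS0 c (Finset.mem_filter.1 hc).1
  obtain ⟨hxS, hxW⟩ := Finset.mem_filter.1 hx
  refine ⟨x, hS0 x hxS, fun W => ?_, hxW⟩
  obtain ⟨c, hc, h⟩ := hS W
  have hcd : algebraMap K L x * g = algebraMap K L (x / c) * (algebraMap K L c * g) := by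
    rw [← mul_assoc, ← map_mul, div_mul_cancel₀ x (hS0 c hc)]
  rw [hcd, map_mul, h, mul_one]
  exact D.val_algebraMap_le W (hmin c (Finset.mem_filter.2 ⟨hc, W, h⟩))

end Groth.Agent.AffSpecLib
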