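import Groth.Agent.AffSpecLib.Cochar
import Groth.Agent.AffSpecLib.Conc
import Groth.Agent.GenSubLib.Torus
import Groth.Agent.MaxTorus.Greatest
import Groth.Agent.MaxTorus.Basic
import Groth.Agent.GmTorsor.Points

/-!
# A group without subtori acts unipotently on its functions
-/

set_option autoImplicit false
set_option backward.isDefEq.respectTransparency false
set_option backward.isDefEq.respectTransparency.types false
set_option linter.style.haveILetI false
set_option linter.unusedSectionVars false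

universe u

open CategoryTheory CategoryTheory.Limits MonoidalCategory CartesianMonoidalCategory MonObj AlgebraicGeometry

attribute [-instance] CategoryTheory.CommGrpObj.toIsCommMonObj CategoryTheory.CommGrpObj.toGrpObj CategoryTheory.Hom.commGroup

noncomputable section

namespace Groth.Agent.AffSpecLib

variable {K : Type u} [Field K]

/-- Scalars as global functions. -/
def scG {X : Scheme.{u}} (s : X ⟶ Spec (CommRingCat.of K)) : K →+* Γ(X, ⊤) :=
  ((Scheme.ΓSpecIso (CommRingCat.of K)).inv ≫ s.appTop).hom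

theorem map_scG {X Y : Over (Spec (CommRingCat.of K))} (f : X ⟶ Y) (c : K) :
    f.left.appTop (scG Y.hom c) = scG X.hom c := by
  show (Y.hom.appTop ≫ f.left.appTop) _ = X.hom.appTop _
  rw [← Scheme.Hom.comp_appTop, Over.w f]

/-- Evaluation at a rational point. -/
def ev {H : Over (Spec (CommRingCat.of K))} (c : 𝟙_ (Over (Spec (CommRingCat.of K))) ⟶ H) : Γ(H.left, ⊤) →+* K :=
  ((Scheme.ΓSpecIso (CommRingCat.of K)).hom.hom).comp c.left.appTop.hom

theorem ev_scG {H : Over (Spec (CommRingCat.of K))} (c : 𝟙_ (Over (Spec (CommRingCat.of K))) ⟶ H) (a : K) :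
    ev c (scG H.hom a) = a := by
  show (Scheme.ΓSpecIso (CommRingCat.of K)).hom (c.left.appTop (scG H.hom a)) = a
  rw [map_scG c a]
  show (Scheme.ΓSpecIso (CommRingCat.of K)).hom ((𝟙 (Spec (CommRingCat.of K)) : _ ⟶ _).appTop
    ((Scheme.ΓSpecIso (CommRingCat.of K)).inv a)) = a
  rw [Scheme.Hom.id_appTop]
  exact (Scheme.ΓSpecIso (CommRingCat.of K)).inv_hom_id_apply a

theorem ev_comp {H H' : Over (Spec (CommRingCat.of K))} (c : 𝟙_ (Over (Spec (CommRingCat.of K))) ⟶ H) (f : H ⟶ H')
    (x : Γ(H'.left, ⊤)) : ev c (f.left.appTop x) = ev (c ≫ f) x := by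
  show _ = (Scheme.ΓSpecIso (CommRingCat.of K)).hom ((c.left ≫ f.left).appTop x)
  rw [Scheme.Hom.comp_appTop]
  rfl

theorem ev_trL {H : Over (Spec (CommRingCat.of K))} [GrpObj H] (c d : 𝟙_ (Over (Spec (CommRingCat.of K))) ⟶ H)
    (x : Γ(H.left, ⊤)) : ev c ((trL H d).left.appTop x) = ev (d * c) x := by
  rw [ev_comp, comp_trL, toUnit_unit, Category.id_comp]

theorem ev_ext [IsAlgClosed K] {H : Over (Spec (CommRingCat.of K))} [IsReduced H.left] [LocallyOfFiniteType H.hom]
    {x : Γ(H.left, ⊤)} (h : ∀ c, ev c x = 0) : x = 0 := by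
  haveI : JacobsonSpace H.left := LocallyOfFiniteType.jacobsonSpace H.hom
  refine (basicOpen_eq_bot_iff x).1 (eq_bot_iff.2 fun p hp => ?_)
  obtain ⟨z, hz, hz'⟩ := nonempty_inter_closedPoints (Z := ((H.left.basicOpen x : H.left.Opens) : Set H.left)) ⟨p, hp⟩
    (H.left.basicOpen x).2.isLocallyClosed
  obtain ⟨c, rfl⟩ := GenSubLib.exists_pt hz'
  exfalso
  have h1 : GenSubLib.base₀ ∈ c.left ⁻¹ᵁ H.left.basicOpen x := hz
  have h2 : c.left.appTop x = 0 := (ConcreteCategory.bijective_of_isIso (Scheme.ΓSpecIso (CommRingCat.of K)).hom).1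
    ((h c).trans (map_zero _).symm)
  rw [Scheme.preimage_basicOpen_top, h2, Scheme.basicOpen_zero] at h1
  exact h1

theorem exists_coord {H : Over (Spec (CommRingCat.of K))} [GrpObj H] [IsAffine H.left] (f : Γ(H.left, ⊤)) :
    ∃ (m : ℕ) (α β : Fin m → Γ(H.left, ⊤)), ∀ h : 𝟙_ (Over (Spec (CommRingCat.of K))) ⟶ H,
      (trL H h).left.appTop f = ∑ i, scG H.hom (ev h (α i)) * β i := by
  haveI : IsAffine (H ⊗ H).left := inferInstanceAs (IsAffine (pullback H.hom H.hom))
  obtain ⟨m, a, b, hab⟩ := exists_sum_of_isPushout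
    (isPushout_appTop_of_isPullback (IsPullback.of_hasPullback H.hom H.hom)) (μ[H].left.appTop f)
  refine ⟨m, a, b, fun h => ?_⟩
  have h1 : (trL H h).left.appTop f = (lift (toUnit H ≫ h) (𝟙 H)).left.appTop (μ[H].left.appTop f) := by
    rw [trL, Over.comp_left, Scheme.Hom.comp_appTop]
    rfl
  rw [h1, hab, map_sum]
  refine Finset.sum_congr rfl fun i _ => ?_
  rw [map_mul]
  congr 1
  · have h2 : (lift (toUnit H ≫ h) (𝟙 H)).left ≫ pullback.fst H.hom H.hom = H.hom ≫ h.left :=
      congrArg CommaMorphism.left (lift_fst (toUnit H ≫ h) (𝟙 H))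
    have h3 := congrArg (fun φ => φ.appTop (a i)) h2
    simp only [Scheme.Hom.comp_appTop] at h3
    refine Eq.trans h3 ?_
    show H.hom.appTop (h.left.appTop (a i)) = H.hom.appTop
      ((Scheme.ΓSpecIso (CommRingCat.of K)).inv ((Scheme.ΓSpecIso (CommRingCat.of K)).hom (h.left.appTop (a i))))
    exact (congrArg H.hom.appTop.hom ((Scheme.ΓSpecIso (CommRingCat.of K)).hom_inv_id_apply (h.left.appTop (a i)))).symm
  · have h2 : (lift (toUnit H ≫ h) (𝟙 H)).left ≫ pullback.snd H.hom H.hom = 𝟙 H.left :=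
      congrArg CommaMorphism.left (lift_snd (toUnit H ≫ h) (𝟙 H))
    have h3 := congrArg (fun φ => φ.appTop (b i)) h2
    simp only [Scheme.Hom.comp_appTop, Scheme.Hom.id_appTop] at h3
    exact h3

theorem eq_of_points [IsAlgClosed K] {X Y : Over (Spec (CommRingCat.of K))} [IsReduced X.left]
    [LocallyOfFiniteType X.hom] [IsSeparated Y.hom] [LocallyOfFiniteType Y.hom] {f g : X ⟶ Y}
    (h : ∀ x : 𝟙_ (Over (Spec (CommRingCat.of K))) ⟶ X, x ≫ f = x ≫ g) : f = g := by
  haveI : LocallyOfFiniteType (f.left ≫ Y.hom) := by rw [Over.w f]; infer_instance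
  ext : 1
  refine ext_of_apply_eq Y.hom Set.univ isClosed_univ.isLocallyClosed dense_univ (fun x _ hx => ?_) ?_
  · obtain ⟨c, rfl⟩ := GenSubLib.exists_pt hx
    rw [← Scheme.Hom.comp_apply, ← Scheme.Hom.comp_apply, ← Over.comp_left, ← Over.comp_left, h]
  · rw [Over.w f, Over.w g]

set_option maxHeartbeats 3200000 in
/-- Without subtori the translations are uniformly unipotent on every function. -/
theorem isUnipAct_of_hasNoSubtorus [IsAlgClosed K] (H : Over (Spec (CommRingCat.of K))) [GrpObj H] [IsAffine H.left]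
    [Smooth H.hom] [ConnectedSpace H.left] (hH : Red.HasNoSubtorus K H) : IsUnipAct H := by
  classical
  intro f
  haveI : LocallyOfFiniteType H.hom := inferInstance
  haveI : IsReduced H.left := ASp.isReduced_of_smooth H.hom
  haveI := GrpSchLib.irreducibleSpace_of_connectedSpace (G := H)
  haveI : IsIntegral H.left := isIntegral_of_irreducibleSpace_of_isReduced H.left
  haveI : IsSeparated H.hom := GrpSchLib.isSeparated_hom
  let A := Γ(H.left, ⊤)
  haveI : Nonempty (⊤ : H.left.Opens) := ⟨⟨η[H].left GenSubLib.base₀, trivial⟩⟩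
  haveI : IsDomain A := inferInstance
  letI algA : Algebra K A := (scG H.hom).toAlgebra
  haveI : Algebra.FiniteType K A := by
    have h1 : H.hom.appTop.hom.FiniteType :=
      (HasRingHomProperty.iff_of_isAffine (P := @LocallyOfFiniteType)).1 inferInstance
    exact h1.comp (RingHom.FiniteType.of_surjective _
      (ConcreteCategory.bijective_of_isIso (Scheme.ΓSpecIso (CommRingCat.of K)).inv).2)
  let evA : (𝟙_ (Over (Spec (CommRingCat.of K))) ⟶ H) → (A →ₐ[K] K) := fun c =>
    { ev c with commutes' := fun a => ev_scG c a }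
  let τ : (𝟙_ (Over (Spec (CommRingCat.of K))) ⟶ H) → (A →ₗ[K] A) := fun h =>
    { toFun := fun x => (trL H h).left.appTop x
      map_add' := fun x y => map_add _ _ _
      map_smul' := fun a x => by
        rw [Algebra.smul_def, map_mul, RingHom.id_apply, Algebra.smul_def]
        congr 1
        exact map_scG (trL H h) a }
  have hττ : ∀ h h' x, τ h (τ h' x) = τ (h' * h) x := fun h h' x => by
    show (trL H h).left.appTop ((trL H h').left.appTop x) = (trL H (h' * h)).left.appTop x
    rw [← trL_comp H h h', Over.comp_left, Scheme.Hom.comp_appTop]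
    rfl
  have hτ1 : ∀ x, τ 1 x = x := fun x => by
    show (trL H 1).left.appTop x = x
    rw [trL_one, Over.id_left, Scheme.Hom.id_appTop]
    rfl
  obtain ⟨gens, hgens⟩ := Algebra.FiniteType.out (R := K) (A := A)
  let T : Set A := {y | ∃ x ∈ insert f gens, ∃ h, τ h x = y}
  let W : Submodule K A := Submodule.span K T
  haveI hWfin : Module.Finite K W := by
    choose m α β hαβ using fun x : A => exists_coord (H := H) x
    let B : Set A := ⋃ x ∈ (insert f gens : Finset A), Set.range (β x)
    have hle : W ≤ Submodule.span K B := by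
      refine Submodule.span_le.2 ?_
      rintro _ ⟨x, hx, h, rfl⟩
      show (trL H h).left.appTop x ∈ Submodule.span K B
      rw [hαβ x h]
      refine Submodule.sum_mem _ fun i _ => ?_
      rw [show scG H.hom (ev h (α x i)) * β x i = ev h (α x i) • β x i from (Algebra.smul_def _ _).symm]
      exact Submodule.smul_mem _ _ (Submodule.subset_span (Set.mem_biUnion hx ⟨i, rfl⟩))
    haveI : Module.Finite K (Submodule.span K B) :=
      Module.Finite.span_of_finite K ((insert f gens).finite_toSet.biUnion fun x _ => Set.finite_range _)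
    exact Module.Finite.of_injective (Submodule.inclusion hle) (Submodule.inclusion_injective hle)
  have hstab : ∀ h, ∀ x ∈ W, τ h x ∈ W := by
    intro h x hx
    refine (Submodule.span_le (p := W.comap (τ h))).2 ?_ hx
    rintro _ ⟨y, hy, h', rfl⟩
    exact Submodule.subset_span ⟨y, hy, h' * h, (hττ h h' y).symm⟩
  have hmemW : ∀ x ∈ insert f gens, x ∈ W := fun x hx => Submodule.subset_span ⟨x, hx, 1, hτ1 x⟩
  let N := Module.finrank K W
  let b : Module.Basis (Fin N) K W := Module.finBasis K W
  let rep : (𝟙_ (Over (Spec (CommRingCat.of K))) ⟶ H) → Module.End K W := fun h => (τ h).restrict (hstab h)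
  let M : (𝟙_ (Over (Spec (CommRingCat.of K))) ⟶ H) → Matrix (Fin N) (Fin N) K := fun h =>
    LinearMap.toMatrixAlgEquiv b (rep h)
  have hMmul : ∀ h h', M h * M h' = M (h' * h) := fun h h' => by
    show LinearMap.toMatrixAlgEquiv b (rep h) * LinearMap.toMatrixAlgEquiv b (rep h') = LinearMap.toMatrixAlgEquiv b (rep (h' * h))
    rw [← map_mul]
    congr 1
    exact LinearMap.ext fun x => Subtype.ext (hττ h h' x)
  have hM1 : M 1 = 1 := by
    show LinearMap.toMatrixAlgEquiv b (rep 1) = 1
    rw [show rep 1 = 1 from LinearMap.ext fun x => Subtype.ext (hτ1 x), map_one]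
  have hMpow : ∀ c (m : ℕ), M c ^ m = M (c ^ m) := by
    intro c m
    induction m with
    | zero => rw [pow_zero, pow_zero, hM1]
    | succ m ih => rw [pow_succ, ih, hMmul, ← pow_succ']
  -- regular entries
  have hentry : ∀ i j, ∃ a : A, ∀ c, ev c a = M c i j := by
    intro i j
    obtain ⟨m, α, β, hαβ⟩ := exists_coord (H := H) (b j : A)
    obtain ⟨lam, hlam⟩ := (b.coord i).exists_extend
    refine ⟨∑ l, lam (β l) • α l, fun c => ?_⟩
    have h1 : M c i j = lam (τ c (b j)) := by
      show LinearMap.toMatrixAlgEquiv b (rep c) i j = _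
      rw [LinearMap.toMatrixAlgEquiv_apply]
      exact (LinearMap.congr_fun hlam (rep c (b j))).symm
    rw [h1, show τ c (b j) = ∑ l, scG H.hom (ev c (α l)) * β l from hαβ c, map_sum, map_sum]
    refine Finset.sum_congr rfl fun l _ => ?_
    rw [show ev c (lam (β l) • α l) = evA c (lam (β l) • α l) from rfl, map_smul,
      show scG H.hom (ev c (α l)) * β l = ev c (α l) • β l from (Algebra.smul_def _ _).symm, map_smul]
    exact mul_comm _ _
  choose a₀ ha₀ using hentry
  let a : Matrix (Fin N) (Fin N) A := Matrix.of a₀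
  have haM : ∀ c, (evA c).toRingHom.mapMatrix a = M c := fun c => Matrix.ext fun i j => ha₀ i j c
  have hext : ∀ {x y : A}, (∀ c, ev c x = ev c y) → x = y := fun h =>
    sub_eq_zero.1 (ev_ext fun c => by rw [map_sub, h c, sub_self])
  have hgen : Algebra.adjoin K (Set.range fun ij : Fin N × Fin N => a ij.1 ij.2) = ⊤ := by
    rw [eq_top_iff, ← hgens]
    refine Algebra.adjoin_le fun x hx => ?_
    let xW : W := ⟨x, hmemW x (Finset.mem_insert_of_mem hx)⟩
    have hx' : x = ∑ i, ∑ j, (b.repr xW j * ev 1 (b i : A)) • a i j := by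
      refine hext fun c => ?_
      rw [show ev c x = ev 1 (τ c x) by show _ = ev 1 ((trL H c).left.appTop x); rw [ev_trL, _root_.mul_one]]
      have h1 : τ c x = ∑ i, (∑ j, M c i j * b.repr xW j) • (b i : A) := by
        have h2 := b.sum_repr (rep c xW)
        have h3 : ∀ i, b.repr (rep c xW) i = ∑ j, M c i j * b.repr xW j := fun i => by
          have h4 := congrFun (LinearMap.toMatrix_mulVec_repr b b (rep c) xW) i
          rw [← h4]
          rfl
        calc τ c x = ((rep c xW : W) : A) := rfl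
          _ = _ := by
            rw [← h2, AddSubmonoidClass.coe_finsetSum]
            exact Finset.sum_congr rfl fun i _ => by rw [Submodule.coe_smul, h3]
      rw [h1]
      show evA 1 _ = evA c _
      simp only [map_sum, map_smul, smul_eq_mul, Finset.sum_mul]
      refine Finset.sum_congr rfl fun i _ => Finset.sum_congr rfl fun j _ => ?_
      rw [← haM c, RingHom.mapMatrix_apply, Matrix.map_apply]
      show evA c (a i j) * b.repr xW j * evA 1 _ = _
      show _ = (b.repr xW j * ev 1 (b i : A)) * evA c (a i j)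
      rw [show evA 1 (b i : A) = ev 1 (b i : A) from rfl]
      ring
    rw [hx']
    exact Subalgebra.sum_mem _ fun i _ => Subalgebra.sum_mem _ fun j _ =>
      Subalgebra.smul_mem _ (Algebra.subset_adjoin
        (show a i j ∈ Set.range (fun ij : Fin N × Fin N => a ij.1 ij.2) from ⟨(i, j), rfl⟩)) _
  have hdet : a.det ≠ 0 := by
    intro h0
    have h1 := congrArg (evA 1) h0
    rw [map_zero, show evA 1 a.det = (evA 1).toRingHom a.det from rfl, RingHom.map_det, haM, hM1, Matrix.det_one] at h1
    exact one_ne_zero h1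
  have hFev : ∀ (F : MvPolynomial (Fin N × Fin N) K) c, ev c (MvPolynomial.aeval (fun ij => a ij.1 ij.2) F) =
      MvPolynomial.aeval (fun ij => M c ij.1 ij.2) F := fun F c => by
    rw [show ev c (MvPolynomial.aeval (fun ij => a ij.1 ij.2) F) = evA c (MvPolynomial.aeval (fun ij => a ij.1 ij.2) F) from rfl,
      MvPolynomial.comp_aeval_apply, ← haM c]
    rfl
  have hpow : ∀ F : MvPolynomial (Fin N × Fin N) K, MvPolynomial.aeval (fun ij => a ij.1 ij.2) F = 0 →
      ∀ m : ℕ, MvPolynomial.aeval (fun ij => (a ^ m) ij.1 ij.2) F = 0 := by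
    intro F hF m
    refine hext fun c => ?_
    rw [map_zero, show ev c (MvPolynomial.aeval (fun ij => (a ^ m) ij.1 ij.2) F) =
      evA c (MvPolynomial.aeval (fun ij => (a ^ m) ij.1 ij.2) F) from rfl, MvPolynomial.comp_aeval_apply]
    have h1 : (evA c).toRingHom.mapMatrix (a ^ m) = M (c ^ m) := by rw [map_pow, haM, hMpow]
    have h2 := hFev F (c ^ m)
    rw [hF, map_zero] at h2
    rw [h2]
    congr 2
    funext ij
    exact congrFun (congrFun h1 ij.1) ij.2
  -- either unipotent or a subtorus
  let L := AlgebraicClosure (FractionRing A)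
  haveI : IsScalarTower K A L := inferInstance
  by_cases hroots : ∀ l : L, (a.map (algebraMap A L)).charpoly.IsRoot l → l ∈ Set.range (algebraMap K L)
  · refine ⟨N, fun c => ?_⟩
    have hmap : (a.map (algebraMap A L)).charpoly = a.charpoly.map (algebraMap A L) := a.charpoly_map (algebraMap A L)
    have hinjA : Function.Injective (algebraMap A L) := by
      rw [IsScalarTower.algebraMap_eq A (FractionRing A) L]
      exact (algebraMap (FractionRing A) L).injective.comp (IsFractionRing.injective A (FractionRing A))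
    obtain ⟨p, hp⟩ : ∃ p : Polynomial K, p.map (algebraMap K L) = (a.map (algebraMap A L)).charpoly := by
      suffices h : (a.map (algebraMap A L)).charpoly ∈ (Polynomial.mapRingHom (algebraMap K L)).range from h
      rw [(IsAlgClosed.splits (a.map (algebraMap A L)).charpoly).eq_prod_roots_of_monic (Matrix.charpoly_monic _)]
      refine Subring.multiset_prod_mem _ _ fun q hq => ?_
      obtain ⟨l, hl, rfl⟩ := Multiset.mem_map.1 hq
      obtain ⟨c, rfl⟩ := hroots l (Polynomial.isRoot_of_mem_roots hl)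
      exact ⟨Polynomial.X - Polynomial.C c, by simp⟩
    have hpA : p.map (algebraMap K A) = a.charpoly := by
      apply Polynomial.map_injective (algebraMap A L) hinjA
      rw [Polynomial.map_map, ← IsScalarTower.algebraMap_eq, hp, hmap]
    have hall : ∀ c, (M c).charpoly = p := fun c => by
      rw [← haM c, RingHom.mapMatrix_apply, Matrix.charpoly_map, ← hpA, Polynomial.map_map,
        show (evA c).toRingHom.comp (algebraMap K A) = RingHom.id K from RingHom.ext fun x => (evA c).commutes x,
        Polynomial.map_id]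
    have hnil : (M c - 1) ^ N = 0 := by
      have h1 : (M c).charpoly = (Polynomial.X - Polynomial.C 1) ^ N := by
        rw [hall c, ← hall 1, hM1, Matrix.charpoly_one, Fintype.card_fin, Polynomial.C_1]
      have h2 := Matrix.aeval_self_charpoly (M c)
      rw [h1, map_pow, map_sub, Polynomial.aeval_X, Polynomial.aeval_C, map_one] at h2
      exact h2
    have hrep : (rep c - 1) ^ N = 0 := by
      apply (LinearMap.toMatrixAlgEquiv b).injective
      have e1 : LinearMap.toMatrixAlgEquiv b (rep c - 1) = M c - LinearMap.toMatrixAlgEquiv b 1 :=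
        (LinearMap.toMatrixAlgEquiv b).toLinearEquiv.map_sub (rep c) 1
      rw [map_one] at e1
      rw [map_pow, map_zero, e1]
      exact hnil
    have key : ∀ (r : ℕ) (x : W), (((rep c - 1) ^ r) x : A) =
        (fun y => (trL H c).left.appTop y - y)^[r] (x : A) := by
      intro r
      induction r with
      | zero => exact fun _ => rfl
      | succ r ih =>
        intro x
        rw [pow_succ, Module.End.mul_apply, Function.iterate_succ_apply, ih]
        rfl
    have h := key N ⟨f, hmemW f (Finset.mem_insert_self _ _)⟩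
    rw [hrep] at h
    exact h.symm
  · exfalso
    push Not at hroots
    obtain ⟨l, hl, hlK⟩ := hroots
    obtain ⟨S, C, hC1, hCmul, ⟨t₀, ht₀⟩, hCF⟩ := exists_cochar a hdet hpow l hl fun c hc => hlK ⟨c, by
      rw [← hc]; exact IsScalarTower.algebraMap_apply K A L c⟩
    -- the torus
    let B := Spec (CommRingCat.of K)
    let T := Red.DS B (Fin 1 → ℤ)
    have hT : Red.IsTorus T := MaxTorus.isTorus_of_split (r := 1) ⟨Iso.refl _⟩
    obtain ⟨hTs, hTq, hTa, hTc⟩ := GenSubLib.torus_props hT
    haveI := hTs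
    haveI : IsReduced T.left := ASp.isReduced_of_smooth T.hom
    let φ : ℤ →+ (Fin 1 → ℤ) :=
      { toFun := fun n _ => n, map_zero' := rfl, map_add' := fun _ _ => rfl }
    let φ' : (Fin 1 → ℤ) →+ ℤ := Pi.evalAddMonoidHom (fun _ => ℤ) 0
    let d : T ⟶ Red.Gm B := Red.DSmap B φ
    haveI : IsMonHom d := DSMapLib.isMonHom_DSmap B φ
    let u : Γ(T.left, ⊤) := Red.gmFn d
    let uU := (GaGmHom.isUnit_gmFn d).unit
    letI algT : Algebra K Γ(T.left, ⊤) := (scG T.hom).toAlgebra
    let Su : Fin N × Fin N → Γ(T.left, ⊤) := fun ij =>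
      ∑ n ∈ S, ((uU ^ n : Γ(T.left, ⊤)ˣ) : Γ(T.left, ⊤)) * algebraMap K _ (C n ij.1 ij.2)
    let evT : (𝟙_ (Over B) ⟶ T) → (Γ(T.left, ⊤) →ₐ[K] K) := fun x =>
      { ev x with commutes' := fun z => ev_scG x z }
    have hval : ∀ x : 𝟙_ (Over B) ⟶ T, ∃ t : Kˣ, (t : K) = ev x u ∧ ∀ ij, ev x (Su ij) = famEval S C t ij.1 ij.2 := by
      intro x
      refine ⟨Units.map (ev x).toMonoidHom uU, rfl, fun ij => ?_⟩
      show ev x (Su ij) = _
      simp only [Su, map_sum, map_mul, famEval, Matrix.sum_apply, Matrix.smul_apply, smul_eq_mul]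
      refine Finset.sum_congr rfl fun n _ => ?_
      rw [show ev x (algebraMap K _ (C n ij.1 ij.2)) = C n ij.1 ij.2 from ev_scG x _, ← map_zpow]
      rfl
    have hker : ∀ F : MvPolynomial (Fin N × Fin N) K, MvPolynomial.aeval (fun ij => a ij.1 ij.2) F = 0 →
        MvPolynomial.aeval Su F = 0 := by
      intro F hF
      refine sub_eq_zero.1 (ev_ext fun x => ?_)
      obtain ⟨t, -, ht⟩ := hval x
      rw [sub_zero, show ev x (MvPolynomial.aeval Su F) = evT x (MvPolynomial.aeval Su F) from rfl,
        MvPolynomial.comp_aeval_apply]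
      rw [show (fun i => evT x (Su i)) = fun ij => famEval S C t ij.1 ij.2 from funext ht]
      exact hCF F hF t
    let π : MvPolynomial (Fin N × Fin N) K →ₐ[K] A := MvPolynomial.aeval fun ij => a ij.1 ij.2
    have hπ : Function.Surjective π := by
      rw [← AlgHom.range_eq_top, ← Algebra.adjoin_range_eq_range_aeval, hgen]
    let ψ : A →+* Γ(T.left, ⊤) :=
      ((Ideal.Quotient.liftₐ (RingHom.ker π) (MvPolynomial.aeval Su) fun F hF => hker F hF).comp
        (Ideal.quotientKerAlgEquivOfSurjective hπ).symm.toAlgHom).toRingHom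
    have hψ : ∀ F, ψ (π F) = MvPolynomial.aeval Su F := fun F => by
      simp only [ψ, AlgHom.toRingHom_eq_coe, RingHom.coe_coe, AlgHom.comp_apply, AlgEquiv.toAlgHom_eq_coe, AlgEquiv.coe_toAlgHom]
      rw [show (Ideal.quotientKerAlgEquivOfSurjective hπ).symm (π F) = Ideal.Quotient.mk _ F from
        (Ideal.quotientKerAlgEquivOfSurjective hπ).symm_apply_eq.2 rfl]
      rfl
    let j₀ : T.left ⟶ H.left := T.left.toSpecΓ ≫ Spec.map (CommRingCat.ofHom ψ) ≫ H.left.isoSpec.inv
    have hj₀ : j₀.appTop = CommRingCat.ofHom ψ := by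
      have h : T.left.toSpecΓ ≫ Spec.map (CommRingCat.ofHom ψ) = j₀ ≫ H.left.toSpecΓ := by
        rw [show H.left.toSpecΓ = H.left.isoSpec.hom from rfl]
        simp only [j₀, Category.assoc, Iso.inv_hom_id, Category.comp_id]
      have h' := congrArg Scheme.Hom.appTop h
      simp only [Scheme.Hom.comp_appTop, Scheme.toSpecΓ_appTop, Scheme.ΓSpecIso_naturality] at h'
      exact (cancel_epi (Scheme.ΓSpecIso Γ(H.left, ⊤)).hom).1
        ((congrArg (· ≫ j₀.appTop) (Scheme.toSpecΓ_appTop H.left).symm).trans h'.symm)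
    let j : T ⟶ H := Over.homMk j₀ (by
      refine ext_of_isAffine ?_
      rw [Scheme.Hom.comp_appTop, hj₀]
      refine ConcreteCategory.hom_ext _ _ fun z => ?_
      obtain ⟨c, rfl⟩ := (ConcreteCategory.bijective_of_isIso (Scheme.ΓSpecIso (CommRingCat.of K)).inv).2 z
      show ψ (algebraMap K A c) = algebraMap K Γ(T.left, ⊤) c
      rw [← π.commutes c, hψ, AlgHom.commutes])
    have hjM : ∀ x, ∃ t : Kˣ, (t : K) = ev x u ∧ M (x ≫ j) = famEval S C t := by
      intro x
      obtain ⟨t, htu, ht⟩ := hval x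
      refine ⟨t, htu, Matrix.ext fun i k => ?_⟩
      rw [← ha₀ i k (x ≫ j), ← ev_comp, show j.left.appTop = CommRingCat.ofHom ψ from hj₀]
      show ev x (ψ (a i k)) = _
      rw [show a i k = π (MvPolynomial.X (i, k)) from (MvPolynomial.aeval_X (fun ij : Fin N × Fin N => a ij.1 ij.2) (i, k)).symm, hψ, MvPolynomial.aeval_X]
      exact ht (i, k)
    have hMinj : ∀ c c', M c = M c' → c = c' := by
      intro c c' h
      have h1 : evA c = evA c' := AlgHom.ext_of_adjoin_eq_top hgen (by
        rintro _ ⟨ij, rfl⟩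
        show ev c (a₀ ij.1 ij.2) = ev c' (a₀ ij.1 ij.2)
        rw [ha₀, ha₀, h])
      apply Over.OverMorphism.ext
      refine ext_of_isAffine (ConcreteCategory.hom_ext _ _ fun z => ?_)
      exact (ConcreteCategory.bijective_of_isIso (Scheme.ΓSpecIso (CommRingCat.of K)).hom).1 (DFunLike.congr_fun h1 z)
    have hmulpts : ∀ x y : 𝟙_ (Over B) ⟶ T, (x * y) ≫ j = (x ≫ j) * (y ≫ j) := by
      intro x y
      obtain ⟨t, htx, ht⟩ := hjM x
      obtain ⟨s, hsy, hs⟩ := hjM y
      obtain ⟨r, hr', hr⟩ := hjM (x * y)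
      apply hMinj
      rw [← hMmul, hr, hs, ht, hCmul]
      congr 1
      refine Units.ext ?_
      have hu : ∀ z : 𝟙_ (Over B) ⟶ T, ev z u = ev (z ≫ d) (Red.gmFn (𝟙 (Red.Gm B))) := fun z => by
        rw [← ev_comp, show u = Red.gmFn (d ≫ 𝟙 _) by rw [Category.comp_id], GaGmHom.gmFn_comp]
      rw [hr', Units.val_mul, hsy, htx, mul_comm (ev y u) (ev x u)]
      show (Scheme.ΓSpecIso (CommRingCat.of K)).hom ((x * y).left.appTop u) =
        (Scheme.ΓSpecIso (CommRingCat.of K)).hom (x.left.appTop u) * (Scheme.ΓSpecIso (CommRingCat.of K)).hom (y.left.appTop u)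
      rw [← map_mul, ← GaGmHom.gmFn_comp, ← GaGmHom.gmFn_comp, ← GaGmHom.gmFn_comp, MonObj.mul_comp, GmTorsor.gmFn_mul]
    haveI : IsMonHom j := by
      haveI : Smooth (T ⊗ T).hom := inferInstanceAs (Smooth (pullback.fst T.hom T.hom ≫ T.hom))
      haveI : IsReduced (T ⊗ T).left := ASp.isReduced_of_smooth (T ⊗ T).hom
      have h2 : (fst T T * snd T T) ≫ j = (fst T T ≫ j) * (snd T T ≫ j) := eq_of_points fun x => by
        rw [← Category.assoc, MonObj.comp_mul, hmulpts, MonObj.comp_mul, Category.assoc, Category.assoc]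
      refine SubgSpecLib.isMonHom_of_points j fun {Z} p q => ?_
      have h3 := congrArg (lift p q ≫ ·) h2
      simp only [← Category.assoc, MonObj.comp_mul, lift_fst, lift_snd] at h3
      exact h3
    obtain ⟨Q, hQ, jQ, q, hjQ, hci, hq, -, hqj, hQt⟩ := GenSubLib.exists_image_torus hT j
    haveI := hjQ
    haveI := hci
    haveI : Mono jQ := Over.mono_of_mono_left jQ
    have hj1 : j = 1 := by rw [← hqj, GenSubLib.eq_one_of_isTrivialGrp (hH Q jQ hQt) jQ, MonObj.comp_one]
    -- a point of the torus with the given value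
    obtain ⟨y, hy⟩ := GmTorsor.gmFn_surjective (X := 𝟙_ (Over B)) ((Scheme.ΓSpecIso (CommRingCat.of K)).inv (t₀ : K))
      (t₀.isUnit.map (Scheme.ΓSpecIso (CommRingCat.of K)).inv.hom)
    obtain ⟨t, htu, ht⟩ := hjM (y ≫ Red.DSmap B φ')
    rw [hj1, MonObj.comp_one, hM1] at ht
    have htt : t = t₀ := by
      refine Units.ext (htu.trans ?_)
      show (Scheme.ΓSpecIso (CommRingCat.of K)).hom ((y ≫ Red.DSmap B φ').left.appTop u) = _
      rw [← GaGmHom.gmFn_comp, Category.assoc, MaxTorus.DSmap_comp,
        show φ'.comp φ = AddMonoidHom.id ℤ from AddMonoidHom.ext fun _ => rfl, MaxTorus.DSmap_id, Category.comp_id, hy]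
      exact (Scheme.ΓSpecIso (CommRingCat.of K)).inv_hom_id_apply _
    exact ht₀ (htt ▸ ht.symm)

end Groth.Agent.AffSpecLib
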