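import Groth.Agent.AffSpecLib.Unip1

/-!
# A group with enough unipotent functions has no subtorus
-/

set_option autoImplicit false
set_option backward.isDefEq.respectTransparency false
set_option backward.isDefEq.respectTransparency.types false
set_option linter.style.haveILetI false
set_option linter.unusedSectionVars false

universe u

open CategoryTheory CategoryTheory.Limits MonoidalCategory CartesianMonoidalCategory MonObj AlgebraicGeometry

attribute [-instance] CategoryTheory.CommGrpObj.toIsCommMonObj CategoryTheory.CommGrpObj.toGrpObj CategoryTheory.Hom.commGroup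

noncomputable section

namespace Groth.Agent.AffSpecLib

variable {K : Type u} [Field K]

/-- A unipotent map of invertible finite order is the identity. -/
theorem fix_of_iterate {E : Type u} [AddCommGroup E] (τ : E →+ E) (n : ℕ) (hn : ∀ v : E, n • v = 0 → v = 0)
    (hτ : ∀ v, (⇑τ)^[n] v = v) : ∀ (N : ℕ) (v : E), (fun z => τ z - z)^[N] v = 0 → τ v = v := by
  intro N
  induction N with
  | zero =>
    intro v hv
    rw [show v = 0 from hv, map_zero]
  | succ N ih =>
    intro v hv
    have h1 : τ (τ v - v) = τ v - v := ih _ (by rwa [Function.iterate_succ_apply] at hv)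
    have h2 : ∀ m : ℕ, (⇑τ)^[m] v = v + m • (τ v - v) := by
      intro m
      induction m with
      | zero => simp
      | succ m ihm => rw [Function.iterate_succ_apply', ihm, map_add, map_nsmul, h1, succ_nsmul']; abel
    have h3 := h2 n
    rw [hτ, left_eq_add] at h3
    exact sub_eq_zero.1 (hn _ h3)

/-- A function killed at a dense set of rational points is zero. -/
theorem ev_ext_dense {H : Over (Spec (CommRingCat.of K))} [IsReduced H.left]
    (S : Set (𝟙_ (Over (Spec (CommRingCat.of K))) ⟶ H)) (hS : Dense ((fun c => c.left GenSubLib.base₀) '' S))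
    {x : Γ(H.left, ⊤)} (h : ∀ c ∈ S, ev c x = 0) : x = 0 := by
  refine (basicOpen_eq_bot_iff x).1 (eq_bot_iff.2 fun p hp => ?_)
  obtain ⟨_, hz, c, hcS, rfl⟩ := hS.inter_open_nonempty _ (H.left.basicOpen x).2 ⟨p, hp⟩
  exfalso
  have h1 : GenSubLib.base₀ ∈ c.left ⁻¹ᵁ H.left.basicOpen x := hz
  have h2 : c.left.appTop x = 0 := (ConcreteCategory.bijective_of_isIso (Scheme.ΓSpecIso (CommRingCat.of K)).hom).1
    ((h c hcS).trans (map_zero _).symm)
  rw [Scheme.preimage_basicOpen_top, h2, Scheme.basicOpen_zero] at h1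
  exact h1

/-- The iterated differences along the points as one function. -/
def diffFn {H : Over (Spec (CommRingCat.of K))} [GrpObj H] (q : Γ(H.left, ⊤)) : ℕ → (H ⟶ H) → Γ(H.left, ⊤)
  | 0, m => m.left.appTop q
  | r + 1, m => diffFn q r (𝟙 H * m) - diffFn q r m

theorem ev_diffFn {H : Over (Spec (CommRingCat.of K))} [GrpObj H] (q : Γ(H.left, ⊤))
    (c : 𝟙_ (Over (Spec (CommRingCat.of K))) ⟶ H) : ∀ (r : ℕ) (m : H ⟶ H),
    ev c (diffFn q r m) = ev (c ≫ m) ((fun x => (trL H c).left.appTop x - x)^[r] q) := by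
  intro r
  induction r with
  | zero => exact fun m => ev_comp c m q
  | succ r ih =>
    intro m
    rw [show diffFn q (r + 1) m = diffFn q r (𝟙 H * m) - diffFn q r m from rfl, map_sub, ih, ih,
      Function.iterate_succ_apply', map_sub, ev_trL, MonObj.comp_mul, Category.comp_id]

set_option maxHeartbeats 3200000 in
/-- Enough functions with unipotent translations exclude subtori. -/
theorem hasNoSubtorus_of_hasUnipTrans [IsAlgClosed K] (Γ' : Over (Spec (CommRingCat.of K))) [GrpObj Γ']
    [IsAffine Γ'.left] [Smooth Γ'.hom] (h : HasUnipTrans Γ') : Red.HasNoSubtorus K Γ' := by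
  classical
  obtain ⟨hint, S, hS, halg⟩ := h
  haveI := hint
  haveI : LocallyOfFiniteType Γ'.hom := inferInstance
  haveI : Nonempty (⊤ : Γ'.left.Opens) := ⟨⟨genericPoint Γ'.left, trivial⟩⟩
  haveI hfr : IsFractionRing Γ(Γ'.left, ⊤) Γ'.left.functionField :=
    functionField_isFractionRing_of_isAffineOpen Γ'.left ⊤ (isAffineOpen_top Γ'.left)
  have hτg : ∀ c a, ffTr Γ' c (glob Γ' a) = glob Γ' ((trL Γ' c).left.appTop a) := fun c a => ffTr_germ Γ' c a
  have hcomp : ∀ c d t, ffTr Γ' c (ffTr Γ' d t) = ffTr Γ' (d * c) t := by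
    intro c d t
    obtain ⟨a, b, -, rfl⟩ := IsFractionRing.div_surjective (A := Γ(Γ'.left, ⊤)) t
    have h1 : ∀ z, ffTr Γ' c (ffTr Γ' d (glob Γ' z)) = ffTr Γ' (d * c) (glob Γ' z) := fun z => by
      rw [hτg, hτg, hτg, ← trL_comp Γ' c d, Over.comp_left, Scheme.Hom.comp_appTop]
      rfl
    rw [map_div₀, map_div₀, map_div₀]
    exact congrArg₂ (· / ·) (h1 a) (h1 b)
  have hone : ∀ t, ffTr Γ' 1 t = t := by
    intro t
    obtain ⟨a, b, -, rfl⟩ := IsFractionRing.div_surjective (A := Γ(Γ'.left, ⊤)) t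
    have h1 : ∀ z, ffTr Γ' 1 (glob Γ' z) = glob Γ' z := fun z => by
      rw [hτg, trL_one, Over.id_left, Scheme.Hom.id_appTop]
      rfl
    rw [map_div₀]
    exact congrArg₂ (· / ·) (h1 a) (h1 b)
  have hpow : ∀ (c : 𝟙_ (Over (Spec (CommRingCat.of K))) ⟶ Γ') (m : ℕ) t,
      (ffTr Γ' c)^[m] t = ffTr Γ' (c ^ m) t := by
    intro c m
    induction m with
    | zero => exact fun t => by rw [pow_zero, hone]; rfl
    | succ m ih => exact fun t => by rw [Function.iterate_succ_apply', ih, hcomp, ← pow_succ]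
  -- torsion points fix the good functions
  have hfix : ∀ q ∈ transSet Γ' S True, ∀ (c : 𝟙_ (Over (Spec (CommRingCat.of K))) ⟶ Γ') (n : ℕ),
      (n : K) ≠ 0 → c ^ n = 1 → ffTr Γ' c q = q := by
    intro q hq c n hn hc
    obtain ⟨q₀, rfl⟩ := mem_glob Γ' S hS True q hq
    obtain ⟨N, hN⟩ := hq.2 trivial
    have key : ∀ (c : 𝟙_ (Over (Spec (CommRingCat.of K))) ⟶ Γ') (r : ℕ) (z : Γ(Γ'.left, ⊤)),
        (fun x => ffTr Γ' c x - x)^[r] (glob Γ' z) = glob Γ' ((fun x => (trL Γ' c).left.appTop x - x)^[r] z) := by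
      intro c r
      induction r with
      | zero => exact fun _ => rfl
      | succ r ih =>
        intro z
        rw [Function.iterate_succ_apply, Function.iterate_succ_apply, ← ih, map_sub, hτg]
    have hall : ∀ c : 𝟙_ (Over (Spec (CommRingCat.of K))) ⟶ Γ',
        (fun x => (trL Γ' c).left.appTop x - x)^[N] q₀ = 0 := by
      intro c
      refine ev_ext fun x => ?_
      let m : Γ' ⟶ Γ' := toUnit Γ' ≫ x
      have hm : ∀ d : 𝟙_ (Over (Spec (CommRingCat.of K))) ⟶ Γ', d ≫ m = x := fun d => by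
        rw [← Category.assoc, toUnit_unique (d ≫ toUnit Γ') (toUnit _), toUnit_unit, Category.id_comp]
      have h0 : diffFn q₀ N m = 0 := by
        refine ev_ext_dense S hS fun d hd => ?_
        rw [ev_diffFn, show (fun x => (trL Γ' d).left.appTop x - x)^[N] q₀ = 0 from
          glob_injective Γ' (by rw [← key, hN d hd, map_zero]), map_zero]
      have h1 := ev_diffFn q₀ c N m
      rw [h0, map_zero, hm] at h1
      exact h1.symm
    refine fix_of_iterate (ffTr Γ' c).toAddEquiv.toAddMonoidHom n (fun v hv => ?_) (fun v => ?_) N _ ?_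
    · rw [nsmul_eq_mul] at hv
      refine (mul_eq_zero.1 hv).resolve_left fun h0 => hn ?_
      have h2 : ((n : ℕ) : Γ'.left.functionField) = cst Γ'.hom (genericPoint Γ'.left) (n : K) := (map_natCast _ n).symm
      rw [h2] at h0
      exact (injective_iff_map_eq_zero _).1 (cst Γ'.hom (genericPoint Γ'.left)).injective _ h0
    · show (ffTr Γ' c)^[n] v = v
      rw [hpow, hc, hone]
    · show (fun x => ffTr Γ' c x - x)^[N] (glob Γ' q₀) = 0
      rw [key, hall, map_zero]
  -- torsion points with torsion roots act trivially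
  have hkill : ∀ c : 𝟙_ (Over (Spec (CommRingCat.of K))) ⟶ Γ',
      (∀ M : ℕ, 0 < M → ∃ d : 𝟙_ (Over (Spec (CommRingCat.of K))) ⟶ Γ', d ^ M = c ∧ ∃ n : ℕ, (n : K) ≠ 0 ∧ d ^ n = 1) →
        c = 1 := by
    intro c hc
    have hct : ∀ t, ffTr Γ' c t = t := by
      intro t
      obtain ⟨P, hP, hPt⟩ := halg t
      let Q := P.map (Subring.closure (transSet Γ' S True)).subtype
      have hQ : Q ≠ 0 := (Polynomial.map_ne_zero_iff Subtype.val_injective).2 hP
      let R := Q.roots.toFinset
      obtain ⟨d, hd, n, hn, hdn⟩ := hc R.card.factorial (Nat.factorial_pos _)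
      have hΛ : ∀ z ∈ Subring.closure (transSet Γ' S True), ffTr Γ' d z = z :=
        Subring.closure_le (t := RingHom.eqLocus (ffTr Γ' d).toRingHom (RingHom.id _)) |>.2
          fun q hq => hfix q hq d n hn hdn
      have hQd : Q.map (ffTr Γ' d).toRingHom = Q := by
        rw [Polynomial.map_map]
        congr 1
        exact RingHom.ext fun z => hΛ z z.2
      have hR : ∀ z, z ∈ R ↔ Q.IsRoot z := fun z => by rw [Multiset.mem_toFinset, Polynomial.mem_roots hQ]
      have hmaps : ∀ z ∈ R, ffTr Γ' d z ∈ R := by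
        intro z hz
        rw [hR] at hz ⊢
        have h2 := hz.map (f := (ffTr Γ' d).toRingHom)
        rwa [hQd] at h2
      let σ : Equiv.Perm R := Equiv.ofBijective (fun z => ⟨ffTr Γ' d z, hmaps z z.2⟩)
        (Finite.injective_iff_bijective.1 fun a b hab => Subtype.ext ((ffTr Γ' d).injective (congrArg Subtype.val hab)))
      have ht : t ∈ R := (hR t).2 (by
        rw [Polynomial.IsRoot, Polynomial.eval_map]
        exact hPt)
      have hσ : σ ^ R.card.factorial = 1 := by
        have h3 := pow_card_eq_one (x := σ)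
        rwa [Fintype.card_perm, Fintype.card_coe] at h3
      have hit : ∀ (m : ℕ), (((σ ^ m) ⟨t, ht⟩ : R) : Γ'.left.functionField) = (ffTr Γ' d)^[m] t := by
        intro m
        induction m with
        | zero => rfl
        | succ m ih => rw [pow_succ', Function.iterate_succ_apply', ← ih]; rfl
      have h4 := hit R.card.factorial
      rw [hσ, hpow, hd] at h4
      exact h4.symm
    have hev : ∀ a, ev c a = ev 1 a := fun a => by
      have h1 := glob_injective Γ' ((hτg c a).symm.trans (hct (glob Γ' a)))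
      have h2 := congrArg (ev (1 : 𝟙_ (Over (Spec (CommRingCat.of K))) ⟶ Γ')) h1
      rwa [ev_trL, _root_.mul_one] at h2
    apply Over.OverMorphism.ext
    refine ext_of_isAffine (ConcreteCategory.hom_ext _ _ fun z => ?_)
    exact (ConcreteCategory.bijective_of_isIso (Scheme.ΓSpecIso (CommRingCat.of K)).hom).1 (hev z)
  -- tori
  intro T _ j _ _ hT
  obtain ⟨r, ⟨e⟩⟩ := GenSubLib.exists_split_of_isTorus hT
  haveI : IsMonHom e.inv.hom.hom := e.inv.hom.isMonHom_hom
  haveI : IsMonHom e.hom.hom.hom := e.hom.hom.isMonHom_hom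
  let B := Spec (CommRingCat.of K)
  let E : T ≅ Red.DS B (Fin r → ℤ) := (Grp.forget _).mapIso e
  let D := DSMapLib.dsPt (S := B) (Fin r → ℤ) (𝟙 B)
  let pm : (Multiplicative (Fin r → ℤ) →* K) →* (𝟙_ (Over B) ⟶ Γ') :=
    { toFun := fun χ => D χ ≫ E.inv ≫ j
      map_one' := by
        rw [map_one]
        exact MonObj.one_comp (e.inv.hom.hom ≫ j)
      map_mul' := fun χ χ' => by
        rw [map_mul]
        exact MonObj.mul_comp _ _ (e.inv.hom.hom ≫ j) }
  obtain ⟨hTs, hTq, hTa, hTc⟩ := GenSubLib.torus_props hT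
  haveI := hTs
  haveI : IsReduced T.left := ASp.isReduced_of_smooth T.hom
  haveI : LocallyOfFiniteType T.hom := inferInstance
  haveI : IsSeparated T.hom := GrpSchLib.isSeparated_hom
  rcases Nat.eq_zero_or_pos r with hr | hr
  · refine GenSubLib.isTrivialGrp_of_id_eq_one (eq_of_points fun x => ?_)
    rw [Category.comp_id, MonObj.comp_one, ← cancel_mono e.hom.hom.hom, MonObj.one_comp]
    have hsub : Subsingleton (Multiplicative (Fin r → ℤ) →* K) := by
      subst hr
      exact ⟨fun χ χ' => MonoidHom.ext fun z => by rw [Subsingleton.elim z 1, map_one, map_one]⟩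
    exact D.symm.injective (Subsingleton.elim _ _)
  · exfalso
    obtain ⟨ℓ, hℓ, hℓK⟩ : ∃ ℓ : ℕ, ℓ.Prime ∧ (ℓ : K) ≠ 0 := by
      by_cases h2 : ((2 : ℕ) : K) = 0
      · refine ⟨3, Nat.prime_three, fun h3 => one_ne_zero (α := K) ?_⟩
        push_cast at h2 h3
        linear_combination h3 - h2
      · exact ⟨2, Nat.prime_two, h2⟩
    haveI : NeZero (ℓ : K) := ⟨hℓK⟩
    obtain ⟨ζ, hζ⟩ := HasEnoughRootsOfUnity.exists_primitiveRoot K ℓ
    let i₀ : Fin r := ⟨0, hr⟩
    let mkχ : Kˣ →* (Multiplicative (Fin r → ℤ) →* K) :=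
      { toFun := fun z =>
          { toFun := fun m => ((z ^ (m.toAdd i₀) : Kˣ) : K)
            map_one' := by simp
            map_mul' := fun a b => by simp [zpow_add, toAdd_mul] }
        map_one' := MonoidHom.ext fun m => by simp
        map_mul' := fun a b => MonoidHom.ext fun m => by simp [mul_zpow] }
    let z : Kˣ := (hζ.isUnit hℓ.pos.ne').unit
    have hz : z ^ ℓ = 1 := Units.ext (by simpa [z] using hζ.pow_eq_one)
    have hc : pm (mkχ z) = 1 := by
      refine hkill _ fun M hM => ?_
      obtain ⟨w, hw⟩ := IsAlgClosed.exists_pow_nat_eq (z : K) hM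
      have hw0 : w ≠ 0 := fun h0 => z.ne_zero (by rw [← hw, h0, zero_pow hM.ne'])
      let wu : Kˣ := Units.mk0 w hw0
      have hwu : wu ^ M = z := Units.ext (by simp [wu, hw])
      refine ⟨pm (mkχ wu), by rw [← map_pow, ← map_pow, hwu], orderOf wu, ?_, by rw [← map_pow, ← map_pow, pow_orderOf_eq_one, map_one, map_one]⟩
      have hpos : 0 < orderOf wu := IsOfFinOrder.orderOf_pos (isOfFinOrder_iff_pow_eq_one.2 ⟨M * ℓ, Nat.mul_pos hM hℓ.pos,
        by rw [pow_mul, hwu, hz]⟩)
      have hprim : IsPrimitiveRoot (wu : K) (orderOf wu) := IsPrimitiveRoot.coe_units_iff.2 (IsPrimitiveRoot.orderOf wu)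
      haveI : NeZero (orderOf wu) := ⟨hpos.ne'⟩
      exact hprim.neZero'.out
    have h1 : D (mkχ z) = 1 := by
      have h2 : D (mkχ z) ≫ E.inv ≫ j = 1 := hc
      haveI : IsMonHom E.inv := inferInstanceAs (IsMonHom e.inv.hom.hom)
      haveI : Mono (E.inv ≫ j) := inferInstance
      rw [← cancel_mono (E.inv ≫ j), MonObj.one_comp]
      exact h2
    have h3 : mkχ z = 1 := D.injective (h1.trans (map_one D).symm)
    have h4 := DFunLike.congr_fun h3 (Multiplicative.ofAdd (Pi.single i₀ 1))
    simp [mkχ, z] at h4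
    exact hℓ.one_lt.ne' (hζ.unique (h4 ▸ IsPrimitiveRoot.one))

end Groth.Agent.AffSpecLib
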